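import Cfsg.Agent.Lib.KnownB.TypeM22.Cent
import Cfsg.Agent.Lib.Classical.UnitarySU

/-!
The order and the width of a group of type M(22).
-/

set_option autoImplicit false

namespace CfsgLib.KnownB.TypeM22

open Cfsg CfsgLib.Classical.Unitary CfsgLib.ThreeTransp CfsgLib.ThreeTransp.USix CfsgLib.Involutions
open CfsgLib.Spor (QField)

universe u

variable {F : Type} [Field F] {σ : F →+* F} {hF : Nat.card F = 2 ^ 2} {h : UFrob σ 2}
  {G : Type u} [Group G] [Finite G] {D : Set G} {d : G} {f : Subgroup.closure (nb D d) →* PSU 6 F 2}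

theorem card_psu (hF : Nat.card F = 2 ^ 2) : Nat.card (PSU 6 F 2) = 9196830720 := by
  haveI : Finite F := Nat.finite_of_card_ne_zero (by rw [hF]; norm_num)
  haveI := Fintype.ofFinite F
  have h1 := CfsgLib.Classical.card_PSU_mul (n := 6) hF (by norm_num)
  rw [CfsgLib.Classical.card_GU hF] at h1
  simp only [Finset.prod_range_succ, Finset.prod_range_zero] at h1
  norm_num [parity_simps] at h1
  omega

theorem PMap.card_closure (P : PMap hF h D d f) (S : Setting D) (hP : Maps hF h D) (hd : d ∈ D) :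
    Nat.card (Subgroup.closure (nb D d)) = 2 * 9196830720 := by
  have hker : Nat.card f.ker = 2 := by
    have hW := S.weak
    have hne : d ≠ 1 := fun e => by
      obtain ⟨c, hc, hn⟩ := S.cls.exists_noncommute hd
      exact hn (e ▸ Commute.one_right c)
    rw [show f.ker = Subgroup.center (Subgroup.closure (nb D d)) from Subgroup.ext fun x => P.ker x,
      P.center_eq S hP hd, Nat.card_congr (Subgroup.subgroupOfEquivOfLe
        ((Subgroup.zpowers_le.2 (P.self_mem S hP hd)))).toEquiv, Nat.card_zpowers,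
      orderOf_eq_prime (by rw [pow_two, hW.sq d hd]) hne]
  rw [Subgroup.card_eq_card_quotient_mul_card_subgroup f.ker,
    Nat.card_congr (QuotientGroup.quotientKerEquivOfSurjective f P.surj).toEquiv, card_psu hF, hker]

theorem Setting.card_group (S : Setting D) (hP : Maps hF h D) :
    Nat.card G = 2 ^ 17 * 3 ^ 9 * 5 ^ 2 * 7 * 11 * 13 := by
  obtain ⟨d, hd, -⟩ := S.exists_pair
  obtain ⟨f, P⟩ := hP d hd
  have horb : MulAction.orbit (ConjAct G) d = D := by
    ext x
    simp only [MulAction.mem_orbit_iff, ConjAct.smul_def]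
    constructor
    · rintro ⟨g, rfl⟩; exact S.cls.conj _ d hd
    · intro hx
      obtain ⟨g, hg⟩ := S.cls.trans d hd x hx
      exact ⟨ConjAct.toConjAct g, by simpa using hg⟩
  have h1 := Nat.card_congr (MulAction.orbitProdStabilizerEquivGroup (ConjAct G) d)
  rw [Nat.card_prod, horb, Nat.card_coe_set_eq, (S.counts hP).1,
    Nat.card_congr (Equiv.subtypeEquiv (q := fun x => x ∈ Subgroup.centralizer ({d} : Set G))
      ConjAct.ofConjAct.toEquiv fun g => by
        rw [MulAction.mem_stabilizer_iff, ConjAct.smul_def, Subgroup.mem_centralizer_singleton_iff,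
          mul_inv_eq_iff_eq_mul]; rfl), Nat.card_congr ConjAct.toConjAct.symm.toEquiv] at h1
  rw [← h1]
  rw [show Nat.card ↥(Subgroup.centralizer ({d} : Set G)) = 2 * 9196830720 from
    P.centralizer_eq S hP hd ▸ P.card_closure S hP hd] at *
  norm_num

theorem count_plane : ((Finset.range 4096).filter fun c => (!Nat.beq c 0 && isoN c &&
    (Nat.beq (c / 64 % 4) 0 && Nat.beq (c / 256 % 4) 0 && Nat.beq (c / 1024 % 4) 0)) = true).card = 63 := by
  decide +kernel

omit [Group G] [Finite G] in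
/-- A totally isotropic subspace has dimension at most three. -/
theorem iso_le_three (hF : Nat.card F = 2 ^ 2) (h : UFrob σ 2) {W : Submodule F (V F)}
    (hW : ∀ v ∈ W, ∀ w ∈ W, uh σ v w = 0) : Module.finrank F W ≤ 3 := by
  haveI : Finite F := Nat.finite_of_card_ne_zero (by rw [hF]; norm_num)
  by_contra hno
  obtain ⟨w, hw⟩ := exists_linearIndependent_of_le_finrank (R := F) (M := W) (n := 4) (by omega)
  have hli : LinearIndependent F fun i => (w i : V F) := hw.map' W.subtype W.ker_subtype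
  obtain ⟨r, s, H⟩ := exists_frame hF h
  have hr : LinearIndependent F r := by
    refine Fintype.linearIndependent_iff.2 fun g hg i => ?_
    have := congrArg (fun v => uh σ v (s i)) hg
    fin_cases i <;> simpa [Fin.sum_univ_three, uh_add_left, uh_smul_left, H.rs, uh_zero_left] using this
  obtain ⟨g, hg, hgw⟩ := exists_gu_map h (fun i : Fin 3 => (w (Fin.castSucc i) : V F)) r
    (hli.comp _ (Fin.castSucc_injective 3)) hr fun i j => by rw [H.rr]; exact hW _ (w _).2 _ (w _).2
  have hu : ∀ i, uh σ (g.1.mulVec (w 3 : V F)) (r i) = 0 := fun i => by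
    rw [← hgw i, gu_uh h hg]; exact hW _ (w _).2 _ (w _).2
  have e := plane_coord H hu h
  have hdep : ∑ i, (![uh σ (g.1.mulVec (w 3 : V F)) (s 0), uh σ (g.1.mulVec (w 3 : V F)) (s 1),
      uh σ (g.1.mulVec (w 3 : V F)) (s 2), -1] : Fin 4 → F) i • (w i : V F) = 0 := by
    have hinj : Function.Injective g.1.mulVec := fun a b he => by
      have := congrArg ((g⁻¹).1.mulVec) he
      simpa [Matrix.mulVec_mulVec] using this
    refine hinj ?_
    rw [Matrix.mulVec_zero, Fin.sum_univ_four]
    simp only [Matrix.mulVec_add, Matrix.mulVec_smul]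
    have h0 := hgw 0; have h1 := hgw 1; have h2 := hgw 2
    simp only [Fin.castSucc_zero, Fin.castSucc_one] at h0 h1
    rw [show Fin.castSucc (2 : Fin 3) = (2 : Fin 4) from rfl] at h2
    rw [h0, h1, h2]
    simp only [Matrix.cons_val, neg_smul, one_smul]
    rw [← e, add_neg_cancel]
  simpa using Fintype.linearIndependent_iff.1 hli _ hdep 3

theorem Setting.width (S : Setting D) (hP : Maps hF h D) : commutingWidth D = 22 := by
  haveI : Finite F := Nat.finite_of_card_ne_zero (by rw [hF]; norm_num)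
  have hW := S.weak
  refine le_antisymm (csSup_le ⟨0, ∅, by simp⟩ ?_) (le_csSup ⟨Nat.card G, ?_⟩ ?_)
  · rintro n ⟨E, hE, -, hc, rfl⟩
    rcases E.eq_empty_or_nonempty with rfl | ⟨d, hdE⟩
    · simp
    obtain ⟨f, P⟩ := hP d (hE hdE)
    have hsub : E \ {d} ⊆ nb D d := fun y hy => ⟨hE hy.1, hy.2, hc d hdE y hy.1⟩
    have h1 := P.point_count (E \ {d}) hsub (fun v => ∃ y ∈ E \ {d}, IsPt hF h f y v) fun {y} hy {v} hv _ ey =>
      ⟨fun hyS => ⟨y, hyS, hy, hv, ey⟩, fun ⟨z, hz, hzv⟩ => IsPt.unique P hzv ⟨hy, hv, ey⟩ ▸ hz⟩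
    obtain ⟨T, hT⟩ : ∃ T : Set (V F), T = {v | v ≠ 0 ∧ uh σ v v = 0 ∧ ∃ y ∈ E \ {d}, IsPt hF h f y v} := ⟨_, rfl⟩
    rw [← hT] at h1
    obtain ⟨W, hWd⟩ : ∃ W : Submodule F (V F), W = Submodule.span F T := ⟨_, rfl⟩
    have hiso : ∀ v ∈ W, ∀ w ∈ W, uh σ v w = 0 := by
      intro v hv w hw
      rw [hWd] at hv hw
      induction hv using Submodule.span_induction with
      | zero => exact uh_zero_left _
      | add a b _ _ iha ihb => rw [uh_add_left, iha, ihb, add_zero]
      | smul c a _ iha => rw [uh_smul_left, iha, mul_zero]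
      | mem a ha =>
        induction hw using Submodule.span_induction with
        | zero => exact uh_zero_right _
        | add x z _ _ ihx ihz => rw [uh_add_right, ihx, ihz, add_zero]
        | smul c x _ ihx => rw [uh_smul_right, ihx, mul_zero]
        | mem b hb =>
          rw [hT] at ha hb
          obtain ⟨-, -, y, hy, hya⟩ := ha
          obtain ⟨-, -, z, hz, hzb⟩ := hb
          exact (hya.comm P hW hzb).1 (hc y hy.1 z hz.1)
    have h3 := iso_le_three hF h hiso
    have h4 : T.ncard < Nat.card W := by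
      rw [← SetLike.coe_sort_coe, Nat.card_coe_set_eq]
      exact Set.ncard_lt_ncard ⟨fun v hv => hWd ▸ Submodule.subset_span hv,
        fun hh => (hT ▸ hh W.zero_mem : (0 : V F) ∈ {v : V F | v ≠ 0 ∧ _}).1 rfl⟩ (Set.toFinite _)
    haveI := Fintype.ofFinite F
    rw [Module.natCard_eq_pow_finrank (K := F), hF] at h4
    have h5 : (2 ^ 2) ^ Module.finrank F W ≤ (2 ^ 2) ^ 3 := Nat.pow_le_pow_right (by norm_num) h3
    have h6 := Set.ncard_sdiff_singleton_add_one hdE (Set.toFinite _)
    norm_num at h4 h5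
    omega
  · rintro n ⟨E, -, -, -, rfl⟩
    exact Set.ncard_le_card E
  · obtain ⟨d, hd, -⟩ := S.exists_pair
    obtain ⟨f, P⟩ := hP d hd
    obtain ⟨r, s, H⟩ := exists_frame hF h
    obtain ⟨e⟩ := exists_coord hF
    have hr0 : ∀ i, r i ≠ 0 := fun i e0 => by
      have := H.rs i i; rw [e0, uh_zero_left, if_pos rfl] at this; exact zero_ne_one this
    choose y hy using fun i => exists_isPt P (H.rr i i) (hr0 i)
    have hcomm : ∀ a ∈ nb D d, ∀ b ∈ nb D d, (∀ i, Commute a (y i)) → (∀ i, Commute b (y i)) → Commute a b := by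
      intro a ha b hb hai hbi
      obtain ⟨v, -, hv⟩ := exists_vec P ha
      obtain ⟨w, -, hw⟩ := exists_vec P hb
      refine (hv.comm P hW hw).2 ?_
      rw [plane_coord H (fun i => (hw.comm P hW (hy i)).1 (hbi i)) h]
      simp [uh_add_right, uh_smul_right, fun i => (hv.comm P hW (hy i)).1 (hai i)]
    refine ⟨insert d {a | a ∈ nb D d ∧ ∀ i, Commute a (y i)}, Set.insert_subset hd fun a ha => ha.1.1,
      Set.toFinite _, ?_, ?_⟩
    · rintro a (rfl | ha) b (rfl | hb)
      · exact Commute.refl _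
      · exact hb.1.2.2
      · exact ha.1.2.2.symm
      · exact hcomm a ha.1 b hb.1 ha.2 hb.2
    · rw [Set.ncard_insert_of_notMem fun hh => hh.1.2.1 rfl]
      have h1 := P.point_count {a | a ∈ nb D d ∧ ∀ i, Commute a (y i)} (fun a ha => ha.1)
        (fun v => ∀ i, uh σ v (r i) = 0) fun {a} ha {v} hv _ ey => ⟨fun hh i => (IsPt.comm P hW (show IsPt hF h f a v from ⟨ha, hv, ey⟩) (hy i)).1 (hh.2 i),
          fun hh => ⟨ha, fun i => (IsPt.comm P hW (show IsPt hF h f a v from ⟨ha, hv, ey⟩) (hy i)).2 (hh i)⟩⟩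
      rw [H.count h e _ (fun c => !Nat.beq c 0 && isoN c &&
        (Nat.beq (c / 64 % 4) 0 && Nat.beq (c / 256 % 4) 0 && Nat.beq (c / 1024 % 4) 0)) fun c hc => by
          obtain ⟨a, b, -, -⟩ := cv_props e H h hc
          have hi : ∀ i : Fin 3, uh σ (cv e r s c) (r i) = e (qvec c (Fin.natAdd 3 i)) := fun i => by
            fin_cases i <;> simp [cv, lin, uh_add_left, uh_smul_left, H.rr, H.sr h]
          have hz : ∀ i : Fin 6, e (qvec c i) = 0 ↔ Nat.beq (c / 4 ^ i.val % 4) 0 = true := fun i => by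
            rw [map_eq_zero_iff _ e.injective, nat_beq_iff]
            exact ⟨fun e0 => congrArg (fun x : QField => x.val.val) e0,
              fun e0 => congrArg CfsgLib.Spor.QField.mk (Fin.ext e0)⟩
          simp only [Bool.and_eq_true, ← a, ← b]
          constructor
          · rintro ⟨k1, k2, k3⟩
            exact ⟨⟨k1, k2⟩, ⟨(hz 3).1 ((hi 0).symm.trans (k3 0)), (hz 4).1 ((hi 1).symm.trans (k3 1))⟩,
              (hz 5).1 ((hi 2).symm.trans (k3 2))⟩
          · rintro ⟨⟨k1, k2⟩, ⟨k3, k4⟩, k5⟩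
            refine ⟨k1, k2, fun i => ?_⟩
            rw [hi]; fin_cases i
            · exact (hz 3).2 k3
            · exact (hz 4).2 k4
            · exact (hz 5).2 k5, count_plane] at h1
      omega

end CfsgLib.KnownB.TypeM22
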