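import Cfsg.Agent.Lib.KnownB.TypeM22.Points
import Cfsg.Agent.Lib.Spor.FourField

/-!
Coordinates in a hyperbolic frame, with codes below 4096 for the vectors, and the counts of isotropic
vectors that they give.
-/

set_option autoImplicit false

namespace CfsgLib.KnownB.TypeM22

open Cfsg CfsgLib.Classical.Unitary CfsgLib.ThreeTransp CfsgLib.ThreeTransp.USix
open CfsgLib.Spor (QField)

variable {F : Type} [Field F] {σ : F →+* F}

/-- The vector with given coordinates in a frame. -/
def lin (r s : Fin 3 → V F) (a : Fin 6 → F) : V F :=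
  a 0 • r 0 + a 1 • r 1 + a 2 • r 2 + (a 3 • s 0 + a 4 • s 1 + a 5 • s 2)

/-- The form in coordinates. -/
def bform {R : Type} [CommRing R] (σ : R →+* R) (a b : Fin 6 → R) : R :=
  a 0 * σ (b 3) + a 1 * σ (b 4) + a 2 * σ (b 5) + (a 3 * σ (b 0) + a 4 * σ (b 1) + a 5 * σ (b 2))

theorem Hyp.uh_lin {r s : Fin 3 → V F} (H : Hyp σ r s) (h : UFrob σ 2) (a b : Fin 6 → F) :
    uh σ (lin r s a) (lin r s b) = bform σ a b := by
  simp [lin, bform, uh_add_left, uh_add_right, uh_smul_left, uh_smul_right, H.rr, H.ss, H.rs, H.sr h]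
  ring

theorem Hyp.lin_surj {r s : Fin 3 → V F} (H : Hyp σ r s) (h : UFrob σ 2) :
    Function.Surjective (lin r s) := fun v =>
  ⟨![uh σ v (s 0), uh σ v (s 1), uh σ v (s 2), uh σ v (r 0), uh σ v (r 1), uh σ v (r 2)], by
    refine Eq.trans ?_ (H.expand h v).symm
    simp [lin, Fin.sum_univ_three]⟩

theorem Hyp.lin_inj {r s : Fin 3 → V F} (H : Hyp σ r s) (h : UFrob σ 2) [Finite F] :
    Function.Injective (lin r s) :=
  (Finite.injective_iff_surjective_of_equiv (Equiv.refl _)).2 (H.lin_surj h)

/-- The entry of a code at a position. -/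
def dig (c i : ℕ) : QField := ⟨⟨c / 4 ^ i % 4, Nat.mod_lt _ (Nat.succ_pos 3)⟩⟩

/-- The vector of a code. -/
def qvec (c : ℕ) : Fin 6 → QField := fun i => dig c i.val

theorem qvec_bij : Function.Bijective (fun c : Fin 4096 => qvec c.val) := by
  refine (Fintype.bijective_iff_injective_and_card _).2 ⟨fun a b e => ?_, by
    rw [Fintype.card_fun, Fintype.card_fin, Fintype.card_fin]; rfl⟩
  have h0 : ∀ i : Fin 6, a.val / 4 ^ i.val % 4 = b.val / 4 ^ i.val % 4 := fun i =>
    congrArg (fun x : QField => x.val.val) (congrFun e i)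
  have k0 : a.val / 1 % 4 = b.val / 1 % 4 := h0 0
  have k1 : a.val / 4 % 4 = b.val / 4 % 4 := h0 1
  have k2 : a.val / 16 % 4 = b.val / 16 % 4 := h0 2
  have k3 : a.val / 64 % 4 = b.val / 64 % 4 := h0 3
  have k4 : a.val / 256 % 4 = b.val / 256 % 4 := h0 4
  have k5 : a.val / 1024 % 4 = b.val / 1024 % 4 := h0 5
  exact Fin.ext (by omega)

/-- The product of codes of field elements. -/
def mulN (a b : ℕ) : ℕ := (2625168384 >>> (2 * (4 * a + b))) % 4

/-- The trace of a product in codes. -/
def trN (a b : ℕ) : ℕ :=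
  Nat.xor (mulN a (mulN b b)) (mulN (mulN a (mulN b b)) (mulN a (mulN b b)))

/-- The isotropic codes. -/
def isoN (c : ℕ) : Bool :=
  Nat.beq (Nat.xor (Nat.xor (trN (c % 4) (c / 64 % 4)) (trN (c / 4 % 4) (c / 256 % 4)))
    (trN (c / 16 % 4) (c / 1024 % 4))) 0

/-- The Frobenius of the field. -/
def qsig : QField →+* QField where
  toFun x := x * x
  map_one' := one_mul 1
  map_mul' a b := mul_mul_mul_comm a b a b
  map_zero' := mul_zero 0
  map_add' := by decide +kernel

theorem isoN_spec : ((List.range 4096).all fun c => decide (bform qsig (qvec c) (qvec c) = 0) == isoN c) = true := by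
  decide +kernel

theorem isoN_iff {c : ℕ} (hc : c < 4096) : bform qsig (qvec c) (qvec c) = 0 ↔ isoN c = true := by
  have h1 := List.all_eq_true.1 isoN_spec c (List.mem_range.2 hc)
  rw [beq_iff_eq] at h1
  rw [← h1, decide_eq_true_iff]

variable {e : QField ≃+* F}

/-- The vector of a code in a frame. -/
def cv (e : QField ≃+* F) (r s : Fin 3 → V F) (c : ℕ) : V F := lin r s fun i => e (qvec c i)

theorem sig_comm (hσ : ∀ x, σ x = x ^ 2) (x : QField) : σ (e x) = e (qsig x) := by
  rw [hσ, ← map_pow]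
  congr 1
  show x ^ 2 = x * x
  exact pow_two x

theorem bform_map (hσ : ∀ x, σ x = x ^ 2) (a b : Fin 6 → QField) :
    bform σ (fun i => e (a i)) (fun i => e (b i)) = e (bform qsig a b) := by
  simp only [bform, map_add, map_mul, sig_comm (e := e) hσ]

theorem Hyp.cv_bij {r s : Fin 3 → V F} (H : Hyp σ r s) (h : UFrob σ 2) [Finite F] (e : QField ≃+* F) :
    Function.Bijective (fun c : Fin 4096 => cv e r s c.val) := by
  have h1 : Function.Bijective (fun a : Fin 6 → QField => fun i => e (a i)) :=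
    ⟨fun a b he => funext fun i => e.injective (congrFun he i),
      fun b => ⟨fun i => e.symm (b i), funext fun i => e.apply_symm_apply _⟩⟩
  exact (Function.Bijective.comp ⟨H.lin_inj h, H.lin_surj h⟩ h1).comp qvec_bij

/-- Counting vectors by their codes. -/
theorem Hyp.count {r s : Fin 3 → V F} (H : Hyp σ r s) (h : UFrob σ 2) [Finite F] (e : QField ≃+* F)
    (P : V F → Prop) (p : ℕ → Bool) (hp : ∀ c < 4096, P (cv e r s c) ↔ p c = true) :
    {v | P v}.ncard = ((Finset.range 4096).filter fun c => p c = true).card := by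
  rw [← Set.ncard_coe_finset]
  refine (Set.ncard_congr (fun c _ => cv e r s c) (fun c hc => ?_) (fun a b ha hb he => ?_) fun v hv => ?_).symm
  · rw [Finset.coe_filter, Set.mem_setOf_eq, Finset.mem_range] at hc
    exact (hp c hc.1).2 hc.2
  · rw [Finset.coe_filter, Set.mem_setOf_eq, Finset.mem_range] at ha hb
    exact congrArg Fin.val ((H.cv_bij h e).1 (a₁ := ⟨a, ha.1⟩) (a₂ := ⟨b, hb.1⟩) he)
  · obtain ⟨c, rfl⟩ := (H.cv_bij h e).2 v
    refine ⟨c.val, ?_, rfl⟩
    rw [Finset.coe_filter, Set.mem_setOf_eq, Finset.mem_range]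
    exact ⟨c.2, (hp _ c.2).1 hv⟩

theorem count_all : ((Finset.range 4096).filter fun c => (!Nat.beq c 0 && isoN c) = true).card = 2079 := by
  decide +kernel

theorem count_perp :
    ((Finset.range 4096).filter fun c => (!Nat.beq c 0 && isoN c && Nat.beq (c / 64 % 4) 0) = true).card = 543 := by
  decide +kernel

theorem count_perp_two : ((Finset.range 4096).filter fun c =>
    (!Nat.beq c 0 && isoN c && (Nat.beq (c / 64 % 4) 0 && Nat.beq (c % 4) 0)) = true).card = 135 := by
  decide +kernel

variable (hF : Nat.card F = 2 ^ 2)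

include hF in
theorem exists_coord [Finite F] : Nonempty (QField ≃+* F) := by
  haveI := Fintype.ofFinite F
  exact ⟨FiniteField.ringEquivOfCardEq (K := QField) (K' := F) (by
    rw [← Nat.card_eq_fintype_card (α := F), hF]; rfl)⟩

end CfsgLib.KnownB.TypeM22
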