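import Cfsg.Agent.Lib.KnownB.TypeM22.Kernel
import Cfsg.Agent.Lib.KnownB.TypeM22.Coords
import Cfsg.Agent.Lib.ThreeTransp.LocalThree.Main

/-!
A group of type M(22) has 3510 members: the commuting graph is strongly regular, and the traces of the
identity and of the product of two commuting members leave one value of the last parameter.
-/

set_option autoImplicit false

namespace CfsgLib.KnownB.TypeM22

open Cfsg CfsgLib.Classical.Unitary CfsgLib.ThreeTransp CfsgLib.ThreeTransp.USix CfsgLib.Involutions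
open CfsgLib.ThreeTransp.LocalThree
open scoped Matrix

universe u

variable {F : Type} [Field F] {σ : F →+* F} {hF : Nat.card F = 2 ^ 2} {h : UFrob σ 2}
  {G : Type u} [Group G] {D : Set G} {d : G} {f : Subgroup.closure (nb D d) →* PSU 6 F 2}

/-- A point is three vectors. -/
theorem PMap.point_count (P : PMap hF h D d f) (S : Set G) (hS : S ⊆ nb D d) (Q : V F → Prop)
    (hSQ : ∀ {y} (hy : y ∈ nb D d) {v : V F} (hv : uh σ v v = 0), v ≠ 0 → f (el hy) = USix.pt hF h v hv →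
      (y ∈ S ↔ Q v)) :
    3 * S.ncard = {v | v ≠ 0 ∧ uh σ v v = 0 ∧ Q v}.ncard := by
  haveI : Finite F := Nat.finite_of_card_ne_zero (by rw [hF]; norm_num)
  choose u hu hu0 eu using fun y : S => P.pt (hS y.2)
  have hsm : ∀ (y : S) (c : Fˣ), uh σ ((c : F) • u y) ((c : F) • u y) = 0 := fun y c => by
    rw [uh_smul_left, uh_smul_right, hu]; simp
  have ept : ∀ (y : S) (c : Fˣ), f (el (hS y.2)) = USix.pt hF h ((c : F) • u y) (hsm y c) := fun y c => by
    rw [eu, USix.pt, USix.pt, tr_smul hF h (hu y) c.ne_zero]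
  let φ : S × Fˣ → {v | v ≠ 0 ∧ uh σ v v = 0 ∧ Q v} := fun x =>
    ⟨(x.2 : F) • u x.1, smul_ne_zero x.2.ne_zero (hu0 x.1), hsm x.1 x.2,
      (hSQ _ (hsm x.1 x.2) (smul_ne_zero x.2.ne_zero (hu0 x.1)) (ept x.1 x.2)).1 x.1.2⟩
  have hb : Function.Bijective φ := by
    refine ⟨fun x x' e => ?_, fun v => ?_⟩
    · have e' : (x.2 : F) • u x.1 = (x'.2 : F) • u x'.1 := congrArg Subtype.val e
      have h1 : x.1 = x'.1 := Subtype.ext (P.inj (hS x.1.2) (hS x'.1.2)
        ((ept x.1 x.2).trans ((pt_congr hF h e' _ _).trans (ept x'.1 x'.2).symm)))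
      rw [h1] at e'
      exact Prod.ext h1 (Units.ext (smul_left_injective F (hu0 x'.1) e'))
    · obtain ⟨v, hv0, hv, hQ⟩ := v
      obtain ⟨y, hy, ey⟩ := P.onto v hv hv0
      have hyS : y ∈ S := (hSQ hy hv hv0 ey).2 hQ
      obtain ⟨a, ha⟩ := pt_eq_iff hF h hv (hu ⟨y, hyS⟩) hv0 (ey.symm.trans (eu ⟨y, hyS⟩))
      refine ⟨(⟨y, hyS⟩, Units.mk0 a fun e => hv0 (by rw [ha, e, zero_smul])), Subtype.ext ?_⟩
      exact ha.symm
  have hc := Nat.card_congr (Equiv.ofBijective φ hb)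
  rw [Nat.card_prod, Nat.card_units, hF, Nat.card_coe_set_eq, Nat.card_coe_set_eq] at hc
  rw [← hc]; norm_num [mul_comm]

/-- A frame through a point. -/
theorem exists_frame_at (hF : Nat.card F = 2 ^ 2) (h : UFrob σ 2) {p : V F} (hp : uh σ p p = 0) (hp0 : p ≠ 0) :
    ∃ r s, Hyp σ r s ∧ r 0 = p := by
  obtain ⟨x, hx⟩ := exists_uh_eq_one h hp0
  obtain ⟨c, hc⟩ := iso_shift hF h hp hx
  have h1 : uh σ p (x + c • p) ≠ 0 := fun e => by
    have h2 := h.swap_zero e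
    rw [uh_add_left, uh_smul_left, hx, hp, mul_zero, add_zero] at h2
    exact one_ne_zero h2
  obtain ⟨r, s, H, h0, -⟩ := exists_hyp hF h hp hc h1
  exact ⟨r, s, H, h0⟩

theorem nat_beq_iff {a b : ℕ} : Nat.beq a b = true ↔ a = b := ⟨Nat.eq_of_beq_eq_true, fun e => e ▸ Nat.beq_refl a⟩

omit [Group G] in
theorem cv_props [Finite F] (e : CfsgLib.Spor.QField ≃+* F) {r s : Fin 3 → V F} (H : Hyp σ r s) (h : UFrob σ 2)
    {c : ℕ} (hc : c < 4096) :
    (cv e r s c ≠ 0 ↔ (!Nat.beq c 0) = true) ∧ (uh σ (cv e r s c) (cv e r s c) = 0 ↔ isoN c = true) ∧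
      (uh σ (cv e r s c) (r 0) = 0 ↔ Nat.beq (c / 64 % 4) 0 = true) ∧
      (uh σ (cv e r s c) (s 0) = 0 ↔ Nat.beq (c % 4) 0 = true) := by
  refine ⟨?_, ?_, ?_, ?_⟩
  · have h0 : cv e r s 0 = 0 := by
      have hq : qvec 0 = 0 := by decide
      simp [cv, lin, hq]
    rw [Bool.not_eq_true', ← Bool.not_eq_true, nat_beq_iff, not_iff_not]
    refine ⟨fun e' => ?_, fun e' => by rw [e']; exact h0⟩
    exact congrArg Fin.val ((H.cv_bij h e).1 (a₁ := ⟨c, hc⟩) (a₂ := ⟨0, by norm_num⟩) (e'.trans h0.symm))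
  · rw [cv, H.uh_lin h, bform_map h.pow, map_eq_zero_iff _ e.injective, isoN_iff hc]
  · rw [nat_beq_iff, show uh σ (cv e r s c) (r 0) = e (qvec c 3) by
      simp [cv, lin, uh_add_left, uh_smul_left, H.rr, H.sr h], map_eq_zero_iff _ e.injective]
    exact ⟨fun e' => congrArg (fun x : CfsgLib.Spor.QField => x.val.val) e',
      fun e' => congrArg CfsgLib.Spor.QField.mk (Fin.ext e')⟩
  · rw [nat_beq_iff, show uh σ (cv e r s c) (s 0) = e (qvec c 0) by
      simp [cv, lin, uh_add_left, uh_smul_left, H.ss, H.rs], map_eq_zero_iff _ e.injective]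
    constructor
    · intro e'
      have h1 : c / 1 % 4 = 0 := congrArg (fun x : CfsgLib.Spor.QField => x.val.val) e'
      rwa [Nat.div_one] at h1
    · intro e'
      exact congrArg CfsgLib.Spor.QField.mk (Fin.ext (show c / 1 % 4 = 0 by rwa [Nat.div_one]))

/-- The partners of a member number 693. -/
theorem PMap.nb_ncard (P : PMap hF h D d f) : (nb D d).ncard = 693 := by
  haveI : Finite F := Nat.finite_of_card_ne_zero (by rw [hF]; norm_num)
  obtain ⟨r, s, H⟩ := exists_frame hF h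
  obtain ⟨e⟩ := exists_coord hF
  have h1 := P.point_count (nb D d) subset_rfl (fun _ => True) fun hy _ _ _ _ => ⟨fun _ => trivial, fun _ => hy⟩
  rw [H.count h e _ (fun c => !Nat.beq c 0 && isoN c) fun c hc => by
    obtain ⟨a, b, -, -⟩ := cv_props e H h hc
    rw [Bool.and_eq_true, ← a, ← b]; simp, count_all] at h1
  omega

/-- The partners of a member commuting with one of them. -/
theorem PMap.perp_ncard (P : PMap hF h D d f) (hW : WeakTS D) {w : G} (hw : w ∈ nb D d) :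
    {y | y ∈ nb D d ∧ Commute y w}.ncard = 181 := by
  haveI : Finite F := Nat.finite_of_card_ne_zero (by rw [hF]; norm_num)
  obtain ⟨p, hp, hp0, ep⟩ := P.pt hw
  obtain ⟨r, s, H, hr⟩ := exists_frame_at hF h hp hp0
  obtain ⟨e⟩ := exists_coord hF
  have h1 := P.point_count {y | y ∈ nb D d ∧ Commute y w} (fun _ hy => hy.1) (fun v => uh σ v (r 0) = 0)
    fun hy _ _ _ ey => ⟨fun hc => hr ▸ (P.comm_uh hW hy hw ey ep).1 hc.2,
      fun hc => ⟨hy, (P.comm_uh hW hy hw ey ep).2 (hr ▸ hc)⟩⟩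
  rw [H.count h e _ (fun c => !Nat.beq c 0 && isoN c && Nat.beq (c / 64 % 4) 0) fun c hc => by
    obtain ⟨a, b, b', -⟩ := cv_props e H h hc
    rw [Bool.and_eq_true, Bool.and_eq_true, ← a, ← b, ← b']; tauto, count_perp] at h1
  omega

theorem arith_check : ((List.range 694).all fun m =>
    !Nat.beq (354816 % m) 0 || Nat.beq m 126 || (
      let u : ℤ := (m : ℤ) - 180
      let v : ℤ := 694 + ((354816 / m : ℕ) : ℤ)
      let Δ : ℤ := u * u + 4 * (693 - (m : ℤ))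
      let δ : ℤ := (Nat.sqrt Δ.toNat : ℕ)
      decide (0 < Δ) && decide (u * v - (2 * 693 + u) ≠ 0) && (decide (δ * δ ≠ Δ) ||
        decide ((u * v - (2 * 693 + u)) % δ ≠ 0) ||
        decide ((2 * (v - 1206) + u * 182 - (2 * 693 + u)) % δ ≠ 0)))) = true := by
  decide +kernel

variable [Finite G]

/-- The trace against a product of two commuting members. -/
theorem trace_pair (S : Setting D) (hP : Maps hF h D) {mu : ℕ}
    (hmu : ∀ v ∈ D, ∀ w ∈ D, ¬ Commute v w → (nb D v ∩ nb D w).ncard = mu)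
    (hlam : ∀ v ∈ D, ∀ w ∈ nb D v, (nb D v ∩ nb D w).ncard = 180)
    (hk : ∀ v ∈ D, (nb D v).ncard = 693)
    (hΔ : (0 : ℤ) < ((mu : ℤ) - 180) ^ 2 + 4 * (693 - (mu : ℤ)))
    {a b : G} (ha : a ∈ D) (hb : b ∈ nb D a) :
    ∃ z : ℤ, ((2 * ((D.ncard : ℤ) - 1206) + ((mu : ℤ) - 180) * 182 - (2 * 693 + ((mu : ℤ) - 180)) : ℤ) : ℝ) =
      Real.sqrt ((((mu : ℤ) - 180) ^ 2 + 4 * (693 - (mu : ℤ)) : ℤ) : ℝ) * z := by
  classical
  haveI : Fintype G := Fintype.ofFinite G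
  haveI : Fintype ↥D := Fintype.ofFinite _
  haveI : Nonempty ↥D := ⟨⟨a, ha⟩⟩
  have hW := S.weak
  have hconj := S.cls.conj
  have hsymnb : ∀ i j : ↥D, ((j : G) ∈ nb D (i : G) ↔ (i : G) ∈ nb D (j : G)) := fun i j =>
    ⟨fun hh => LocalThree.nb_symm i.2 hh, fun hh => LocalThree.nb_symm j.2 hh⟩
  have hsym : (adjM D)ᵀ = adjM D := by ext i j; simp only [Matrix.transpose_apply, adjM, hsymnb j i]
  have hrow : ∀ i : ↥D, ∑ j, adjM D i j = ((693 : ℕ) : ℝ) := fun i => by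
    simp only [adjM]
    rw [Finset.sum_boole, card_filter_sub (fun v => v ∈ nb D (i : G)), ← hk i i.2]
    congr 2
    ext v; exact ⟨fun hh => hh.2, fun hh => ⟨hh.1, hh⟩⟩
  have hsq : adjM D * adjM D = ((693 : ℕ) : ℝ) • (1 : Matrix ↥D ↥D ℝ) + ((180 : ℕ) : ℝ) • adjM D +
      (mu : ℝ) • (allOne ↥D - 1 - adjM D) := by
    ext i j
    have e1 : (adjM D * adjM D) i j = (((nb D (i : G) ∩ nb D (j : G)).ncard : ℕ) : ℝ) := by
      rw [← show {v | v ∈ D ∧ (v ∈ nb D (i : G) ∧ v ∈ nb D (j : G))} = nb D (i : G) ∩ nb D (j : G) by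
        ext v; exact ⟨fun hh => hh.2, fun hh => ⟨hh.1.1, hh⟩⟩,
        ← card_filter_sub (fun v => v ∈ nb D (i : G) ∧ v ∈ nb D (j : G)), Matrix.mul_apply, ← Finset.sum_boole]
      refine Finset.sum_congr rfl fun l _ => ?_
      simp only [adjM, hsymnb l j]
      split_ifs <;> simp_all
    rw [e1]
    simp only [Matrix.add_apply, Matrix.smul_apply, Matrix.sub_apply, allOne, adjM, Matrix.one_apply, smul_eq_mul]
    by_cases hij : i = j
    · subst hij
      simp [show (i : G) ∉ nb D (i : G) from fun hh => hh.2.1 rfl, hk i i.2]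
    · by_cases hadj : (j : G) ∈ nb D (i : G)
      · simp [hij, hadj, hlam i i.2 j hadj]
      · simp [hij, hadj, hmu i i.2 j j.2 fun hc => hadj ⟨j.2, fun e => hij (Subtype.ext e.symm), hc⟩]
  set g := a * b with hg
  set τ := conjP hconj g with hτ
  have hgi : g⁻¹ = g := by
    rw [hg, mul_inv_rev, hW.inv ha, hW.inv hb.1, hb.2.2.eq]
  have hinv : ∀ i j, adjM D (τ i) (τ j) = adjM D i j := fun i j => by
    have : ((τ j : ↥D) : G) ∈ nb D ((τ i : ↥D) : G) ↔ (j : G) ∈ nb D (i : G) := by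
      show g * j * g⁻¹ ∈ nb D (g * i * g⁻¹) ↔ _
      rw [nb_conj_eq hconj, Set.mem_image]
      exact ⟨fun ⟨y, hy, e⟩ => (mul_left_cancel (mul_right_cancel e)) ▸ hy, fun hh => ⟨_, hh, rfl⟩⟩
    simp only [adjM, this]
  have hττ : τ * τ = 1 := Equiv.ext fun i => Subtype.ext (by
    show g * (g * (i : G) * g⁻¹) * g⁻¹ = (i : G)
    rw [show g * (g * (i : G) * g⁻¹) * g⁻¹ = (g * g) * i * (g * g)⁻¹ by group,
      mul_eq_one_iff_inv_eq.2 hgi, one_mul, inv_one, mul_one])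
  obtain ⟨h2, -⟩ := srg_conditions hsym hrow hsq (by exact_mod_cast hΔ) τ hinv
  obtain ⟨z, hz⟩ := h2 hττ
  refine ⟨z, ?_⟩
  -- the moves of the product
  have hgv : ∀ v, g * v * g⁻¹ = a * (b * v * b⁻¹) * a⁻¹ := fun v => by rw [hg]; group
  have hone : ∀ {a b v : G}, a ∈ D → b ∈ D → v ∈ D → Commute b v → ¬ Commute a v →
      a * (b * v * b⁻¹) * a⁻¹ ≠ v ∧ ¬ Commute v (a * (b * v * b⁻¹) * a⁻¹) := fun {a b v} ha hb hv hc hn => by
    rw [conj_eq_of_commute hc, hW.inv ha]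
    exact ⟨fun e => hn (by
      have h3 := congrArg (fun x => x * a) e
      simp only [mul_assoc, hW.sq a ha, mul_one] at h3
      exact h3), fun hcv => hn (by
      rw [hW.braid ha hv hn] at hcv
      have h3 := (commute_conj_iff v).2 hcv
      rwa [conj_eq_of_commute (Commute.refl v), hW.inv hv, hW.conj_self hv a, Commute.symm_iff] at h3)⟩
  have hcase : ∀ v ∈ D,
      (g * v * g⁻¹ = v ↔ Commute a v ∧ Commute b v) ∧ (g * v * g⁻¹ ∈ nb D v ↔ ¬ Commute a v ∧ ¬ Commute b v) := by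
    intro v hv
    rw [hgv]
    by_cases h1 : Commute a v <;> by_cases h3 : Commute b v
    · rw [conj_eq_of_commute h3, conj_eq_of_commute h1]
      simp [h1, h3, nb]
    · have e : a * (b * v * b⁻¹) * a⁻¹ = b * (a * v * a⁻¹) * b⁻¹ := by
        rw [← hgv, hg, hb.2.2.eq]; group
      obtain ⟨k1, k2⟩ := hone hb.1 ha hv h1 h3
      rw [e]
      exact ⟨⟨fun e' => absurd e' k1, fun hh => absurd hh.2 h3⟩,
        ⟨fun hh => absurd hh.2.2 k2, fun hh => absurd h1 hh.1⟩⟩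
    · obtain ⟨k1, k2⟩ := hone ha hb.1 hv h3 h1
      exact ⟨⟨fun e' => absurd e' k1, fun hh => absurd hh.1 h1⟩,
        ⟨fun hh => absurd hh.2.2 k2, fun hh => absurd h3 hh.2⟩⟩
    · have hne : g * v * g⁻¹ ≠ v := fun e => hb.2.1 (hW.eq_of_commute_mul hv ha hb.1 hb.2.2
        (fun hh => h1 hh.symm) (fun hh => h3 hh.symm) (mul_inv_eq_iff_eq_mul.1 e).symm).symm
      rw [hgv] at hne
      refine ⟨⟨fun e => absurd e hne, fun hh => absurd hh.1 h1⟩, ⟨fun _ => ⟨h1, h3⟩, fun _ =>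
        ⟨by rw [← hgv]; exact hconj g v hv, hne, ?_⟩⟩⟩
      have := hW.pair_conj_commute hv ha hb.1 hb.2.2 (fun hh => h1 hh.symm) (fun hh => h3 hh.symm)
      rw [hW.inv ha, hW.inv hb.1]
      exact this.symm
  -- the counts
  have hcent : ∀ {x}, x ∈ D → {v | v ∈ D ∧ Commute x v} = insert x (nb D x) := fun {x} hx => by
    ext v
    exact ⟨fun hh => (eq_or_ne v x).imp id fun hne => ⟨hh.1, hne, hh.2⟩, fun hh => hh.elim
      (fun e => e.symm ▸ (⟨hx, Commute.refl x⟩ : x ∈ D ∧ Commute x x)) fun hh => ⟨hh.1, hh.2.2⟩⟩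
  have hins : ∀ {x}, x ∈ D → {v | v ∈ D ∧ Commute x v}.ncard = 694 := fun {x} hx => by
    rw [hcent hx, Set.ncard_insert_of_notMem (fun hh => hh.2.1 rfl), hk x hx]
  have hfix : {v | v ∈ D ∧ (Commute a v ∧ Commute b v)}.ncard = 182 := by
    have e : {v | v ∈ D ∧ (Commute a v ∧ Commute b v)} = insert a (insert b (nb D a ∩ nb D b)) := by
      ext v
      constructor
      · rintro ⟨hv, h1, h3⟩
        rcases eq_or_ne v a with e | hva
        · exact Or.inl e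
        rcases eq_or_ne v b with e | hvb
        · exact Or.inr (Or.inl e)
        exact Or.inr (Or.inr ⟨⟨hv, hva, h1⟩, hv, hvb, h3⟩)
      · rintro (rfl | rfl | ⟨h1, h3⟩)
        · exact ⟨ha, Commute.refl _, hb.2.2.symm⟩
        · exact ⟨hb.1, hb.2.2, Commute.refl _⟩
        · exact ⟨h1.1, h1.2.2, h3.2.2⟩
    rw [e, Set.ncard_insert_of_notMem, Set.ncard_insert_of_notMem, hlam a ha b hb]
    · exact fun hh => hh.2.2.1 rfl
    · rintro (e' | hh)
      · exact hb.2.1 e'.symm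
      · exact hh.1.2.1 rfl
  have hadj : ({v | v ∈ D ∧ (¬ Commute a v ∧ ¬ Commute b v)}.ncard : ℤ) = D.ncard - 1206 := by
    have h1 := Set.ncard_union_add_ncard_inter {v | v ∈ D ∧ Commute a v} {v | v ∈ D ∧ Commute b v}
    rw [hins ha, hins hb.1, show {v | v ∈ D ∧ Commute a v} ∩ {v | v ∈ D ∧ Commute b v} =
      {v | v ∈ D ∧ (Commute a v ∧ Commute b v)} from Set.ext fun v => ⟨fun hh => ⟨hh.1.1, hh.1.2, hh.2.2⟩, fun hh => ⟨⟨hh.1, hh.2.1⟩, hh.1, hh.2.2⟩⟩, hfix] at h1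
    have h2 := Set.ncard_sdiff_add_ncard_of_subset (s := {v | v ∈ D ∧ Commute a v} ∪ {v | v ∈ D ∧ Commute b v})
      (t := D) (fun v hv => hv.elim And.left And.left)
    rw [show D \ ({v | v ∈ D ∧ Commute a v} ∪ {v | v ∈ D ∧ Commute b v}) =
      {v | v ∈ D ∧ (¬ Commute a v ∧ ¬ Commute b v)} by ext v; simp; tauto] at h2
    omega
  -- the trace
  have hn : (Fintype.card ↥D : ℝ) ≠ 0 := Nat.cast_ne_zero.2 Fintype.card_ne_zero
  have hT : srgT (adjM D) ((693 : ℕ) : ℝ) ((mu : ℝ) - ((180 : ℕ) : ℝ)) τ =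
      2 * ({v | v ∈ D ∧ (¬ Commute a v ∧ ¬ Commute b v)}.ncard : ℝ) +
        ((mu : ℝ) - 180) * ({v | v ∈ D ∧ (Commute a v ∧ Commute b v)}.ncard : ℝ) - (2 * 693 + ((mu : ℝ) - 180)) := by
    rw [srgT, trace_mul_perm]
    simp only [srgM, Matrix.sub_apply, Matrix.add_apply, Matrix.smul_apply, smul_eq_mul, allOne, mul_one,
      Matrix.one_apply]
    rw [Finset.sum_sub_distrib, Finset.sum_add_distrib, Finset.sum_const, Finset.card_univ, nsmul_eq_mul,
      ← Finset.mul_sum, ← Finset.mul_sum, Finset.sum_boole, mul_div_cancel₀ _ hn]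
    have ea : ∑ i : ↥D, adjM D (τ i) i =
        (({v | v ∈ D ∧ (¬ Commute a v ∧ ¬ Commute b v)}.ncard : ℕ) : ℝ) := by
      simp only [adjM]
      rw [Finset.sum_boole]
      refine congrArg _ ((card_filter_sub (fun v => v ∈ nb D (g * v * g⁻¹))).trans ?_)
      congr 1
      ext v
      refine and_congr_right fun hv => Iff.trans ?_ (hcase v hv).2
      exact ⟨fun hh => LocalThree.nb_symm (hconj g v hv) hh, fun hh => LocalThree.nb_symm hv hh⟩
    have ef : ((Finset.univ.filter fun i => τ i = i).card : ℝ) =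
        (({v | v ∈ D ∧ (Commute a v ∧ Commute b v)}.ncard : ℕ) : ℝ) := by
      rw [show (Finset.univ.filter fun i => τ i = i) = (Finset.univ.filter fun i : ↥D => g * (i : G) * g⁻¹ = i) from
        Finset.filter_congr fun i _ => by rw [hτ]; exact Subtype.ext_iff,
        card_filter_sub (fun v => g * v * g⁻¹ = v)]
      congr 2
      ext v
      exact and_congr_right fun hv => (hcase v hv).1
    rw [ea, ef]
    norm_num
  rw [hT, hfix] at hz
  have hadj' : ({v | v ∈ D ∧ (¬ Commute a v ∧ ¬ Commute b v)}.ncard : ℝ) = (D.ncard : ℝ) - 1206 := by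
    exact_mod_cast hadj
  rw [hadj'] at hz
  push_cast at hz ⊢
  linarith [hz]

/-- The numbers of a group of type M(22). -/
theorem Setting.counts (S : Setting D) (hP : Maps hF h D) :
    D.ncard = 3510 ∧ (∀ d ∈ D, (nb D d).ncard = 693) ∧
      (∀ a ∈ D, ∀ c ∈ D, ¬ Commute a c → (both D a c).ncard = 126) ∧
      ∀ d ∈ D, {x | x ∈ D ∧ ¬ Commute d x}.ncard = 2816 := by
  have hW := S.weak
  have hk : ∀ v ∈ D, (nb D v).ncard = 693 := fun v hv => by
    obtain ⟨f, P⟩ := hP v hv; exact P.nb_ncard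
  have hlam : ∀ v ∈ D, ∀ w ∈ nb D v, (nb D v ∩ nb D w).ncard = 180 := fun v hv w hw => by
    obtain ⟨f, P⟩ := hP v hv
    have h1 := P.perp_ncard hW hw
    have e : {y | y ∈ nb D v ∧ Commute y w} = insert w (nb D v ∩ nb D w) := by
      ext y
      exact ⟨fun hy => (eq_or_ne y w).imp id fun hne => ⟨hy.1, hy.1.1, hne, hy.2.symm⟩, fun hy => hy.elim
        (fun e => e.symm ▸ (⟨hw, Commute.refl w⟩ : w ∈ nb D v ∧ Commute w w)) fun hy => ⟨hy.1, hy.2.2.2.symm⟩⟩
    rw [e, Set.ncard_insert_of_notMem fun hh => hh.2.2.1 rfl] at h1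
    omega
  obtain ⟨d₁, hd₁, b, hb, hne, hdb⟩ := S.exists_pair
  obtain ⟨c, hc, hdc⟩ := S.cls.exists_noncommute hd₁
  have hdc' : ¬ Commute d₁ c := fun e => hdc e.symm
  obtain ⟨mu, hmu⟩ : ∃ mu, (both D d₁ c).ncard = mu := ⟨_, rfl⟩
  have hsame : ∀ v ∈ D, ∀ w ∈ D, ¬ Commute v w → (both D v w).ncard = mu := fun v hv w hw hvw => by
    obtain ⟨g, hg⟩ := S.cls.trans v hv d₁ hd₁
    have h1 : ¬ Commute d₁ (g * w * g⁻¹) := fun e => hvw ((commute_conj_iff g).1 (hg.symm ▸ e))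
    rw [S.cls.both_ncard ⟨g, hg, rfl⟩, ← hmu]
    exact S.cls.both_ncard (S.cls.rank_three S.prim S.exists_pair hd₁ (S.cls.conj g w hw) hc h1 hdc')
  have hmu' : ∀ v ∈ D, ∀ w ∈ D, ¬ Commute v w → (nb D v ∩ nb D w).ncard = mu := fun v hv w hw hvw => by
    rw [← both_eq_inter hvw]; exact hsame v hv w hw hvw
  -- the non-neighbours
  have hA : ∀ d ∈ D, {x | x ∈ D ∧ ¬ Commute d x}.ncard * mu = 354816 := fun d hd => by
    have h1 := double_count (nb D d) {x | x ∈ D ∧ ¬ Commute d x} Commute 512 mu (fun y hy => ?_) fun x hx => ?_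
    · rw [hk d hd] at h1; omega
    · have h2 : {t | t ∈ {x | x ∈ D ∧ ¬ Commute d x} ∧ Commute y t} =
          nb D y \ insert d (nb D y ∩ nb D d) := by
        ext t
        simp only [Set.mem_setOf_eq, Set.mem_sdiff, Set.mem_insert_iff, Set.mem_inter_iff, nb]
        constructor
        · rintro ⟨⟨ht, hn⟩, hc⟩
          refine ⟨⟨ht, fun e => hn (e ▸ hy.2.2), hc⟩, ?_⟩
          rintro (rfl | ⟨-, -, -, hh⟩)
          · exact hn (Commute.refl _)
          · exact hn hh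
        · rintro ⟨⟨ht, hne, hc⟩, hno⟩
          exact ⟨⟨ht, fun hh => hno ((eq_or_ne t d).imp id fun ne => ⟨⟨ht, hne, hc⟩, ht, ne, hh⟩)⟩, hc⟩
      rw [h2, Set.ncard_sdiff (Set.insert_subset (LocalThree.nb_symm hd hy) Set.inter_subset_left),
        Set.ncard_insert_of_notMem fun hh => hh.2.2.1 rfl, hk y hy.1, hlam y hy.1 d (LocalThree.nb_symm hd hy)]
    · rw [← hsame d hd x hx.1 hx.2, ← show nb D d ∩ nb D x = both D d x from (both_eq_inter hx.2).symm]
      congr 1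
      ext s
      exact ⟨fun hs => ⟨hs.1, hs.1.1, fun e => hx.2 (e ▸ hs.1.2.2), hs.2.symm⟩, fun hs => ⟨hs.1, hs.2.2.2.symm⟩⟩
  have hD : ∀ d ∈ D, D.ncard = 694 + {x | x ∈ D ∧ ¬ Commute d x}.ncard := fun d hd => by
    have e : D = insert d (nb D d) ∪ {x | x ∈ D ∧ ¬ Commute d x} := by
      ext x
      exact ⟨fun hx => by
        by_cases hc : Commute d x
        · exact Or.inl ((eq_or_ne x d).imp id fun ne => ⟨hx, ne, hc⟩)
        · exact Or.inr ⟨hx, hc⟩, fun hx => hx.elim (fun hx => hx.elim (fun e => e ▸ hd) And.left) And.left⟩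
    conv_lhs => rw [e]
    rw [Set.ncard_union_eq, Set.ncard_insert_of_notMem fun hh => hh.2.1 rfl, hk d hd]
    exact Set.disjoint_left.2 fun x hx hx' => hx.elim (fun e => hx'.2 (e ▸ Commute.refl d)) fun hx => hx'.2 hx.2.2
  have hmle : mu < 694 := by
    have := Set.ncard_le_ncard (Set.inter_subset_left (s := nb D d₁) (t := nb D c))
    rw [← both_eq_inter hdc', hmu, hk d₁ hd₁] at this
    omega
  obtain ⟨nA, hnA⟩ : ∃ n, {x | x ∈ D ∧ ¬ Commute d₁ x}.ncard = n := ⟨_, rfl⟩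
  have hmul := hA d₁ hd₁
  rw [hnA] at hmul
  have hm0 : 0 < mu := Nat.pos_of_ne_zero fun e => by rw [e, mul_zero] at hmul; norm_num at hmul
  have hm : mu = 126 := by
    have h1 := List.all_eq_true.1 arith_check mu (List.mem_range.2 hmle)
    have hdiv : 354816 % mu = 0 := by rw [← hmul, Nat.mul_mod_left]
    have hq : 354816 / mu = nA := by rw [← hmul, Nat.mul_div_cancel _ hm0]
    simp only [hdiv, hq, show Nat.beq 0 0 = true from rfl, Bool.not_true, Bool.false_or, Bool.or_eq_true,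
      nat_beq_iff, Bool.and_eq_true, decide_eq_true_eq] at h1
    rcases h1 with e | ⟨⟨hΔ, hT⟩, h1⟩
    · exact e
    exfalso
    have hΔ' : (0 : ℤ) < ((mu : ℤ) - 180) ^ 2 + 4 * (693 - (mu : ℤ)) := by rw [sq]; exact hΔ
    obtain ⟨z1, hz1⟩ := (graph_conditions S.cls.conj (k := 693) (lam := 180) (mu := mu) ⟨d₁, hd₁⟩ hk hlam hmu'
      (by exact_mod_cast hΔ') 1 fun v _ hv => hv.2.1 (by simp)).1 fun v _ => by simp
    rw [show {v | v ∈ D ∧ (1 : G) * v * 1⁻¹ = v} = D by ext v; simp, hD d₁ hd₁, hnA] at hz1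
    obtain ⟨z2, hz2⟩ := trace_pair S hP hmu' hlam hk hΔ' hd₁ (show b ∈ nb D d₁ from ⟨hb, hne.symm, hdb⟩)
    rw [hD d₁ hd₁, hnA] at hz2
    push_cast at hz1 hz2
    obtain ⟨δ, hδ0, hδ, hδr⟩ := exists_sqrt (Δ := ((mu : ℤ) - 180) * ((mu : ℤ) - 180) + 4 * (693 - (mu : ℤ))) hΔ.le
      (T := ((mu : ℤ) - 180) * (694 + (nA : ℤ)) - (2 * 693 + ((mu : ℤ) - 180))) (z := z1) hT
      (by push_cast; rw [← sq]; linarith [hz1])
    have hδn : δ = (Nat.sqrt (((mu : ℤ) - 180) * ((mu : ℤ) - 180) + 4 * (693 - (mu : ℤ))).toNat : ℕ) := by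
      obtain ⟨n, rfl⟩ := Int.eq_ofNat_of_zero_le hδ0
      rw [← hδ, show ((n : ℤ) * n).toNat = n * n from Int.toNat_natCast (n * n), Nat.sqrt_eq]
    push_cast at hδr
    rw [sq, hδr] at hz1 hz2
    rcases h1 with (h1 | h1) | h1
    · exact h1 (hδn ▸ hδ)
    · exact h1 (hδn ▸ Int.emod_eq_zero_of_dvd (dvd_of_real (z := z1) (by push_cast; linarith [hz1])))
    · exact h1 (hδn ▸ Int.emod_eq_zero_of_dvd (dvd_of_real (z := z2) (by push_cast; linarith [hz2])))
  subst hm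
  refine ⟨?_, hk, hsame, fun d hd => ?_⟩
  · rw [hD d₁ hd₁, hnA]; omega
  · have := hA d hd; omega

end CfsgLib.KnownB.TypeM22
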