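import Cfsg.Agent.Lib.KnownB.TypeM22.Tuples
import Cfsg.Agent.Lib.KnownB.Fi22Double.Class

/-!
Every involution of a group of type M(22) is a product of at most three commuting members, and the
centraliser of a product of three.
-/

set_option autoImplicit false
set_option maxRecDepth 100000

namespace CfsgLib.KnownB.TypeM22

open Cfsg CfsgLib.Classical.Unitary CfsgLib.ThreeTransp CfsgLib.ThreeTransp.USix CfsgLib.Involutions
open CfsgLib.KnownB.U62Thompson CfsgLib.KnownB.Fi22Double CfsgLib.KnownB.U62Mult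
open CfsgLib.Spor (QField)

universe u

/-- The sums of one, two or three points of a case. -/
def sumsThree (c : ℕ) : List (List ℕ) :=
  let P := dOf c :: pts c
  P.sublistsLen 1 ++ (P.sublistsLen 2 ++ P.sublistsLen 3)

/-- The classes of these sums. -/
def sumsBits (c : ℕ) : ℕ :=
  (sumsThree c).foldl (fun m l => Nat.lor m (2 ^ canZ (zOf c) (l.foldr Nat.xor 0))) 0

theorem sums_ok : ((List.range 3).all fun c =>
    (List.range 2048).all fun m => Nat.beq (canZ (zOf c) m) 0 || (sumsBits c).testBit (canZ (zOf c) m)) = true := by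
  decide +kernel

theorem sums_spec (c : ℕ) : ∀ (T : List (List ℕ)) (m k : ℕ),
    (T.foldl (fun m l => Nat.lor m (2 ^ canZ (zOf c) (l.foldr Nat.xor 0))) m).testBit k = true →
      m.testBit k = true ∨ ∃ l ∈ T, k = canZ (zOf c) (l.foldr Nat.xor 0)
  | [], m, k, hb => Or.inl hb
  | x :: T, m, k, hb => by
    rcases sums_spec c T _ k hb with r | ⟨l, hl, r⟩
    · change (m ||| 2 ^ canZ (zOf c) (x.foldr Nat.xor 0)).testBit k = true at r
      simp only [Nat.testBit_or, Bool.or_eq_true, Nat.testBit_two_pow, decide_eq_true_eq] at r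
      exact r.imp_right fun e => ⟨x, List.mem_cons_self, e.symm⟩
    · exact Or.inr ⟨l, List.mem_cons_of_mem _ hl, r⟩

variable {F : Type} [Field F] {σ : F →+* F} {hF : Nat.card F = 2 ^ 2} {h : UFrob σ 2}
  {G : Type u} [Group G] [Finite G] {D : Set G} {d : G} {f : Subgroup.closure (nb D d) →* PSU 6 F 2}

theorem zpowers_quot_equiv {X C : Subgroup G} (e : X = C) (z : G)
    (hZ : Subgroup.center X = (Subgroup.zpowers z).subgroupOf X) {K : Type*} [Group K] (φ : X →* K)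
    (hs : Function.Surjective φ) (hk : ∀ x, φ x = 1 ↔ x ∈ Subgroup.center X) :
    ∃ _ : ((Subgroup.zpowers z).subgroupOf C).Normal, Nonempty (C ⧸ (Subgroup.zpowers z).subgroupOf C ≃* K) := by
  subst e
  have hker : φ.ker = (Subgroup.zpowers z).subgroupOf X := hZ ▸ Subgroup.ext fun x => hk x
  haveI hn : ((Subgroup.zpowers z).subgroupOf X).Normal := hker ▸ inferInstance
  exact ⟨hn, ⟨(QuotientGroup.quotientMulEquivOfEq hker.symm).trans (QuotientGroup.quotientKerEquivOfSurjective φ hs)⟩⟩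

/-- The hypothesis on an involution, from the type. -/
theorem Setting.exists_invol (S : Setting D) (hP : Maps hF h D) :
    ∃ d : G, orderOf d = 2 ∧ Cfsg.IsQuasisimple ↥(Subgroup.centralizer ({d} : Set G)) ∧ (∃ (_ : ((Subgroup.zpowers d).subgroupOf (Subgroup.centralizer ({d} : Set G))).Normal) (K : Type) (_ : Field K) (_ : Fintype K), Fintype.card K = 4 ∧ Nonempty (↥(Subgroup.centralizer ({d} : Set G)) ⧸ (Subgroup.zpowers d).subgroupOf (Subgroup.centralizer ({d} : Set G)) ≃* Cfsg.PSU 6 K 2)) ∧ ∃ g : G, g * d * g⁻¹ ∈ Subgroup.centralizer ({d} : Set G) ∧ g * d * g⁻¹ ≠ d := by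
  haveI : Finite F := Nat.finite_of_card_ne_zero (by rw [hF]; norm_num)
  haveI := Fintype.ofFinite F
  obtain ⟨d, hd, y, hy, hne, hdy⟩ := S.exists_pair
  obtain ⟨f, P⟩ := hP d hd
  obtain ⟨g, hg⟩ := S.cls.trans d hd y hy
  obtain ⟨hn, hiso⟩ := zpowers_quot_equiv (P.centralizer_eq S hP hd) d (P.center_eq S hP hd) f P.surj P.ker
  refine ⟨d, orderOf_eq_prime (by rw [pow_two, S.weak.sq d hd]) ?_, P.centralizer_eq S hP hd ▸ P.quasisimple S hP hd,
    ⟨hn, F, inferInstance, inferInstance, by rw [← Nat.card_eq_fintype_card, hF]; norm_num, hiso⟩, g, ?_, ?_⟩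
  · intro e
    obtain ⟨c, -, hc⟩ := S.cls.exists_noncommute hd
    exact hc (e ▸ Commute.one_right c)
  · rw [hg]; exact Subgroup.mem_centralizer_singleton_iff.2 hdy.symm.eq
  · rw [hg]; exact hne.symm

/-- Every involution is a product of at most three commuting members. -/
theorem Setting.invol_prod (S : Setting D) (hP : Maps hF h D) {x : G} (hx : x * x = 1) (hx1 : x ≠ 1) :
    ∃ m : ℕ, 1 ≤ m ∧ m ≤ 3 ∧ ∃ l : List G, l.Nodup ∧ l.length = m ∧ (∀ a ∈ l, a ∈ D) ∧
      (∀ a ∈ l, ∀ b ∈ l, Commute a b) ∧ l.prod = x := by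
  refine Fi22Double.with_ctx (S.exists_invol hP) fun K _ _ e τσ hK hk d δ τ c E C => ?_
  obtain ⟨g, hg⟩ := C.conj_into hx
  obtain ⟨m, hm, hmc, hgm⟩ := C.mem_A0.1 hg
  obtain ⟨a₀, ha₀, -⟩ := S.exists_pair
  have hDc : D = conjugatesOf d := C.eq_conjugates S.cls.ts S.cls.conj ⟨a₀, ha₀⟩
  obtain ⟨ι, hι⟩ : ∃ ι : ℕ → G, ∀ p, ι p = (Subgroup.centralizer ({d} : Set G)).subtype (E p) := ⟨_, fun _ => rfl⟩
  have hzero : E 0 = 1 := CfsgLib.KnownB.Fi22Double.cov_zero_aux C.M.mul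
  have hm0 : canZ (zOf c) m ≠ 0 := fun e0 => hx1 (by
    rw [hmc] at e0
    rw [e0, hzero, map_one] at hgm
    calc x = g⁻¹ * (g * x * g⁻¹) * g := by group
      _ = 1 := by rw [hgm]; group)
  have h1 := List.all_eq_true.1 (List.all_eq_true.1 sums_ok c (List.mem_range.2 C.M.lt)) m (List.mem_range.2 hm)
  simp only [Bool.or_eq_true] at h1
  rcases h1 with h1 | h1
  · exact absurd (Nat.eq_of_beq_eq_true h1) hm0
  rcases sums_spec c _ 0 _ h1 with r | ⟨l, hl, hkl⟩
  · simp at r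
  have hsub : List.Sublist l (dOf c :: pts c) ∧ 1 ≤ l.length ∧ l.length ≤ 3 := by
    simp only [sumsThree, List.mem_append, List.mem_sublistsLen] at hl
    rcases hl with ⟨s, e0⟩ | ⟨s, e0⟩ | ⟨s, e0⟩ <;> exact ⟨s, by omega, by omega⟩
  have hmem : ∀ p ∈ dOf c :: pts c, p < 2048 ∧ C.IsPt (ι p) := by
    intro p hp
    rw [hι]
    rcases List.mem_cons.1 hp with rfl | hp
    · exact ⟨(zOf_pos C.M.lt).2.2.1, by rw [C.d_eq]; exact C.d_pt⟩
    · exact ⟨(pts_spec C.M.lt hp).1, C.pt_iff.2 (Or.inr ⟨p, hp, rfl⟩)⟩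
  have hinj : ∀ p ∈ dOf c :: pts c, ∀ q ∈ dOf c :: pts c, ι p = ι q → p = q := by
    intro p hp q hq e0
    rw [hι, hι] at e0
    rcases List.mem_cons.1 hp with rfl | hp <;> rcases List.mem_cons.1 hq with rfl | hq
    · rfl
    · exact absurd (e0.symm.trans C.d_eq) (C.pts_ne hq)
    · exact absurd (e0.trans C.d_eq) (C.pts_ne hp)
    · exact C.pts_inj hp hq e0
  have hnd : (dOf c :: pts c).Nodup := List.nodup_cons.2
    ⟨fun hp => (pts_spec C.M.lt hp).2.2.1 rfl, List.nodup_range.filter _⟩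
  have hprod : ∀ L : List ℕ, (L.map ι).prod = ι (L.foldr Nat.xor 0) ∧
      ((∀ p ∈ L, p < 2048) → L.foldr Nat.xor 0 < 2048) := by
    intro L
    induction L with
    | nil => exact ⟨by simp [hι, hzero], fun _ => by norm_num⟩
    | cons p L ih =>
      refine ⟨?_, fun hL => U62Thompson.xor_lt (hL p (by simp)) (ih.2 fun q hq => hL q (List.mem_cons_of_mem _ hq))⟩
      rw [List.map_cons, List.prod_cons, ih.1, hι, hι, hι, ← map_mul, C.M.mul]
      rfl
  have hl2048 := (hprod l).2 fun p hp => (hmem p (hsub.1.subset hp)).1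
  have heq : (l.map ι).prod = g * x * g⁻¹ := by
    rw [(hprod l).1, hι, hgm]
    exact ((C.E_eq hm hl2048).2 hkl).symm
  refine ⟨l.length, hsub.2.1, hsub.2.2, (l.map ι).map fun y => g⁻¹ * y * g, ?_, by simp, ?_, ?_, ?_⟩
  · refine List.Nodup.map (fun a b e0 => mul_left_cancel (mul_right_cancel e0)) ?_
    exact List.Nodup.map_on (fun p hp q hq => hinj p (hsub.1.subset hp) q (hsub.1.subset hq)) (hnd.sublist hsub.1)
  · intro a ha
    simp only [List.mem_map] at ha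
    obtain ⟨_, ⟨p, hp, rfl⟩, rfl⟩ := ha
    have := S.cls.conj g⁻¹ (ι p) (hDc ▸ (hmem p (hsub.1.subset hp)).2.2)
    rwa [inv_inv] at this
  · intro a ha b hb
    simp only [List.mem_map] at ha hb
    obtain ⟨_, ⟨p, hp, rfl⟩, rfl⟩ := ha
    obtain ⟨_, ⟨q, hq, rfl⟩, rfl⟩ := hb
    have hc : Commute (ι p) (ι q) := C.comm_A0 (hmem p (hsub.1.subset hp)).2.1 (hmem q (hsub.1.subset hq)).2.1
    simpa using (commute_conj_iff g⁻¹).2 hc
  · have hconj : ∀ L : List G, (L.map fun y => g⁻¹ * y * g).prod = g⁻¹ * L.prod * g := fun L => by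
      induction L with
      | nil => simp
      | cons a L ih => rw [List.map_cons, List.prod_cons, List.prod_cons, ih]; group
    rw [hconj, heq]
    group

omit [Finite G] in
theorem six_perms {x y z : G} (hxy : x ≠ y) (hxz : x ≠ z) (hyz : y ≠ z) :
    {t : G × G × G | t.1 ∈ [x, y, z] ∧ t.2.1 ∈ [x, y, z] ∧ t.2.2 ∈ [x, y, z] ∧ t.1 ≠ t.2.1 ∧ t.1 ≠ t.2.2 ∧
      t.2.1 ≠ t.2.2}.ncard = 6 := by
  classical
  have e : {t : G × G × G | t.1 ∈ [x, y, z] ∧ t.2.1 ∈ [x, y, z] ∧ t.2.2 ∈ [x, y, z] ∧ t.1 ≠ t.2.1 ∧ t.1 ≠ t.2.2 ∧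
      t.2.1 ≠ t.2.2} = ↑({(x, y, z), (x, z, y), (y, x, z), (y, z, x), (z, x, y), (z, y, x)} : Finset (G × G × G)) := by
    ext ⟨a, b, c⟩
    simp only [Set.mem_setOf_eq, Finset.coe_insert, Finset.coe_singleton, Set.mem_insert_iff, Set.mem_singleton_iff,
      Prod.mk.injEq, List.mem_cons, List.not_mem_nil, or_false]
    constructor
    · rintro ⟨ha, hb, hc, h1, h2, h3⟩
      rcases ha with rfl | rfl | rfl <;> rcases hb with rfl | rfl | rfl <;> rcases hc with rfl | rfl | rfl <;>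
        simp_all
    · rintro (⟨rfl, rfl, rfl⟩ | ⟨rfl, rfl, rfl⟩ | ⟨rfl, rfl, rfl⟩ | ⟨rfl, rfl, rfl⟩ | ⟨rfl, rfl, rfl⟩ | ⟨rfl, rfl, rfl⟩) <;>
        simp [hxy, hxz, hyz, hxy.symm, hxz.symm, hyz.symm]
  rw [e, Set.ncard_coe_finset]
  simp [Finset.card_insert_of_notMem, Prod.mk.injEq, hxy, hxz, hyz, hxy.symm, hxz.symm, hyz.symm]

omit [Finite G] in
theorem triples_list {t : G × G × G} :
    t ∈ triples D ↔ IsTriple D (t.1 * t.2.1 * t.2.2) [t.1, t.2.1, t.2.2] := by
  constructor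
  · rintro ⟨h1, h2, h3, h4⟩
    refine ⟨?_, rfl, ?_, ?_, by simp [mul_assoc]⟩
    · simp [h2.2.1.symm, h3.2.1.symm, h4.2.1.symm]
    · simp [h1, h2.1, h3.1]
    · simp [h2.2.2, h3.2.2, h4.2.2, h2.2.2.symm, h3.2.2.symm, h4.2.2.symm]
  · rintro ⟨hn, -, hD, hc, -⟩
    simp only [List.nodup_cons, List.mem_cons, List.not_mem_nil, or_false, not_or] at hn
    exact ⟨hD _ (by simp), ⟨hD _ (by simp), Ne.symm hn.1.1, hc _ (by simp) _ (by simp)⟩,
      ⟨hD _ (by simp), Ne.symm hn.1.2, hc _ (by simp) _ (by simp)⟩,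
      ⟨hD _ (by simp), Ne.symm hn.2.1, hc _ (by simp) _ (by simp)⟩⟩

/-- The centraliser of a product of three commuting members. -/
theorem Setting.triple_centralizer (S : Setting D) (hP : Maps hF h D) {t : G × G × G} (ht : t ∈ triples D) :
    Nat.card (Subgroup.centralizer ({t.1 * t.2.1 * t.2.2} : Set G)) = 2 ^ 16 * 3 ^ 3 := by
  classical
  haveI : Fintype G := Fintype.ofFinite G
  obtain ⟨hD, hk, -, -⟩ := S.counts hP
  -- the ordered triples
  have hT : (triples D).ncard = 3510 * (693 * 180) := by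
    have e : triples D = ↑((Finset.univ : Finset (G × G × G)).filter fun t => t ∈ triples D) := by ext; simp
    rw [e, Set.ncard_coe_finset]
    have e2 : ((Finset.univ : Finset (G × G × G)).filter fun t => t ∈ triples D).card =
        (D.toFinset.sigma fun a => (nb D a).toFinset.sigma fun b => (nb D a ∩ nb D b).toFinset).card := by
      refine Finset.card_bij (fun t _ => ⟨t.1, t.2.1, t.2.2⟩) (fun t ht' => ?_) (fun a _ b _ e0 => ?_) fun b hb => ?_
      · simp only [Finset.mem_filter, Finset.mem_univ, true_and] at ht'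
        simp only [Finset.mem_sigma, Set.mem_toFinset]
        exact ⟨ht'.1, ht'.2.1, ht'.2.2⟩
      · obtain ⟨a1, a2, a3⟩ := a
        obtain ⟨b1, b2, b3⟩ := b
        simp only [Sigma.mk.injEq, heq_eq_eq] at e0
        simp [e0]
      · obtain ⟨b1, b2, b3⟩ := b
        simp only [Finset.mem_sigma, Set.mem_toFinset] at hb
        exact ⟨(b1, b2, b3), Finset.mem_filter.2 ⟨Finset.mem_univ _, hb.1, hb.2.1, hb.2.2.1, hb.2.2.2⟩, rfl⟩
    rw [e2, Finset.card_sigma, Finset.sum_congr rfl fun a ha => ?_, Finset.sum_const, ← Set.ncard_eq_toFinset_card', hD,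
      smul_eq_mul]
    rw [Set.mem_toFinset] at ha
    rw [Finset.card_sigma, Finset.sum_congr rfl fun b hb => ?_, Finset.sum_const, ← Set.ncard_eq_toFinset_card',
      hk a ha, smul_eq_mul]
    rw [Set.mem_toFinset] at hb
    rw [← Set.ncard_eq_toFinset_card', S.inter_ncard hP ha hb]
  -- the products
  obtain ⟨J, hJ⟩ : ∃ J, J = conjugatesOf (t.1 * t.2.1 * t.2.2) := ⟨_, rfl⟩
  have hTJ : ∀ u ∈ triples D, u.1 * u.2.1 * u.2.2 ∈ J := fun u hu => by
    obtain ⟨g, e1, e2, e3⟩ := S.triple_trans hP ht hu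
    rw [hJ]
    refine isConj_iff.2 ⟨g, ?_⟩
    rw [← e1, ← e2, ← e3]; group
  have hfib : ∀ j ∈ J, {u | u ∈ triples D ∧ u.1 * u.2.1 * u.2.2 = j}.ncard = 12 := by
    intro j hj
    rw [hJ] at hj
    obtain ⟨g, hg⟩ := isConj_iff.1 hj
    have hu0 : IsTriple D j [g * t.1 * g⁻¹, g * t.2.1 * g⁻¹, g * t.2.2 * g⁻¹] := by
      have := (triples_list.1 ht).map (MulAut.conj g) fun a ha => S.cls.conj g a ha
      simp only [List.map_cons, List.map_nil, MulAut.conj_apply] at this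
      rwa [hg] at this
    obtain ⟨d₁, hd₁, h2⟩ := special_of_points S.typ
    obtain ⟨l₁, l₂, k1, k2, kne, hall⟩ := S.cls.two_triples_points S.prim hd₁ h2 S.typ hu0
    have hset : {u | u ∈ triples D ∧ u.1 * u.2.1 * u.2.2 = j} =
        {u : G × G × G | u.1 ∈ l₁ ∧ u.2.1 ∈ l₁ ∧ u.2.2 ∈ l₁ ∧ u.1 ≠ u.2.1 ∧ u.1 ≠ u.2.2 ∧ u.2.1 ≠ u.2.2} ∪
          {u : G × G × G | u.1 ∈ l₂ ∧ u.2.1 ∈ l₂ ∧ u.2.2 ∈ l₂ ∧ u.1 ≠ u.2.1 ∧ u.1 ≠ u.2.2 ∧ u.2.1 ≠ u.2.2} := by
      have hin : ∀ {l : List G}, IsTriple D j l → ∀ u : G × G × G, u.1 ∈ l ∧ u.2.1 ∈ l ∧ u.2.2 ∈ l ∧ u.1 ≠ u.2.1 ∧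
          u.1 ≠ u.2.2 ∧ u.2.1 ≠ u.2.2 → u ∈ triples D ∧ u.1 * u.2.1 * u.2.2 = j := by
        intro l hl u ⟨m1, m2, m3, n1, n2, n3⟩
        have hn : [u.1, u.2.1, u.2.2].Nodup := by simp [n1, n2, n3]
        have hsub : [u.1, u.2.1, u.2.2].Subperm l := List.subperm_of_subset hn (by simp [m1, m2, m3])
        have hperm := hsub.perm_of_length_le (by simp [hl.2.1])
        have hcm : ∀ a ∈ [u.1, u.2.1, u.2.2], ∀ b ∈ [u.1, u.2.1, u.2.2], Commute a b :=
          fun a ha b hb => hl.2.2.2.1 a (hperm.subset ha) b (hperm.subset hb)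
        have hp : [u.1, u.2.1, u.2.2].prod = j := (hperm.prod_eq' (List.pairwise_of_forall_mem_list hcm)).trans hl.2.2.2.2
        have htr : IsTriple D j [u.1, u.2.1, u.2.2] := ⟨hn, rfl, fun a ha => hl.2.2.1 a (hperm.subset ha), hcm, hp⟩
        have he : u.1 * u.2.1 * u.2.2 = j := by rw [← hp]; simp [mul_assoc]
        exact ⟨triples_list.2 (he ▸ htr), he⟩
      ext u
      constructor
      · rintro ⟨hu, he⟩
        have htr : IsTriple D j [u.1, u.2.1, u.2.2] := he ▸ triples_list.1 hu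
        have hn := htr.1
        simp only [List.nodup_cons, List.mem_cons, List.not_mem_nil, or_false, not_or] at hn
        rcases hall _ htr with r | r
        · exact Or.inl ⟨(r _).1 (by simp), (r _).1 (by simp), (r _).1 (by simp), hn.1.1, hn.1.2, hn.2.1⟩
        · exact Or.inr ⟨(r _).1 (by simp), (r _).1 (by simp), (r _).1 (by simp), hn.1.1, hn.1.2, hn.2.1⟩
      · rintro (hu | hu)
        · exact hin k1 u hu
        · exact hin k2 u hu
    rw [hset, Set.ncard_union_eq]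
    · obtain ⟨x₁, y₁, z₁, rfl⟩ := List.length_eq_three.1 k1.2.1
      obtain ⟨x₂, y₂, z₂, rfl⟩ := List.length_eq_three.1 k2.2.1
      have n1 := k1.1; have n2 := k2.1
      simp only [List.nodup_cons, List.mem_cons, List.not_mem_nil, or_false, not_or] at n1 n2
      rw [six_perms n1.1.1 n1.1.2 n1.2.1, six_perms n2.1.1 n2.1.2 n2.2.1]
    · exact Set.disjoint_left.2 fun u hu hu' => kne (S.cls.triple_shared S.pCore_two k1 k2 hu.1 hu'.1)
  have hcount : (triples D).ncard * 1 = J.ncard * 12 := by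
    obtain ⟨U, hU⟩ : ∃ U, U = (triples D).toFinset := ⟨_, rfl⟩
    have h1 := Finset.card_eq_sum_card_fiberwise (f := fun u : G × G × G => u.1 * u.2.1 * u.2.2) (s := U)
      (t := J.toFinset) fun u hu => by
        simp only [hU, Set.coe_toFinset] at hu
        simp only [Set.coe_toFinset]
        exact hTJ u hu
    rw [Finset.sum_congr rfl fun j hj => ?_, Finset.sum_const, hU, ← Set.ncard_eq_toFinset_card',
      ← Set.ncard_eq_toFinset_card', smul_eq_mul] at h1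
    · rw [mul_one]; exact h1
    · rw [Set.mem_toFinset] at hj
      rw [← hfib j hj, ← Set.ncard_coe_finset]
      congr 1
      ext u
      simp [hU]
  have hidx : J.ncard * Nat.card (Subgroup.centralizer ({t.1 * t.2.1 * t.2.2} : Set G)) = Nat.card G := by
    have h1 := Nat.card_congr (MulAction.orbitProdStabilizerEquivGroup (ConjAct G) (t.1 * t.2.1 * t.2.2))
    have horb : MulAction.orbit (ConjAct G) (t.1 * t.2.1 * t.2.2) = J := by
      rw [hJ]; ext x
      simp only [MulAction.mem_orbit_iff, conjugatesOf, Set.mem_setOf_eq, isConj_iff]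
      exact ⟨fun ⟨g, hg⟩ => ⟨ConjAct.ofConjAct g, hg⟩, fun ⟨g, hg⟩ => ⟨ConjAct.toConjAct g, hg⟩⟩
    rw [Nat.card_prod, horb, Nat.card_coe_set_eq, Nat.card_congr (Equiv.subtypeEquiv
      (q := fun x => x ∈ Subgroup.centralizer ({t.1 * t.2.1 * t.2.2} : Set G))
      ConjAct.ofConjAct.toEquiv fun g => by
        rw [MulAction.mem_stabilizer_iff, ConjAct.smul_def, Subgroup.mem_centralizer_singleton_iff,
          mul_inv_eq_iff_eq_mul]; rfl), Nat.card_congr ConjAct.toConjAct.symm.toEquiv] at h1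
    exact h1
  rw [S.card_group hP] at hidx
  rw [hT] at hcount
  have hJn : J.ncard = 36486450 := by omega
  rw [hJn] at hidx
  omega

end CfsgLib.KnownB.TypeM22

namespace CfsgLib.KnownB.TypeM22

open Cfsg CfsgLib.Classical.Unitary CfsgLib.ThreeTransp CfsgLib.ThreeTransp.USix CfsgLib.Involutions

universe v

variable {F : Type} [Field F] {σ : F →+* F} {hF : Nat.card F = 2 ^ 2} {h : UFrob σ 2}
  {G : Type v} [Group G] [Finite G] {D : Set G}

theorem Setting.exists_triple (S : Setting D) (hP : Maps hF h D) : (triples D).Nonempty := by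
  obtain ⟨a, ha, b, hb, hne, hab⟩ := S.exists_pair
  have h1 := S.inter_ncard hP ha (show b ∈ nb D a from ⟨hb, hne.symm, hab⟩)
  obtain ⟨c, hc1, hc2⟩ := Set.nonempty_of_ncard_ne_zero (by omega : (nb D a ∩ nb D b).ncard ≠ 0)
  exact ⟨(a, b, c), ha, ⟨hb, hne.symm, hab⟩, hc1, hc2⟩

/-- Every short tuple extends to a triple. -/
theorem Setting.extend (S : Setting D) (hP : Maps hF h D) {l : List G} (hl : ∀ a ∈ l, a ∈ D) (hnd : l.Nodup)
    (hc : ∀ a ∈ l, ∀ b ∈ l, Commute a b) (h1 : 1 ≤ l.length) (h3 : l.length ≤ 3) :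
    ∃ t ∈ triples D, l = [t.1, t.2.1, t.2.2].take l.length := by
  match l, h1, h3 with
  | [a], _, _ =>
    have ha := hl a (by simp)
    obtain ⟨f, P⟩ := hP a ha
    obtain ⟨b, hb⟩ := Set.nonempty_of_ncard_ne_zero (by rw [P.nb_ncard]; norm_num : (nb D a).ncard ≠ 0)
    obtain ⟨c, hc1, hc2⟩ := Set.nonempty_of_ncard_ne_zero
      (by rw [S.inter_ncard hP ha hb]; norm_num : (nb D a ∩ nb D b).ncard ≠ 0)
    exact ⟨(a, b, c), ⟨ha, hb, hc1, hc2⟩, rfl⟩
  | [a, b], _, _ =>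
    have ha := hl a (by simp)
    simp only [List.nodup_cons, List.mem_singleton] at hnd
    have hb : b ∈ nb D a := ⟨hl b (by simp), Ne.symm hnd.1, hc a (by simp) b (by simp)⟩
    obtain ⟨c, hc1, hc2⟩ := Set.nonempty_of_ncard_ne_zero
      (by rw [S.inter_ncard hP ha hb]; norm_num : (nb D a ∩ nb D b).ncard ≠ 0)
    exact ⟨(a, b, c), ⟨ha, hb, hc1, hc2⟩, rfl⟩
  | [a, b, c], _, _ =>
    exact ⟨(a, b, c), triples_list.2 ⟨hnd, rfl, hl, hc, by simp [mul_assoc]⟩, rfl⟩

/-- Products of the same number of members are conjugate. -/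
theorem Setting.prod_conj (S : Setting D) (hP : Maps hF h D) {l l' : List G} (hl : ∀ a ∈ l, a ∈ D) (hnd : l.Nodup)
    (hc : ∀ a ∈ l, ∀ b ∈ l, Commute a b) (hl' : ∀ a ∈ l', a ∈ D) (hnd' : l'.Nodup)
    (hc' : ∀ a ∈ l', ∀ b ∈ l', Commute a b) (hlen : l.length = l'.length) (h1 : 1 ≤ l.length) (h3 : l.length ≤ 3) :
    IsConj l.prod l'.prod := by
  obtain ⟨t, ht, e⟩ := S.extend hP hl hnd hc h1 h3
  obtain ⟨t', ht', e'⟩ := S.extend hP hl' hnd' hc' (hlen ▸ h1) (hlen ▸ h3)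
  obtain ⟨g, g1, g2, g3⟩ := S.triple_trans hP ht ht'
  refine isConj_iff.2 ⟨g, ?_⟩
  rw [← MulAut.conj_apply, map_list_prod]
  congr 1
  rw [e, e', List.map_take, ← hlen]
  simp [g1, g2, g3]

end CfsgLib.KnownB.TypeM22
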