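import Cfsg.Agent.Lib.KnownB.TypeM22.Order

/-!
Products of at most three commuting members: no shorter relation holds, and the group is transitive on the
ordered tuples.
-/

set_option autoImplicit false

namespace CfsgLib.KnownB.TypeM22

open Cfsg CfsgLib.Classical.Unitary CfsgLib.ThreeTransp CfsgLib.ThreeTransp.USix CfsgLib.Involutions
open CfsgLib.Spor (QField)

universe u

variable {F : Type} [Field F] {σ : F →+* F} {hF : Nat.card F = 2 ^ 2} {h : UFrob σ 2}
  {G : Type u} [Group G] [Finite G] {D : Set G} {d : G} {f : Subgroup.closure (nb D d) →* PSU 6 F 2}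

/-- A common neighbourhood of two commuting members. -/
theorem Setting.inter_ncard (S : Setting D) (hP : Maps hF h D) {v w : G} (hv : v ∈ D) (hw : w ∈ nb D v) :
    (nb D v ∩ nb D w).ncard = 180 := by
  obtain ⟨f, P⟩ := hP v hv
  have h1 := P.perp_ncard S.weak hw
  have e : {y | y ∈ nb D v ∧ Commute y w} = insert w (nb D v ∩ nb D w) := by
    ext y
    exact ⟨fun hy => (eq_or_ne y w).imp id fun hne => ⟨hy.1, hy.1.1, hne, hy.2.symm⟩, fun hy => hy.elim
      (fun e => e.symm ▸ (⟨hw, Commute.refl w⟩ : w ∈ nb D v ∧ Commute w w)) fun hy => ⟨hy.1, hy.2.2.2.symm⟩⟩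
  rw [e, Set.ncard_insert_of_notMem fun hh => hh.2.2.1 rfl] at h1
  omega

open scoped _root_.Classical in
/-- No short relation holds between commuting members. -/
theorem Setting.short_rel (S : Setting D) (hP : Maps hF h D) {l : List G} (hl : ∀ a ∈ l, a ∈ D) (hnd : l.Nodup)
    (hc : ∀ a ∈ l, ∀ b ∈ l, Commute a b) (hlen : l.length ≤ 5) (hprod : l.prod = 1) : l = [] := by
  have hW := S.weak
  by_contra hne
  obtain ⟨a, ha⟩ := List.exists_mem_of_ne_nil l hne
  by_cases h5 : l.length = 5
  · obtain ⟨d₁, hd₁, h2⟩ := special_of_points S.typ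
    exact hW.five_impossible S.center h2 hl (fun b hb => S.cls.trans _ (hl b hb) _ hd₁) hnd hc h5 hprod
  have h4 : ∀ x ∈ D, ∀ a ∈ l, ¬ Commute x a → ∀ b ∈ l, ¬ Commute x b := by
    intro x hx a ha hn b hb hcb
    rcases hW.count_moved hx hl hnd hc (hprod ▸ Commute.one_right x) with r | ⟨-, r⟩ | r
    · exact hn (r a ha)
    · have hl4 : (l.filter fun a => decide (¬ Commute x a)).length = 4 := by convert r
      have hsub := List.eq_nil_iff_forall_not_mem (l := l.filter fun a => !decide (¬ Commute x a))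
      have hsum : l.length = (l.filter fun a => decide (¬ Commute x a)).length +
          (l.filter fun a => !decide (¬ Commute x a)).length := by
        convert List.length_eq_length_filter_add (l := l) fun a => decide (¬ Commute x a)
      have h0 : (l.filter fun a => !decide (¬ Commute x a)) = [] := List.length_eq_zero_iff.1 (by omega)
      exact hsub.1 h0 b (List.mem_filter.2 ⟨hb, by simp [hcb]⟩)
    · have h6 : (l.filter fun a => decide (¬ Commute x a)).length ≥ 6 := by convert r
      have := List.length_filter_le (fun a => decide (¬ Commute x a)) l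
      omega
  obtain ⟨x, hx, hxn⟩ := S.cls.exists_noncommute (hl a ha)
  rcases hW.count_moved hx hl hnd hc (hprod ▸ Commute.one_right x) with r | ⟨hl4, r⟩ | r
  · exact hxn (r a ha)
  · -- four members with the same neighbours
    obtain ⟨b, hb, hba⟩ : ∃ b ∈ l, b ≠ a := by
      by_contra hno
      push Not at hno
      have : l ⊆ [a] := fun z hz => by simp [hno z hz]
      have := (List.subperm_of_subset hnd this).length_le
      simp at this
      omega
    have hnb : b ∈ nb D a := ⟨hl b hb, hba, hc a ha b hb⟩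
    obtain ⟨f, P⟩ := hP a (hl a ha)
    have hall : ∀ y ∈ nb D a, Commute y b := fun y hy => Classical.byContradiction fun hn =>
      h4 y hy.1 b hb hn a ha hy.2.2.symm
    have h181 := P.perp_ncard hW hnb
    rw [show {y | y ∈ nb D a ∧ Commute y b} = nb D a from Set.ext fun y => ⟨And.left, fun hy => ⟨hy, hall y hy⟩⟩,
      P.nb_ncard] at h181
    omega
  · have h6 : (l.filter fun a => decide (¬ Commute x a)).length ≥ 6 := by convert r
    have := List.length_filter_le (fun a => decide (¬ Commute x a)) l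
    omega

/-- A product of members determines their number. -/
theorem Setting.length_eq (S : Setting D) (hP : Maps hF h D) {l l' : List G} (hl : ∀ a ∈ l, a ∈ D)
    (hnd : l.Nodup) (hc : ∀ a ∈ l, ∀ b ∈ l, Commute a b) (hlen : l.length ≤ 3) (hl' : ∀ a ∈ l', a ∈ D)
    (hnd' : l'.Nodup) (hc' : ∀ a ∈ l', ∀ b ∈ l', Commute a b) (hlen' : l'.length ≤ 3) (he : l.prod = l'.prod) :
    l.length = l'.length := by
  classical
  by_contra hne
  have hW := S.weak
  have hcross : ∀ a ∈ l, ∀ b ∈ l', Commute a b := fun a ha b hb =>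
    (hW.commute_all_of_short (hl' b hb) hl hnd hc (he ▸ Commute.list_prod_right _ _ fun z hz => hc' b hb z hz)
      hlen a ha).symm
  obtain ⟨A, hA⟩ : ∃ A, A = l.filter fun a => decide (a ∉ l') := ⟨_, rfl⟩
  obtain ⟨B, hB⟩ : ∃ B, B = l'.filter fun a => decide (a ∉ l) := ⟨_, rfl⟩
  obtain ⟨K, hK⟩ : ∃ K, K = l.filter fun a => !decide (a ∉ l') := ⟨_, rfl⟩
  obtain ⟨K', hK'⟩ : ∃ K', K' = l'.filter fun a => !decide (a ∉ l) := ⟨_, rfl⟩
  have hKK : K.Perm K' := by
    refine (List.perm_ext_iff_of_nodup (hK ▸ hnd.filter _) (hK' ▸ hnd'.filter _)).2 fun z => ?_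
    simp [hK, hK', List.mem_filter, and_comm]
  have hp1 : (A ++ K).Perm l := by rw [hA, hK]; exact List.filter_append_perm _ _
  have hp2 : (B ++ K').Perm l' := by rw [hB, hK']; exact List.filter_append_perm _ _
  have e1 := hp1.prod_eq' (List.pairwise_of_forall_mem_list fun a ha b hb => hc a (hp1.subset ha) b (hp1.subset hb))
  have e2 := hp2.prod_eq' (List.pairwise_of_forall_mem_list fun a ha b hb => hc' a (hp2.subset ha) b (hp2.subset hb))
  have e3 := hKK.prod_eq' (List.pairwise_of_forall_mem_list fun a ha b hb =>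
    hc a (hp1.subset (List.mem_append_right _ ha)) b (hp1.subset (List.mem_append_right _ hb)))
  rw [List.prod_append] at e1 e2
  have hAB : A.prod = B.prod := by
    have h1 : A.prod * K.prod = B.prod * K.prod := by rw [e1, e3, e2, he]
    exact mul_right_cancel h1
  have hBsq : B.prod * B.prod = 1 := by
    have : ∀ L : List G, (∀ a ∈ L, a ∈ D) → (∀ a ∈ L, ∀ b ∈ L, Commute a b) → L.prod * L.prod = 1 := by
      intro L hL hLc
      induction L with
      | nil => simp
      | cons a L ih =>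
        have hcomm : Commute a L.prod := Commute.list_prod_right _ _ fun z hz =>
          hLc a (by simp) z (List.mem_cons_of_mem _ hz)
        rw [List.prod_cons, ← pow_two, hcomm.mul_pow, pow_two, pow_two, hW.sq a (hL a (by simp)),
          ih (fun z hz => hL z (List.mem_cons_of_mem _ hz))
            (fun y hy z hz => hLc y (List.mem_cons_of_mem _ hy) z (List.mem_cons_of_mem _ hz)), one_mul]
    exact this B (fun a ha => hl' a (List.mem_filter.1 (hB ▸ ha)).1)
      fun a ha b hb => hc' a (List.mem_filter.1 (hB ▸ ha)).1 b (List.mem_filter.1 (hB ▸ hb)).1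
  have hmA : ∀ a ∈ A, a ∈ l ∧ a ∉ l' := fun a ha => by simpa [hA, List.mem_filter] using ha
  have hmB : ∀ a ∈ B, a ∈ l' ∧ a ∉ l := fun a ha => by simpa [hB, List.mem_filter] using ha
  have hlA : A.length + K.length = l.length := by rw [← List.length_append]; exact hp1.length_eq
  have hlB : B.length + K'.length = l'.length := by rw [← List.length_append]; exact hp2.length_eq
  have hnil := S.short_rel hP (l := A ++ B)
    (fun a ha => (List.mem_append.1 ha).elim (fun q => hl a (hmA a q).1) fun q => hl' a (hmB a q).1)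
    (List.nodup_append.2 ⟨hA ▸ hnd.filter _, hB ▸ hnd'.filter _, fun a ha b hb e => (hmB b hb).2 (e ▸ (hmA a ha).1)⟩)
    (fun a ha b hb => by
      rcases List.mem_append.1 ha with qa | qa <;> rcases List.mem_append.1 hb with qb | qb
      · exact hc a (hmA a qa).1 b (hmA b qb).1
      · exact hcross a (hmA a qa).1 b (hmB b qb).1
      · exact (hcross b (hmA b qb).1 a (hmB a qa).1).symm
      · exact hc' a (hmB a qa).1 b (hmB b qb).1)
    (by rw [List.length_append]; omega) (by rw [List.prod_append, hAB, hBsq])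
  have h0 : A.length = 0 ∧ B.length = 0 := by
    have := congrArg List.length hnil
    rw [List.length_append, List.length_nil] at this
    omega
  have := hKK.length_eq
  omega

/-- The subgroup generated by the partners is transitive on ordered commuting pairs of partners. -/
theorem PMap.pair_trans (P : PMap hF h D d f) (S : Setting D) {a b a' b' : G} (ha : a ∈ nb D d) (hb : b ∈ nb D d)
    (hab : a ≠ b) (cab : Commute a b) (ha' : a' ∈ nb D d) (hb' : b' ∈ nb D d) (hab' : a' ≠ b')
    (cab' : Commute a' b') : ∃ k : G, Commute k d ∧ k * a * k⁻¹ = a' ∧ k * b * k⁻¹ = b' := by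
  haveI : Finite F := Nat.finite_of_card_ne_zero (by rw [hF]; norm_num)
  have hW := S.weak
  obtain ⟨r, s, H⟩ := exists_frame hF h
  have key : ∀ {a b : G}, a ∈ nb D d → b ∈ nb D d → a ≠ b → Commute a b →
      ∃ r' s', Hyp σ r' s' ∧ IsPt hF h f a (r' 0) ∧ IsPt hF h f b (r' 1) ∧
        (colsMat r' s').det = (colsMat r s).det := by
    intro a b ha hb hab cab
    obtain ⟨p, hp0, hp⟩ := exists_vec P ha
    obtain ⟨q, hq0, hq⟩ := exists_vec P hb
    have hli : LinearIndependent F ![p, q] := (LinearIndependent.pair_iff' hp0).2 fun c e0 => hab (by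
      have hc : c ≠ 0 := fun e1 => hq0 (by rw [← e0, e1, zero_smul])
      exact IsPt.unique P ((hp.smul hc).congr e0) hq)
    have hr : LinearIndependent F ![r 0, r 1] := LinearIndependent.pair_iff.2 fun x y e0 => by
      have h0 := congrArg (fun v => uh σ v (s 0)) e0
      have h1 := congrArg (fun v => uh σ v (s 1)) e0
      simp [uh_add_left, uh_smul_left, H.rs, uh_zero_left] at h0 h1
      exact ⟨h0, h1⟩
    obtain ⟨g, hg, hgw⟩ := exists_gu_map h ![r 0, r 1] ![p, q] hr hli fun i j => by
      have hpq := (hp.comm P hW hq).1 cab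
      fin_cases i <;> fin_cases j <;> simp [H.rr, hp.iso, hq.iso, hpq, h.swap_zero hpq]
    have H1 : Hyp σ (fun i => g.1.mulVec (r i)) fun i => g.1.mulVec (s i) :=
      ⟨fun i j => by rw [gu_uh h hg, H.rr], fun i j => by rw [gu_uh h hg, H.ss],
        fun i j => by rw [gu_uh h hg, H.rs]⟩
    obtain ⟨δ, hδ⟩ : ∃ δ, δ = (colsMat r s).det *
        ((colsMat (fun i => g.1.mulVec (r i)) fun i => g.1.mulVec (s i)).det)⁻¹ := ⟨_, rfl⟩
    have hδ0 : δ ≠ 0 := hδ ▸ mul_ne_zero (H.det_ne h) (inv_ne_zero (H1.det_ne h))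
    have hδ3 : δ ^ 3 = 1 := by
      have := norm_one hF h hδ0
      rw [h.pow] at this
      linear_combination this
    obtain ⟨c, hc⟩ : ∃ c : Fin 3 → F, c = ![1, 1, δ ^ 2] := ⟨_, rfl⟩
    have hc0 : ∀ i, c i ≠ 0 := fun i => by subst hc; fin_cases i <;> simp [hδ0]
    refine ⟨fun i => c i • g.1.mulVec (r i), fun i => c i • g.1.mulVec (s i), H1.scale hF h hc0, ?_, ?_, ?_⟩
    · exact hp.congr (by simpa [hc] using (hgw 0).symm)
    · exact hq.congr (by simpa [hc] using (hgw 1).symm)
    · rw [det_scale c, show (c 0 * c 1 * c 2) ^ 2 = δ by subst hc; simp; linear_combination δ * hδ3, hδ,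
        inv_mul_cancel_right₀ (H1.det_ne h)]
  obtain ⟨r₁, s₁, H₁, pa, pb, d1⟩ := key ha hb hab cab
  obtain ⟨r₂, s₂, H₂, pa', pb', d2⟩ := key ha' hb' hab' cab'
  obtain ⟨k, hk, hka⟩ := exists_elem P hW H₁ H₂ (d2.trans d1.symm)
  refine ⟨k, commute_closure_nb hk, ?_, ?_⟩
  · exact IsPt.unique P ((hka a ![1, 0, 0, 0, 0, 0] (pa.congr (by simp [lin]))).congr (by simp [lin])) pa'
  · exact IsPt.unique P ((hka b ![0, 1, 0, 0, 0, 0] (pb.congr (by simp [lin]))).congr (by simp [lin])) pb'

/-- The ordered commuting triples. -/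
def triples (D : Set G) : Set (G × G × G) :=
  {t | t.1 ∈ D ∧ t.2.1 ∈ nb D t.1 ∧ t.2.2 ∈ nb D t.1 ∧ t.2.2 ∈ nb D t.2.1}

/-- The group is transitive on ordered commuting triples. -/
theorem Setting.triple_trans (S : Setting D) (hP : Maps hF h D) {t t' : G × G × G} (ht : t ∈ triples D)
    (ht' : t' ∈ triples D) : ∃ g : G, g * t.1 * g⁻¹ = t'.1 ∧ g * t.2.1 * g⁻¹ = t'.2.1 ∧ g * t.2.2 * g⁻¹ = t'.2.2 := by
  have hW := S.weak
  obtain ⟨g, hg⟩ := S.cls.trans t.1 ht.1 t'.1 ht'.1
  obtain ⟨f, P⟩ := hP t'.1 ht'.1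
  have h1 := hW.nb_conj g ht.2.1
  have h2 := hW.nb_conj g ht.2.2.1
  rw [hg] at h1 h2
  obtain ⟨k, hkd, ka, kb⟩ := P.pair_trans S h1 h2
    (fun e => ht.2.2.2.2.1 (mul_left_cancel (mul_right_cancel e)).symm)
    ((commute_conj_iff g).2 ht.2.2.2.2.2) ht'.2.1 ht'.2.2.1 (Ne.symm ht'.2.2.2.2.1) ht'.2.2.2.2.2
  refine ⟨k * g, ?_, ?_, ?_⟩
  · rw [show k * g * t.1 * (k * g)⁻¹ = k * (g * t.1 * g⁻¹) * k⁻¹ by group, hg, conj_eq_of_commute hkd]
  · rw [show k * g * t.2.1 * (k * g)⁻¹ = k * (g * t.2.1 * g⁻¹) * k⁻¹ by group, ka]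
  · rw [show k * g * t.2.2 * (k * g)⁻¹ = k * (g * t.2.2 * g⁻¹) * k⁻¹ by group, kb]

end CfsgLib.KnownB.TypeM22
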