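import Cfsg.Agent.Lib.KnownB.TypeM22.Frame
import Cfsg.Agent.Lib.ThreeTransp.HexadProduct

/-!
The points of a member in a group of type M(22): the other members commuting with it are the isotropic
points of a six-dimensional unitary space.
-/

set_option autoImplicit false

namespace CfsgLib.KnownB.TypeM22

open Cfsg CfsgLib.Classical.Unitary CfsgLib.ThreeTransp CfsgLib.ThreeTransp.USix CfsgLib.Involutions

universe u

variable {F : Type} [Field F] {σ : F →+* F} {hF : Nat.card F = 2 ^ 2} {h : UFrob σ 2}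
  {G : Type u} [Group G] {D : Set G}

/-- An element of a set inside the subgroup it generates. -/
def el {E : Set G} {y : G} (hy : y ∈ E) : Subgroup.closure E := ⟨y, Subgroup.subset_closure hy⟩

/-- The members commuting with `d` as the points of the space. -/
structure PMap (hF : Nat.card F = 2 ^ 2) (h : UFrob σ 2) (D : Set G) (d : G)
    (f : Subgroup.closure (nb D d) →* PSU 6 F 2) : Prop where
  surj : Function.Surjective f
  ker : ∀ x, f x = 1 ↔ x ∈ Subgroup.center (Subgroup.closure (nb D d))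
  pt : ∀ {y} (hy : y ∈ nb D d), ∃ (u : V F) (hu : uh σ u u = 0), u ≠ 0 ∧ f (el hy) = USix.pt hF h u hu
  inj : ∀ {y z} (hy : y ∈ nb D d) (hz : z ∈ nb D d), f (el hy) = f (el hz) → y = z
  onto : ∀ (u : V F) (hu : uh σ u u = 0), u ≠ 0 → ∃ y, ∃ hy : y ∈ nb D d, f (el hy) = USix.pt hF h u hu

variable {d : G} {f : Subgroup.closure (nb D d) →* PSU 6 F 2}

theorem PMap.comm_iff (P : PMap hF h D d f) (hW : WeakTS D) {y z : G} (hy : y ∈ nb D d) (hz : z ∈ nb D d) :
    Commute y z ↔ Commute (f (el hy)) (f (el hz)) := by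
  refine ⟨fun hc => (show Commute (el hy) (el hz) from Subtype.ext hc.eq).map f, fun hc => ?_⟩
  by_contra hn
  have hb : el hy * el hz * el hy = el hz * el hy * el hz := Subtype.ext (hW.braid hy.1 hz.1 hn)
  have hs : el hy * el hy = 1 := Subtype.ext (hW.sq y hy.1)
  have h1 := congrArg f hb
  rw [map_mul, map_mul, map_mul, map_mul, hc.eq] at h1
  have h2 : f (el hy) = f (el hz) := mul_left_cancel h1
  exact hn (P.inj hy hz h2 ▸ Commute.refl y)

theorem PMap.comm_uh (P : PMap hF h D d f) (hW : WeakTS D) {y z : G} (hy : y ∈ nb D d) (hz : z ∈ nb D d)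
    {u v : V F} {hu : uh σ u u = 0} {hv : uh σ v v = 0} (ey : f (el hy) = USix.pt hF h u hu)
    (ez : f (el hz) = USix.pt hF h v hv) : Commute y z ↔ uh σ u v = 0 := by
  rw [P.comm_iff hW hy hz, ey, ez, pt_commute_iff hF h hu hv]

variable [Finite G]

/-- What is used of type M(22): trivial centre and a member whose partners generate a central cover of PSU(6,2). -/
def HasPointsType (G : Type u) [Group G] (D : Set G) : Prop :=
  Subgroup.center G = ⊥ ∧ ∃ d ∈ D, ∃ c ∈ D, ¬ Commute d c ∧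
    (∃ (F : Type) (_ : Field F) (_ : Fintype F), Fintype.card F = 4 ∧
      Nonempty (↥(Subgroup.closure (nb D d)) ⧸ Subgroup.center ↥(Subgroup.closure (nb D d)) ≃* PSU 6 F 2)) ∧ True

omit [Finite G] in
theorem hasPointsType_of_typeM22 (h : IsOfTypeM22 G D) : HasPointsType G D := by
  obtain ⟨hZ, d, hd, c, hc, hdc, hP, -⟩ := h
  exact ⟨hZ, d, hd, c, hc, hdc, hP, trivial⟩

theorem special_of_points (h : HasPointsType G D) : ∃ d ∈ D,
    pCore 2 (Subgroup.closure (nb D d)) ≤ Subgroup.center (Subgroup.closure (nb D d)) := by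
  obtain ⟨-, d, hd, c, -, -, ⟨F, _, _, hF, ⟨e⟩⟩, -⟩ := h
  obtain ⟨hs, hna, -⟩ := psu_six_simple hF
  haveI := hs
  refine ⟨d, hd, pCore_le_center_of_quot (pCore_eq_bot_of_simple
    (isSimpleGroup_of_equiv e hs) fun hcm => hna ⟨⟨fun a b => e.symm.injective ?_⟩⟩)⟩
  rw [map_mul, map_mul]; exact hcm.is_comm.comm _ _

theorem _root_.CfsgLib.ThreeTransp.TClass.two_triples_points (hC : TClass D) (hp : IsPrimitiveUnderConj D) {d₀ : G}
    (hd₀ : d₀ ∈ D) (hH : pCore 2 (Subgroup.closure (nb D d₀)) ≤ Subgroup.center (Subgroup.closure (nb D d₀)))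
    (h22 : HasPointsType G D) {j : G} {l₀ : List G} (h₀ : IsTriple D j l₀) :
    ∃ l₁ l₂ : List G, IsTriple D j l₁ ∧ IsTriple D j l₂ ∧ ¬ (∀ x, x ∈ l₁ ↔ x ∈ l₂) ∧
      ∀ l, IsTriple D j l → (∀ x, x ∈ l ↔ x ∈ l₁) ∨ ∀ x, x ∈ l ↔ x ∈ l₂ := by
  obtain ⟨hZ, d, hd, c₀, -, -, ⟨F, _, _, hF, ⟨φ₀⟩⟩, -⟩ := h22
  have hW : WeakTS D := weakTS_of_group ⟨hC.ts, hC.conj, hC.gen⟩
  have hL := lineData_of_equiv hF ((hW.sub d).quot (Subgroup.center (Subgroup.closure (nb D d)))) φ₀
  obtain ⟨hn, hlen, hD, hcm, hj⟩ := h₀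
  match l₀, hlen with
  | [a, b, c], _ =>
    obtain ⟨k, hk⟩ := hC.trans a (hD a (by simp)) d hd
    let φ : G ≃* G := MulAut.conj k
    have hφ : ∀ x ∈ D, φ x ∈ D := fun x hx => hC.conj k x hx
    have hφ' : ∀ x ∈ D, φ.symm x ∈ D := fun x hx => by
      simpa [φ] using hC.conj k⁻¹ x hx
    have hφa : φ a = d := by rw [← hk]; rfl
    have hne : a ≠ b ∧ a ≠ c ∧ b ≠ c := by simp at hn; exact ⟨hn.1.1, hn.1.2, hn.2⟩
    have hnb : ∀ x ∈ [b, c], φ x ∈ nb D d := fun x hx => by
      refine hk ▸ hW.nb_conj k ⟨hD x (by simp_all), fun h => ?_, hcm a (by simp) x (by simp_all)⟩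
      simp only [List.mem_cons, List.not_mem_nil, or_false] at hx
      rcases hx with rfl | rfl
      exacts [hne.1 h.symm, hne.2.1 h.symm]
    obtain ⟨l₂, h₂, hdiff, hall⟩ := hC.two_triples_special hp hd₀ hH hZ hd hL
      (hnb b (by simp)) (hnb c (by simp)) (fun h => hne.2.2 (φ.injective h))
      ((hcm b (by simp) c (by simp)).map φ)
    have hj' : φ j = d * (φ b * φ c) := by
      rw [← hj, List.prod_cons, List.prod_cons, List.prod_cons, List.prod_nil, mul_one, map_mul,
        map_mul, hφa]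
    rw [← hj'] at h₂ hall
    have h₂' := h₂.map φ.symm hφ'
    rw [φ.symm_apply_apply] at h₂'
    refine ⟨[a, b, c], l₂.map φ.symm, ⟨hn, rfl, hD, hcm, hj⟩, h₂', fun h => hdiff fun x => ?_,
      fun l hl => ?_⟩
    · have := h (φ.symm x)
      simp only [List.mem_map, EmbeddingLike.apply_eq_iff_eq, exists_eq_right] at this
      rw [← this]
      simp [← hφa, MulEquiv.symm_apply_eq]
    · have hl' := hl.map φ hφ
      rcases hall _ hl' with h | h
      · left
        intro x
        have := h (φ x)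
        simp only [List.mem_map, EmbeddingLike.apply_eq_iff_eq, exists_eq_right] at this
        rw [this]
        simp [← hφa]
      · right
        intro x
        have := h (φ x)
        simp only [List.mem_map, EmbeddingLike.apply_eq_iff_eq, exists_eq_right] at this
        rw [this, List.mem_map]
        constructor
        · intro hx; exact ⟨φ x, hx, φ.symm_apply_apply x⟩
        · rintro ⟨u, hu, rfl⟩; rwa [φ.apply_symm_apply]

/-- The standing hypotheses. -/
structure Setting (D : Set G) : Prop where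
  cls : TClass D
  prim : IsPrimitiveUnderConj D
  typ : HasPointsType G D

theorem Setting.weak (S : Setting D) : WeakTS D :=
  weakTS_of_group ⟨S.cls.ts, S.cls.conj, S.cls.gen⟩

theorem Setting.center (S : Setting D) : Subgroup.center G = ⊥ := S.typ.1

theorem setting_of (hD : IsThreeTranspositionGroup D) (hp : IsPrimitiveUnderConj D) (ht : IsOfTypeM22 G D) :
    Setting D := ⟨tclass_of_primitive hD hp, hp, hasPointsType_of_typeM22 ht⟩

theorem Setting.exists_pair (S : Setting D) : ∃ a ∈ D, ∃ b ∈ D, a ≠ b ∧ Commute a b := by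
  obtain ⟨-, d, hd, c, -, -, ⟨F, _, _, hF, ⟨e⟩⟩, -⟩ := S.typ
  rcases Set.eq_empty_or_nonempty (nb D d) with hE | ⟨b, hb⟩
  · exfalso
    have hs := psu_six_simple hF
    haveI := hs.1
    obtain ⟨x, hx⟩ := exists_ne (1 : PSU 6 F 2)
    obtain ⟨⟨y, hy⟩, hye⟩ := QuotientGroup.mk_surjective (e.symm x)
    have hy1 : y = 1 := by
      have h1 : (Subgroup.closure (nb D d)) = ⊥ := by rw [hE, Subgroup.closure_empty]
      exact Subgroup.mem_bot.1 (h1 ▸ hy)
    refine hx ?_
    have h2 : e.symm x = 1 := hye.symm.trans ((QuotientGroup.eq_one_iff _).2 (by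
      subst hy1; exact one_mem (Subgroup.center _)))
    rw [← e.apply_symm_apply x, h2, map_one]
  · exact ⟨d, hd, b, hb.1, hb.2.1.symm, hb.2.2⟩

theorem Setting.pCore_two (S : Setting D) : pCore 2 G ≤ Subgroup.center G :=
  (S.cls.pCores_central_of_primitive S.prim S.exists_pair).1

/-- The neighbourhood of every member is the point set. -/
theorem Setting.exists_pmap (S : Setting D) :
    ∃ (F : Type) (_ : Field F) (_ : Finite F) (σ : F →+* F) (hF : Nat.card F = 2 ^ 2) (h : UFrob σ 2),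
      ∀ d ∈ D, ∃ f : Subgroup.closure (nb D d) →* PSU 6 F 2, PMap hF h D d f := by
  have hW := S.weak
  obtain ⟨-, d₀, hd₀, c, -, -, ⟨F, _, _, hF, ⟨φ⟩⟩, -⟩ := S.typ
  have hc : Nat.card F = 2 ^ 2 := by rw [Nat.card_eq_fintype_card, hF]; norm_num
  obtain ⟨σ, hσ⟩ := exists_uFrob hc
  refine ⟨F, inferInstance, inferInstance, σ, hc, hσ, fun d hd => ?_⟩
  obtain ⟨k, hk⟩ := S.cls.trans d hd d₀ hd₀
  have hmap : (Subgroup.closure (nb D d)).map (MulAut.conj k).toMonoidHom = Subgroup.closure (nb D d₀) := by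
    rw [MonoidHom.map_closure]
    congr 1
    ext z
    constructor
    · rintro ⟨y, hy, rfl⟩; exact hk ▸ hW.nb_conj k hy
    · intro hz
      refine ⟨k⁻¹ * z * k, ?_, by simp [mul_assoc]⟩
      have := hW.nb_conj k⁻¹ hz
      rwa [inv_inv, ← hk, show k⁻¹ * (k * d * k⁻¹) * k = d by group] at this
  obtain ⟨e, -⟩ : ∃ e : Subgroup.closure (nb D d) ≃* Subgroup.closure (nb D d₀), True :=
    ⟨(Subgroup.equivMapOfInjective _ _ (MulAut.conj k).injective).trans (MulEquiv.subgroupCongr hmap), trivial⟩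
  obtain ⟨f, hf⟩ : ∃ f : Subgroup.closure (nb D d) →* PSU 6 F 2,
      f = φ.toMonoidHom.comp ((QuotientGroup.mk' _).comp e.toMonoidHom) := ⟨_, rfl⟩
  have hsurj : Function.Surjective f := hf ▸
    φ.surjective.comp ((QuotientGroup.mk'_surjective _).comp e.surjective)
  have hker : ∀ x, f x = 1 ↔ x ∈ Subgroup.center (Subgroup.closure (nb D d)) := fun x => by
    rw [hf]
    show φ (QuotientGroup.mk (e x)) = 1 ↔ _
    rw [map_eq_one_iff φ φ.injective]
    refine (QuotientGroup.eq_one_iff (N := Subgroup.center _) (e x)).trans ?_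
    rw [Subgroup.mem_center_iff, Subgroup.mem_center_iff]
    constructor
    · intro hx y; exact e.injective (by rw [map_mul, map_mul]; exact hx (e y))
    · intro hx y
      obtain ⟨z, rfl⟩ := e.surjective y
      rw [← map_mul, ← map_mul, hx z]
  have hW' : WeakTS (f '' inClosure (nb D d)) := by
    have h1 := hW.sub d
    refine ⟨?_, ?_, ?_, ?_⟩
    · rintro _ ⟨a, ha, rfl⟩; rw [← map_mul, h1.sq a ha, map_one]
    · rintro _ ⟨a, ha, rfl⟩ _ ⟨b, hb, rfl⟩
      rcases h1.prod a ha b hb with r | r <;> [left; right] <;> rw [← map_mul, ← map_pow, r, map_one]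
    · intro g
      obtain ⟨g, rfl⟩ := hsurj g
      rintro _ ⟨a, ha, rfl⟩
      exact ⟨g * a * g⁻¹, h1.conj g a ha, by simp⟩
    · rw [← MonoidHom.map_closure, h1.gen, Subgroup.map_top_of_surjective _ hsurj]
  have hw := S.exists_pair
  have h2 := S.pCore_two
  have hne1 : ∀ {y} (hy : y ∈ nb D d), f (el hy) ≠ 1 := fun {y} hy h1 => by
    obtain ⟨z, hz, hn⟩ := S.cls.not_central_nb h2 hd hy
    exact hn (congrArg Subtype.val (Subgroup.mem_center_iff.1 ((hker _).1 h1) (el hz))).symm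
  have hnE : (nb D d).Nonempty := by
    by_contra hE
    rw [Set.not_nonempty_iff_eq_empty] at hE
    haveI := (psu_six_simple (F := F) hF).1
    obtain ⟨x, hx⟩ := exists_ne (1 : PSU 6 F 2)
    obtain ⟨⟨y, hy⟩, rfl⟩ := hsurj x
    have hy1 : y = 1 := by
      have h1 : (Subgroup.closure (nb D d)) = ⊥ := by rw [hE, Subgroup.closure_empty]
      exact Subgroup.mem_bot.1 (h1 ▸ hy)
    subst hy1
    exact hx (map_one f)
  refine ⟨f, hsurj, hker, fun {y} hy => ?_, fun {x y} hx hy he => ?_, fun u hu hu0 => ?_⟩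
  · exact mem_is_pt hc hσ hW' ⟨el hy, hy, rfl⟩ (hne1 hy)
  · have hz : (el hx)⁻¹ * el hy ∈ Subgroup.center (Subgroup.closure (nb D d)) :=
      (hker _).1 (by rw [map_mul, map_inv, he, inv_mul_cancel])
    have hcen : ∀ w ∈ nb D d, Commute w (x * y) := fun w hw' => by
      have h3 := congrArg Subtype.val (Subgroup.mem_center_iff.1 hz (el hw'))
      simp only [Subgroup.coe_mul, InvMemClass.coe_inv, el, hW.inv hx.1] at h3
      exact h3
    have hxy : Commute x y := by
      have h4 : x * (x * y) = x * y * x := (hcen x hx).eq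
      rw [hW.mul_mul_self hx.1] at h4
      calc x * y = x * (x * y * x) := by rw [← h4]
        _ = y * x := by rw [mul_assoc x y x, hW.mul_mul_self hx.1]
    obtain ⟨w, hw', h5, h6⟩ := S.cls.exists_moved_by_both S.prim hd hx hy hxy
    exact hW.eq_of_commute_mul hw'.1 hx.1 hy.1 hxy h5 h6 (hcen w hw')
  · obtain ⟨y, hy⟩ := hnE
    obtain ⟨v, hv, hv0, hye⟩ := mem_is_pt hc hσ hW' ⟨el hy, hy, rfl⟩ (hne1 hy)
    obtain ⟨x, hx, hxe⟩ := pt_mem hc hσ hW' hv hu hv0 hu0 (hye ▸ ⟨el hy, hy, rfl⟩)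
    exact ⟨x, hx, hxe⟩

end CfsgLib.KnownB.TypeM22
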