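import Cfsg.Agent.Lib.KnownB.TypeM22.Coords

/-!
A set of isotropic points closed under the operation of the transvections that contains nine given
points contains all 693, by a table of 693 steps.
-/

set_option autoImplicit false
set_option maxRecDepth 100000

namespace CfsgLib.KnownB.TypeM22

open CfsgLib.Spor (QField)

/-- A code and the two earlier entries it comes from; the first nine are the given points. -/
def steps : List (ℕ × ℕ × ℕ) :=
  [(1,0,0), (4,1,1), (16,2,2), (64,3,3), (256,4,4), (1024,5,5), (21,6,6), (57,7,7), (320,8,8), (65,0,3),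
  (321,0,8), (260,1,4), (324,1,8), (1040,2,5), (85,3,6), (121,3,7), (277,4,6), (569,4,7), (1045,5,6), (3129,5,7),
  (350,7,8), (325,0,12), (84,0,14), (120,0,15), (351,0,20), (273,1,16), (561,1,17), (346,1,20), (1029,2,18), (3081,2,19),
  (257,3,10), (341,3,16), (633,3,17), (1109,3,18), (3193,3,19), (478,3,20), (68,4,12), (1301,4,18), (3641,4,19), (606,4,20),
  (1374,5,20), (108,6,15), (531,6,17), (3078,6,19), (261,9,12), (340,9,16), (632,9,17), (1108,9,18), (3192,9,19), (413,9,20),
  (69,10,11), (276,10,14), (763,10,15), (506,10,17), (4090,10,19), (337,11,14), (625,11,15), (1297,11,18), (3633,11,19), (854,11,20),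
  (949,12,15), (81,12,16), (893,12,17), (4085,12,19), (1093,13,14), (3145,13,15), (1285,13,16), (3593,13,17), (1358,13,20), (710,14,17),
  (3219,14,19), (500,14,20), (395,15,16), (1266,15,18), (3372,16,19), (609,16,20), (1580,17,18), (1355,18,20), (347,0,27), (477,0,35),
  (109,0,41), (415,0,49), (760,0,52), (336,0,55), (624,0,56), (855,0,59), (951,0,60), (80,0,61), (892,0,62), (4086,0,63),
  (1092,0,64), (3144,0,65), (1359,0,68), (709,0,69), (3217,0,70), (503,0,71), (393,0,72), (1265,0,73), (608,0,75), (1354,0,77),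
  (598,1,39), (539,1,42), (409,1,49), (272,1,51), (755,1,52), (510,1,53), (858,1,59), (881,1,62), (1281,1,66), (3585,1,67),
  (496,1,71), (3368,1,74), (617,1,75), (1572,1,76), (3126,2,43), (1365,3,37), (3705,3,38), (734,3,39), (1502,3,40), (723,3,42),
  (3206,3,43), (5,3,50), (571,3,52), (378,3,53), (3962,3,54), (1361,3,57), (3697,3,58), (982,3,59), (17,3,61), (829,3,62),
  (4021,3,63), (1349,3,66), (3657,3,67), (1486,3,68), (582,3,69), (3155,3,70), (331,3,72), (1138,3,73), (545,3,75), (1419,3,77),
  (1630,4,40), (876,4,41), (3334,4,43), (1364,4,47), (3704,4,48), (669,4,49), (20,4,51), (251,4,52), (3578,4,54), (693,4,60),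
  (125,4,62), (3829,4,63), (1614,4,68), (244,4,71), (3628,4,74), (1324,4,76), (1867,4,77), (2156,5,41), (1555,5,42), (1437,5,49),
  (1300,5,51), (3835,5,52), (1878,5,59), (1105,5,61), (3965,5,62), (3572,5,71), (2657,5,75), (583,6,46), (3154,6,48), (590,6,56),
  (3620,6,58), (3171,6,65), (3612,6,67), (290,7,44), (330,7,45), (1139,7,47), (124,7,50), (307,7,51), (335,7,55), (1320,7,57),
  (104,7,61), (1122,7,64), (1340,7,66), (248,8,46), (3832,8,48), (817,8,56), (3953,8,58), (262,8,69), (3923,8,70), (203,8,72),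
  (1650,8,73), (3820,8,74), (1516,8,76), (45,9,41), (720,9,42), (3204,9,43), (443,9,53), (4027,9,54), (1360,9,57), (3696,9,58),
  (917,9,59), (886,9,60), (3959,9,63), (1348,9,66), (3656,9,67), (1421,9,68), (647,9,69), (3282,9,70), (311,9,71), (458,9,72),
  (1203,9,73), (1481,9,77), (880,10,26), (1104,10,57), (3952,10,58), (468,10,59), (190,10,62), (1284,10,64), (3787,10,65), (3530,10,67),
  (3538,10,70), (584,10,72), (1459,10,73), (3823,10,74), (1519,10,76), (3330,11,43), (758,11,53), (3838,11,54), (445,11,60), (3581,11,63),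
  (1345,11,64), (3649,11,65), (1862,11,68), (3876,11,74), (1832,11,76), (1607,11,77), (752,12,23), (1296,12,47), (3824,12,48), (593,12,49),
  (3973,12,65), (1089,12,66), (3917,12,67), (898,12,69), (3935,12,70), (1658,12,73), (4004,12,74), (1896,12,76), (3524,13,71), (2625,13,75),
  (1344,14,37), (4015,14,54), (731,14,56), (3254,14,65), (1457,14,68), (3462,14,74), (715,14,75), (1747,14,76), (1505,14,77), (61,15,36),
  (3648,15,38), (704,15,39), (1472,15,40), (356,15,53), (3940,15,54), (815,15,59), (995,15,62), (3980,15,63), (1488,15,68), (536,15,75),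
  (1452,15,77), (3551,16,63), (3382,16,67), (1892,16,68), (1752,16,73), (1652,16,77), (38,17,30), (1600,17,40), (186,17,49), (3523,17,54),
  (3794,17,63), (1616,17,68), (211,17,71), (1906,17,77), (2487,18,49), (3945,18,59), (2342,19,30), (3197,19,36), (2338,19,44), (2490,19,49),
  (3196,19,50), (3373,19,51), (3951,19,59), (2166,19,61), (3533,19,71), (2630,19,75), (11,20,31), (1778,20,33), (1772,20,37), (1965,20,47),
  (1974,20,57), (1762,20,64), (1788,20,66), (3827,21,34), (3964,21,38), (4023,21,48), (3582,21,58), (1280,21,64), (3779,21,65), (1088,21,66),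
  (3916,21,67), (76,21,69), (3542,21,70), (769,21,72), (1463,21,73), (4006,21,74), (1897,21,76), (1526,22,40), (3922,22,54), (770,22,59),
  (981,22,62), (4001,22,63), (1510,22,68), (3460,22,74), (1744,22,76), (698,23,39), (1466,23,40), (386,23,53), (41,23,61), (921,23,62),
  (1450,23,68), (1495,23,77), (220,24,32), (1967,24,33), (1775,24,37), (1777,24,47), (14,24,55), (1972,24,57), (1983,24,64), (1791,24,66),
  (3571,24,67), (1907,24,76), (1645,25,40), (140,25,49), (1002,25,52), (3544,25,54), (3812,25,63), (1661,25,68), (3458,25,70), (1007,26,35),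
  (1903,26,40), (55,26,51), (489,26,52), (388,26,60), (1919,26,68), (1625,26,77), (803,27,32), (1786,27,33), (1978,27,37), (1953,27,47),
  (1764,27,57), (1770,27,64), (4028,27,65), (1962,27,66), (1448,27,73), (3537,28,35), (2644,28,39), (2455,28,49), (1535,28,53), (3929,28,59),
  (3007,28,60), (1521,28,71), (1636,28,75), (2310,29,30), (3149,29,36), (2306,29,44), (3148,29,50), (3357,29,51), (2134,29,61), (1044,30,37),
  (3131,30,38), (3335,30,43), (3914,30,65), (1028,30,66), (3083,30,67), (1868,30,68), (3729,30,70), (2033,30,73), (3631,30,74), (1327,30,76),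
  (3077,31,54), (3082,31,63), (3613,32,54), (3179,32,63), (19,32,71), (24,32,75), (1749,32,77), (1041,33,36), (3426,33,49), (1710,33,52),
  (3333,33,53), (1795,33,59), (3133,34,36), (1435,34,44), (1283,34,49), (3437,34,51), (2333,34,53), (1231,34,61), (2970,34,62), (3469,34,71),
  (3500,34,77), (116,35,42), (31,35,46), (2029,35,47), (3615,35,48), (36,35,53), (3158,35,58), (3882,35,70), (2034,35,76), (3214,36,43),
  (1025,36,64), (3085,36,65), (3781,36,67), (1410,36,68), (3167,36,70), (1146,36,73), (3432,36,74), (1700,36,76), (1160,37,49), (2428,37,59),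
  (2391,37,62), (1883,38,50), (1509,38,52), (1096,38,59), (2886,38,75), (2930,38,77), (562,39,41), (47,39,56), (3183,39,58), (18,39,60),
  (1708,39,73), (3285,39,74), (2145,40,69), (2860,40,72), (3990,41,54), (910,41,59), (725,41,75), (3558,42,63), (3331,43,44), (2120,43,50),
  (2329,43,51), (3159,43,61), (382,44,56), (89,44,59), (3737,44,70), (142,44,72), (2045,44,73), (3878,44,74), (366,44,75), (1833,44,76),
  (263,45,52), (553,45,62), (1050,45,68), (1055,45,77), (799,46,52), (690,46,59), (1846,46,68), (1199,46,77), (2017,47,60), (2396,47,71),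
  (1589,47,75), (3436,48,51), (2591,48,52), (1994,48,59), (2229,48,61), (1384,48,71), (796,49,53), (1004,49,56), (3402,49,58), (1699,49,64),
  (3890,49,65), (1176,49,66), (3988,49,67), (4072,49,70), (1929,49,73), (1969,49,76), (3286,50,70), (1207,50,73), (3433,50,74), (1702,50,76),
  (3381,51,67), (3128,51,74), (154,52,75), (1239,52,76), (3606,53,65), (113,53,72), (1945,54,69), (2518,54,76), (1197,56,68), (1850,56,77),
  (1253,57,71), (1395,58,75), (1811,59,64), (3554,59,65), (3316,59,67), (1956,59,73), (4049,59,74), (1927,59,76), (1247,60,66), (3174,60,67),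
  (3121,61,70), (1561,62,73), (3710,63,72), (3677,63,73), (3517,65,71), (2918,67,75), (2113,68,69), (2828,68,72), (1536,69,77), (1664,70,75),
  (1286,71,73), (3712,71,74), (1408,71,76), (1216,72,77), (3776,73,75), (1101,75,76), (1417,0,139), (1863,0,232), (896,0,243), (3934,0,244),
  (3527,0,248), (1506,0,258), (992,0,266), (3982,0,267), (1755,0,274), (3793,0,280), (208,0,282), (3944,0,285), (2167,0,293), (923,0,329),
  (3815,0,346), (1660,0,347), (3456,0,348), (1785,0,357), (1976,0,358), (1955,0,359), (1767,0,360), (1769,0,361), (1960,0,363), (2135,0,378),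
  (3178,0,393), (3427,0,398), (1228,0,407), (3471,0,409), (3502,0,410), (3166,0,424), (1147,0,425), (1162,0,428), (2429,0,429), (1097,0,433),
  (2887,0,434), (2144,0,442), (688,0,465), (2397,0,469), (1993,0,473), (2231,0,474), (1385,0,475), (3403,0,478), (1697,0,479), (1178,0,481),
  (4075,0,483), (1931,0,484), (1971,0,485), (1236,0,493), (112,0,495), (1947,0,496), (1254,0,500), (1394,0,501), (3319,0,504), (4050,0,506),
  (1925,0,507), (1244,0,508), (3175,0,509), (3711,0,512), (2919,0,515), (1666,0,519), (3714,0,521), (1100,0,525), (528,1,269), (3369,1,291),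
  (3353,1,377), (3623,1,388), (1323,1,389), (3605,1,392), (3430,1,398), (3329,1,400), (1807,1,401), (1287,1,404), (2424,1,429), (2848,1,443),
  (2392,1,469), (1597,1,470), (2583,1,472), (1990,1,473), (1388,1,475), (784,1,476), (3406,1,478), (1707,1,479), (3902,1,480), (4068,1,483),
  (3377,1,490), (3614,1,494), (1399,1,501), (1823,1,502), (4061,1,506), (1553,1,511), (1672,1,519), (1282,1,520), (3720,1,521), (1573,2,470),
  (2623,2,472), (2010,2,473), (2197,2,474), (3450,2,478), (3080,2,491), (1269,2,500), (3073,2,510), (1680,2,519), (1302,2,520), (3760,2,521),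
  (1117,2,525), (2006,3,162), (3889,3,186), (3454,3,306), (1398,3,317), (1583,3,334), (1599,3,339), (1581,3,342), (3865,3,369), (1685,3,396),
  (3397,3,400), (3086,3,419), (1274,3,425), (3221,3,441), (2081,3,442), (2393,3,450), (3223,3,451), (1143,3,487), (3445,3,490), (1047,3,493),
  (2009,3,496), (2003,3,502), (3185,3,510), (3046,3,515), (2049,3,516), (3320,4,184), (1270,4,317), (1389,4,342), (2199,4,367), (3079,4,381),
  (2005,4,396), (1999,4,407), (2092,4,443), (2841,4,450), (3415,4,451), (1321,4,459), (1688,4,481), (3640,4,491), (2015,4,508), (1049,4,511),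
  (2060,4,517), (2404,5,263), (3043,5,266), (1325,5,291), (1142,5,293), (2582,5,494), (1126,5,509), (3592,6,392), (3137,6,393), (2023,6,418),
  (1721,6,440), (2142,6,442), (2873,6,443), (1168,6,467), (1808,6,499), (1337,7,307), (1127,7,309), (3727,7,386), (3407,7,426), (1383,9,432),
  (2718,11,408), (1792,14,363), (1152,16,338)]

/-- The code of a multiple. -/
def multN (l c : ℕ) : ℕ :=
  mulN l (c % 4) + 4 * (mulN l (c / 4 % 4) + 4 * (mulN l (c / 16 % 4) + 4 * (mulN l (c / 64 % 4) +
    4 * (mulN l (c / 256 % 4) + 4 * mulN l (c / 1024 % 4)))))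

/-- The value of a step. -/
def stepVec (x : ℕ × ℕ × ℕ) : Fin 6 → QField := fun t =>
  qvec (steps.getD x.2.2 (0, 0, 0)).1 t +
    bform qsig (qvec (steps.getD x.2.2 (0, 0, 0)).1) (qvec (steps.getD x.2.1 (0, 0, 0)).1) *
      qvec (steps.getD x.2.1 (0, 0, 0)).1 t

theorem steps_len : steps.length = 693 := by decide +kernel

theorem steps_ok : ((List.range 693).all fun k => Nat.blt k 9 ||
    (Nat.blt (steps.getD k (0, 0, 0)).2.1 k && Nat.blt (steps.getD k (0, 0, 0)).2.2 k &&
      decide (qvec (steps.getD k (0, 0, 0)).1 = stepVec (steps.getD k (0, 0, 0))))) = true := by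
  decide +kernel

theorem multN_ok : ((List.range 693).all fun k => [1, 2, 3].all fun l =>
    decide (qvec (multN l (steps.getD k (0, 0, 0)).1) = fun t => dig l 0 * qvec (steps.getD k (0, 0, 0)).1 t)) = true := by
  decide +kernel

/-- The codes of the multiples of the entries. -/
def cover : ℕ :=
  steps.foldl (fun m x => Nat.lor m (Nat.lor (2 ^ multN 1 x.1) (Nat.lor (2 ^ multN 2 x.1) (2 ^ multN 3 x.1)))) 0

theorem cover_ok : ((List.range 4096).all fun c => Nat.beq c 0 || !isoN c || cover.testBit c) = true := by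
  decide +kernel

theorem cover_spec : ∀ (T : List (ℕ × ℕ × ℕ)) (m c : ℕ),
    (T.foldl (fun m x => Nat.lor m (Nat.lor (2 ^ multN 1 x.1) (Nat.lor (2 ^ multN 2 x.1) (2 ^ multN 3 x.1)))) m).testBit c = true →
      m.testBit c = true ∨ ∃ x ∈ T, ∃ l ∈ [1, 2, 3], c = multN l x.1
  | [], m, c, hb => Or.inl hb
  | x :: T, m, c, hb => by
    rcases cover_spec T _ c hb with r | ⟨y, hy, r⟩
    · change (m ||| (2 ^ multN 1 x.1 ||| (2 ^ multN 2 x.1 ||| 2 ^ multN 3 x.1))).testBit c = true at r
      simp only [Nat.testBit_or, Bool.or_eq_true, Nat.testBit_two_pow, decide_eq_true_eq] at r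
      rcases r with r | r | r | r
      · exact Or.inl r
      all_goals exact Or.inr ⟨x, List.mem_cons_self, _, by simp, r.symm⟩
    · exact Or.inr ⟨y, List.mem_cons_of_mem _ hy, r⟩

/-- The closure of the nine points. -/
theorem closure_all (P : (Fin 6 → QField) → Prop)
    (hsmul : ∀ (a : QField) (v : Fin 6 → QField), a ≠ 0 → P v → P fun t => a * v t)
    (hop : ∀ v w : Fin 6 → QField, P v → P w → P fun t => w t + bform qsig w v * v t)
    (hseed : ∀ k < 9, P (qvec (steps.getD k (0, 0, 0)).1)) {c : ℕ} (hc : c < 4096) (hc0 : c ≠ 0)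
    (hiso : isoN c = true) : P (qvec c) := by
  have hall : ∀ k < 693, P (qvec (steps.getD k (0, 0, 0)).1) := by
    intro k
    induction k using Nat.strong_induction_on with
    | _ k ih =>
      intro hk
      by_cases h9 : k < 9
      · exact hseed k h9
      have h1 := List.all_eq_true.1 steps_ok k (List.mem_range.2 hk)
      simp only [Bool.or_eq_true, Bool.and_eq_true, Nat.blt_eq, decide_eq_true_eq, h9, false_or] at h1
      rw [h1.2]
      exact hop _ _ (ih _ h1.1.1 (h1.1.1.trans hk)) (ih _ h1.1.2 (h1.1.2.trans hk))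
  have h1 := List.all_eq_true.1 cover_ok c (List.mem_range.2 hc)
  simp only [Bool.or_eq_true, Bool.not_eq_true'] at h1
  rcases h1 with (h1 | h1) | h1
  · exact absurd (Nat.eq_of_beq_eq_true h1) hc0
  · exact absurd (hiso.symm.trans h1) (by decide)
  rcases cover_spec steps 0 c h1 with r | ⟨x, hx, l, hl, rfl⟩
  · simp at r
  obtain ⟨k, hk', rfl⟩ : ∃ k < 693, steps.getD k (0, 0, 0) = x := by
    obtain ⟨k, hk, hg⟩ := List.getElem_of_mem hx
    exact ⟨k, Nat.lt_of_lt_of_eq hk steps_len, (List.getD_eq_getElem steps _ hk).trans hg⟩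
  have h2 := List.all_eq_true.1 multN_ok k (List.mem_range.2 hk')
  rw [List.all_eq_true] at h2
  have h3 := of_decide_eq_true (h2 l hl)
  rw [h3]
  refine hsmul _ _ ?_ (hall k hk')
  simp only [List.mem_cons, List.not_mem_nil, or_false] at hl
  rcases hl with rfl | rfl | rfl <;> decide

end CfsgLib.KnownB.TypeM22
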