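import Cfsg.Agent.Lib.KnownB.TypeM22.Count
import Cfsg.Agent.Lib.KnownB.TypeM22.Closure

/-!
The points of a member: elements centralising it act on them as a semilinear map once they do so on nine
of them, and the subgroup generated by the partners moves every frame to every other.
-/

set_option autoImplicit false

namespace CfsgLib.KnownB.TypeM22

open Cfsg CfsgLib.Classical.Unitary CfsgLib.ThreeTransp CfsgLib.ThreeTransp.USix CfsgLib.Involutions
open CfsgLib.Spor (QField)
open Matrix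

universe u

variable {F : Type} [Field F] {σ : F →+* F} {hF : Nat.card F = 2 ^ 2} {h : UFrob σ 2}
  {G : Type u} [Group G] {D : Set G} {d : G} {f : Subgroup.closure (nb D d) →* PSU 6 F 2}

/-- A member is the point of a vector. -/
def IsPt (hF : Nat.card F = 2 ^ 2) (h : UFrob σ 2) (f : Subgroup.closure (nb D d) →* PSU 6 F 2) (y : G)
    (v : V F) : Prop :=
  ∃ (hy : y ∈ nb D d) (hv : uh σ v v = 0), f (el hy) = USix.pt hF h v hv

theorem IsPt.mem {y : G} {v : V F} (p : IsPt hF h f y v) : y ∈ nb D d := p.1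

theorem IsPt.iso {y : G} {v : V F} (p : IsPt hF h f y v) : uh σ v v = 0 := p.2.1

theorem IsPt.unique (P : PMap hF h D d f) {y z : G} {v : V F} (p : IsPt hF h f y v) (q : IsPt hF h f z v) :
    y = z := by
  obtain ⟨hy, _, ey⟩ := p; obtain ⟨hz, _, ez⟩ := q
  exact P.inj hy hz (ey.trans ez.symm)

theorem exists_isPt (P : PMap hF h D d f) {v : V F} (hv : uh σ v v = 0) (hv0 : v ≠ 0) :
    ∃ y, IsPt hF h f y v := by
  obtain ⟨y, hy, ey⟩ := P.onto v hv hv0
  exact ⟨y, hy, hv, ey⟩

theorem exists_vec (P : PMap hF h D d f) {y : G} (hy : y ∈ nb D d) : ∃ v, v ≠ 0 ∧ IsPt hF h f y v := by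
  obtain ⟨v, hv, hv0, ey⟩ := P.pt hy
  exact ⟨v, hv0, hy, hv, ey⟩

theorem IsPt.comm (P : PMap hF h D d f) (hW : WeakTS D) {y z : G} {v w : V F} (p : IsPt hF h f y v)
    (q : IsPt hF h f z w) : Commute y z ↔ uh σ v w = 0 := by
  obtain ⟨hy, hv, ey⟩ := p; obtain ⟨hz, hw, ez⟩ := q
  exact P.comm_uh hW hy hz ey ez

theorem IsPt.smul {y : G} {v : V F} (p : IsPt hF h f y v) {a : F} (ha : a ≠ 0) : IsPt hF h f y (a • v) := by
  obtain ⟨hy, hv, ey⟩ := p
  have hv' : uh σ (a • v) (a • v) = 0 := by rw [uh_smul_left, uh_smul_right, hv]; simp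
  exact ⟨hy, hv', by rw [ey, USix.pt, USix.pt, tr_smul hF h hv ha]⟩

theorem IsPt.congr {y : G} {v w : V F} (p : IsPt hF h f y v) (e : v = w) : IsPt hF h f y w := e ▸ p

theorem IsPt.eq_smul {y : G} {v w : V F} (p : IsPt hF h f y v) (q : IsPt hF h f y w) (hv0 : v ≠ 0) :
    ∃ a : F, v = a • w := by
  obtain ⟨hy, hv, ey⟩ := p; obtain ⟨_, hw, ez⟩ := q
  exact pt_eq_iff hF h hv hw hv0 (ey.symm.trans ez)

theorem IsPt.conj (hW : WeakTS D) {y z : G} {v w : V F} (p : IsPt hF h f y v)
    (q : IsPt hF h f z w) : IsPt hF h f (y * z * y) (w + uh σ w v • v) := by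
  obtain ⟨hy, hv, ey⟩ := p; obtain ⟨hz, hw, ez⟩ := q
  have hm : y * z * y ∈ nb D d := by
    have := hW.nb_conj y hz
    rwa [conj_eq_of_commute hy.2.2.symm, hW.inv hy.1] at this
  have hwv : (tr hF h v hv).1.1 *ᵥ w = w + uh σ w v • v := tr_mulVec hF h v hv w
  have hiso : uh σ (w + uh σ w v • v) (w + uh σ w v • v) = 0 := by rw [← hwv, su_uh h, hw]
  refine ⟨hm, hiso, ?_⟩
  have h1 : el hy * el hz * el hy = el hm := Subtype.ext rfl
  rw [← h1, map_mul, map_mul, ey, ez, USix.pt, USix.pt, USix.pt, ← QuotientGroup.mk_mul,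
    ← QuotientGroup.mk_mul, ← conj_tr hF h (tr hF h v hv) hw hiso hwv,
    inv_eq_of_mul_eq_one_right (tr_sq hF h v hv)]

/-- An element of the subgroup moves points by its matrix. -/
theorem IsPt.act (hW : WeakTS D) {k : Subgroup.closure (nb D d)} {M : SU 6 F 2}
    (hk : f k = QuotientGroup.mk M) {y : G} {v : V F} (p : IsPt hF h f y v) :
    IsPt hF h f (k * y * (k : G)⁻¹) (M.1.1 *ᵥ v) := by
  obtain ⟨hy, hv, ey⟩ := p
  have hm : (k : G) * y * (k : G)⁻¹ ∈ nb D d := by
    have := hW.nb_conj (k : G) hy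
    rwa [conj_eq_of_commute (commute_closure_nb k.2)] at this
  have hiso : uh σ (M.1.1 *ᵥ v) (M.1.1 *ᵥ v) = 0 := by rw [su_uh h, hv]
  refine ⟨hm, hiso, ?_⟩
  have h1 : k * el hy * k⁻¹ = el hm := Subtype.ext rfl
  rw [← h1, map_mul, map_mul, map_inv, hk, ey, USix.pt, USix.pt, ← QuotientGroup.mk_inv,
    ← QuotientGroup.mk_mul, ← QuotientGroup.mk_mul, conj_tr hF h M hv hiso rfl]

/-- An element centralising the member carries points to points. -/
theorem conj_nb (hW : WeakTS D) {g y : G} (hg : Commute g d) (hy : y ∈ nb D d) : g * y * g⁻¹ ∈ nb D d := by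
  have := hW.nb_conj g hy
  rwa [conj_eq_of_commute hg] at this

/-- The vector with given coordinates over the four-element model. -/
def vq (e : QField ≃+* F) (r s : Fin 3 → V F) (a : Fin 6 → QField) : V F := lin r s fun i => e (a i)

variable {e : QField ≃+* F} {r s : Fin 3 → V F}

theorem Hyp.vq_uh (H : Hyp σ r s) (h : UFrob σ 2) (a b : Fin 6 → QField) :
    uh σ (vq e r s a) (vq e r s b) = e (bform qsig a b) := by
  rw [vq, vq, H.uh_lin h, bform_map h.pow]

theorem vq_add (a b : Fin 6 → QField) (x : QField) :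
    vq e r s (fun t => b t + x * a t) = vq e r s b + e x • vq e r s a := by
  simp only [vq, lin, map_add, map_mul, add_smul, ← smul_smul, smul_add]
  abel

theorem vq_smul (a : Fin 6 → QField) (x : QField) : vq e r s (fun t => x * a t) = e x • vq e r s a := by
  simp only [vq, lin, map_mul, ← smul_smul, smul_add]

theorem Hyp.vq_inj (H : Hyp σ r s) (h : UFrob σ 2) [Finite F] : Function.Injective (vq e r s) :=
  fun _ _ he => funext fun i => e.injective (congrFun (H.lin_inj h he) i)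

theorem vq_zero : vq e r s 0 = 0 := by simp [vq, lin]

/-- The conjugation agrees with a field map on the point with these coordinates. -/
def Agrees (hF : Nat.card F = 2 ^ 2) (h : UFrob σ 2) (f : Subgroup.closure (nb D d) →* PSU 6 F 2)
    (e : QField ≃+* F) (r s : Fin 3 → V F) (ψ : QField →+* QField) (g : G) (a : Fin 6 → QField) : Prop :=
  bform qsig a a = 0 ∧ a ≠ 0 ∧
    ∀ y, IsPt hF h f y (vq e r s a) → IsPt hF h f (g * y * g⁻¹) (vq e r s fun t => ψ (a t))

/-- Agreement on nine points is agreement on all. -/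
theorem agree_all (P : PMap hF h D d f) (hW : WeakTS D) (H : Hyp σ r s) {ψ : QField →+* QField}
    (hψ : ∀ x, ψ (qsig x) = qsig (ψ x)) {g : G}
    (hseed : ∀ k < 9, Agrees hF h f e r s ψ g (qvec (steps.getD k (0, 0, 0)).1))
    {c : ℕ} (hc : c < 4096) (hc0 : c ≠ 0) (hiso : isoN c = true) : Agrees hF h f e r s ψ g (qvec c) := by
  haveI : Finite F := Nat.finite_of_card_ne_zero (by rw [hF]; norm_num)
  refine closure_all (Agrees hF h f e r s ψ g) (fun x v hx ⟨hv, hv0, hA⟩ => ?_)
    (fun v w ⟨hv, hv0, hA⟩ ⟨hw, hw0, hB⟩ => ?_) hseed hc hc0 hiso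
  · refine ⟨?_, fun e0 => hv0 (funext fun t => (mul_eq_zero.1 (congrFun e0 t)).resolve_left hx), fun y hy => ?_⟩
    · apply e.injective
      rw [← H.vq_uh h, vq_smul, uh_smul_left, uh_smul_right, H.vq_uh h, hv, map_zero]
      simp
    · have hy' := (hy.congr (vq_smul v x)).smul (inv_ne_zero ((map_ne_zero_iff _ e.injective).2 hx))
      rw [inv_smul_smul₀ ((map_ne_zero_iff _ e.injective).2 hx)] at hy'
      refine ((hA y hy').smul (a := e (ψ x)) ((map_ne_zero_iff _ e.injective).2 ((map_ne_zero ψ).2 hx))).congr ?_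
      rw [← vq_smul]
      simp only [map_mul]
  · have hiv : uh σ (vq e r s v) (vq e r s v) = 0 := by rw [H.vq_uh h, hv, map_zero]
    have hiw : uh σ (vq e r s w) (vq e r s w) = 0 := by rw [H.vq_uh h, hw, map_zero]
    obtain ⟨y, hy⟩ := exists_isPt P hiv fun e0 => hv0 (H.vq_inj h (e0.trans vq_zero.symm))
    obtain ⟨z, hz⟩ := exists_isPt P hiw fun e0 => hw0 (H.vq_inj h (e0.trans vq_zero.symm))
    have hyz := hy.conj hW hz
    rw [H.vq_uh h, ← vq_add] at hyz
    refine ⟨e.injective (by rw [← H.vq_uh h, map_zero]; exact hyz.iso), fun e0 => ?_, fun x hx => ?_⟩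
    · have h1 : vq e r s w + e (bform qsig w v) • vq e r s v = 0 := by
        rw [← vq_add, e0, vq_zero]
      have h2 : uh σ (vq e r s w) (vq e r s v) = 0 := by
        have h3 := congrArg (fun u => uh σ u (vq e r s v)) h1
        simpa [uh_add_left, uh_smul_left, hiv, uh_zero_left] using h3
      rw [← H.vq_uh h, h2, zero_smul, add_zero, ← vq_zero (e := e) (r := r) (s := s)] at h1
      exact hw0 (H.vq_inj h h1)
    · have hx' := ((hA y hy).conj hW (hB z hz))
      rw [H.vq_uh h, ← vq_add] at hx'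
      have he : g * x * g⁻¹ = g * y * g⁻¹ * (g * z * g⁻¹) * (g * y * g⁻¹) := by
        rw [IsPt.unique P hx hyz]; group
      rw [he]
      refine hx'.congr (congrArg _ (funext fun t => ?_))
      simp [bform, hψ]

/-- The matrix with the frame as columns. -/
def colsMat (r s : Fin 3 → V F) : Matrix (Fin 6) (Fin 6) F :=
  Matrix.of fun i j => (![r 0, r 1, r 2, s 0, s 1, s 2] j) i

theorem colsMat_mulVec (r s : Fin 3 → V F) (a : Fin 6 → F) : colsMat r s *ᵥ a = lin r s a := by
  funext i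
  simp [colsMat, lin, mulVec, dotProduct, Fin.sum_univ_six, mul_comm]
  ring

theorem Hyp.det_ne (H : Hyp σ r s) (h : UFrob σ 2) [Finite F] : (colsMat r s).det ≠ 0 := by
  have h1 : Function.Injective (colsMat r s).mulVec := fun a b he => H.lin_inj h (by
    rw [← colsMat_mulVec, ← colsMat_mulVec]; exact he)
  exact ((Matrix.isUnit_iff_isUnit_det _).1 (Matrix.mulVec_injective_iff_isUnit.1 h1)).ne_zero

/-- The subgroup moves a frame to every frame of the same determinant. -/
theorem exists_elem (P : PMap hF h D d f) (hW : WeakTS D) (H : Hyp σ r s) {r' s' : Fin 3 → V F}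
    (H' : Hyp σ r' s') (hdet : (colsMat r' s').det = (colsMat r s).det) :
    ∃ k : G, k ∈ Subgroup.closure (nb D d) ∧ ∀ y (a : Fin 6 → F), IsPt hF h f y (lin r s a) →
      IsPt hF h f (k * y * k⁻¹) (lin r' s' a) := by
  haveI : Finite F := Nat.finite_of_card_ne_zero (by rw [hF]; norm_num)
  have hu : IsUnit (colsMat r s).det := isUnit_iff_ne_zero.2 (H.det_ne h)
  have hM : (colsMat r' s' * (colsMat r s)⁻¹).det = 1 := by
    rw [det_mul, det_nonsing_inv, hdet, Ring.inverse_eq_inv', mul_inv_cancel₀ (H.det_ne h)]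
  have hmap : ∀ a, (colsMat r' s' * (colsMat r s)⁻¹) *ᵥ lin r s a = lin r' s' a := fun a => by
    rw [← colsMat_mulVec r s, mulVec_mulVec, Matrix.mul_assoc, nonsing_inv_mul _ hu, Matrix.mul_one,
      colsMat_mulVec]
  obtain ⟨M, hMv⟩ : ∃ M : SU 6 F 2, ∀ a, M.1.1 *ᵥ lin r s a = lin r' s' a :=
    ⟨⟨⟨_, hM⟩, CfsgLib.Classical.mem_SU_iff.2 fun x y => by
      obtain ⟨a, rfl⟩ := H.lin_surj h x
      obtain ⟨b, rfl⟩ := H.lin_surj h y
      show Cfsg.hermForm 6 F 2 (_ *ᵥ _) (_ *ᵥ _) = _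
      rw [h.hermForm_eq, h.hermForm_eq, hmap, hmap, H.uh_lin h, H'.uh_lin h]⟩, hmap⟩
  obtain ⟨k, hk⟩ := P.surj (QuotientGroup.mk M)
  exact ⟨k, k.2, fun y a hy => (hy.act hW hk).congr (hMv a)⟩

theorem Hyp.scale (H : Hyp σ r s) (hF : Nat.card F = 2 ^ 2) (h : UFrob σ 2) {c : Fin 3 → F} (hc : ∀ i, c i ≠ 0) :
    Hyp σ (fun i => c i • r i) fun i => c i • s i := by
  refine ⟨fun i j => ?_, fun i j => ?_, fun i j => ?_⟩
  · simp [uh_smul_left, uh_smul_right, H.rr]
  · simp [uh_smul_left, uh_smul_right, H.ss]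
  · rw [uh_smul_left, uh_smul_right, H.rs]
    split_ifs with e
    · subst e
      rw [mul_one]
      exact norm_one hF h (hc i)
    · simp

theorem det_scale (c : Fin 3 → F) :
    (colsMat (fun i => c i • r i) fun i => c i • s i).det = (c 0 * c 1 * c 2) ^ 2 * (colsMat r s).det := by
  have e1 : (colsMat (fun i => c i • r i) fun i => c i • s i) =
      Matrix.of fun i j => ![c 0, c 1, c 2, c 0, c 1, c 2] j * colsMat r s i j := by
    ext i j
    fin_cases j <;> simp [colsMat]
  rw [e1, Matrix.det_mul_row, Fin.prod_univ_six]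
  show c 0 * c 1 * c 2 * c 0 * c 1 * c 2 * _ = _
  ring

end CfsgLib.KnownB.TypeM22
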