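import Mathlib

/-!
The sign of a permutation of order dividing four from the numbers of points moved by it and by its square.
-/

set_option autoImplicit false

namespace CfsgLib.KnownB.TypeM22

open Equiv

variable {α : Type*} [Fintype α] [DecidableEq α]

theorem sign_four (p : Perm α) :
    p ^ 4 = 1 → ∃ a b : ℕ, p.support.card = 2 * a + 4 * b ∧ (p * p).support.card = 4 * b ∧
      Perm.sign p = (-1) ^ (a + b) := by
  induction p using Perm.cycle_induction_on with
  | base_one => exact fun _ => ⟨0, 0, by simp, by simp, by simp⟩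
  | base_cycles c hc =>
    intro h4
    have hdvd : c.support.card ∣ 4 := hc.orderOf ▸ orderOf_dvd_of_pow_eq_one h4
    have h2 := hc.two_le_card_support
    have hle := Nat.le_of_dvd (by norm_num) hdvd
    obtain ⟨k, hk⟩ : ∃ k, c.support.card = k := ⟨_, rfl⟩
    rw [hk] at hdvd h2 hle
    interval_cases k
    · refine ⟨1, 0, by rw [hk], ?_, by rw [hc.sign, hk]; rfl⟩
      have h1 : c * c = 1 := by rw [← pow_two, ← hk, ← hc.orderOf]; exact pow_orderOf_eq_one c
      rw [h1]; simp
    · norm_num at hdvd
    · refine ⟨0, 1, by rw [hk], ?_, by rw [hc.sign, hk]; rfl⟩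
      rw [← pow_two, (hc.support_pow_eq_iff).2 (by rw [hc.orderOf, hk]; norm_num), hk]
  | induction_disjoint a b hd _ iha ihb =>
    intro h4
    have h1 : a ^ 4 * b ^ 4 = 1 := by rw [← hd.commute.mul_pow, h4]
    obtain ⟨ha, hb⟩ := ((hd.zpow_disjoint_zpow 4 4).mul_eq_one_iff).1 (by exact_mod_cast h1)
    obtain ⟨a₁, b₁, s1, t1, g1⟩ := iha (by exact_mod_cast ha)
    obtain ⟨a₂, b₂, s2, t2, g2⟩ := ihb (by exact_mod_cast hb)
    refine ⟨a₁ + a₂, b₁ + b₂, by rw [hd.card_support_mul]; omega, ?_, ?_⟩
    · have e : a * b * (a * b) = a * a * (b * b) := by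
        rw [← pow_two, hd.commute.mul_pow, pow_two, pow_two]
      have hd2 : Perm.Disjoint (a * a) (b * b) := by
        have := hd.zpow_disjoint_zpow 2 2
        simpa [zpow_two, pow_two] using this
      rw [e, hd2.card_support_mul]
      omega
    · rw [map_mul, g1, g2, ← pow_add]
      congr 1
      omega

end CfsgLib.KnownB.TypeM22
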