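import Cfsg.Agent.Lib.KnownB.TypeM22.Marked
import Cfsg.Agent.Lib.KnownB.TypeM22.SignFour

/-!
The centraliser of a member is the subgroup generated by its partners: an element inducing the field
automorphism on the points would be an odd permutation of the members.
-/

set_option autoImplicit false

namespace CfsgLib.KnownB.TypeM22

open Cfsg CfsgLib.Classical.Unitary CfsgLib.ThreeTransp CfsgLib.ThreeTransp.USix CfsgLib.Involutions
open CfsgLib.ThreeTransp.LocalThree (conjP)
open CfsgLib.Spor (QField)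

universe u

variable {F : Type} [Field F] {σ : F →+* F} {hF : Nat.card F = 2 ^ 2} {h : UFrob σ 2}
  {G : Type u} [Group G] [Finite G] {D : Set G} {d : G} {f : Subgroup.closure (nb D d) →* PSU 6 F 2}

/-- Conjugation on the members, as a homomorphism. -/
def actHom (S : Setting D) : G →* Equiv.Perm ↥D where
  toFun g := conjP S.cls.conj g
  map_one' := Equiv.ext fun i => Subtype.ext (by show (1 : G) * i * 1⁻¹ = i; group)
  map_mul' a b := Equiv.ext fun i => Subtype.ext (by show a * b * i * (a * b)⁻¹ = a * (b * i * b⁻¹) * a⁻¹; group)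

theorem actHom_apply (S : Setting D) (g : G) (i : ↥D) : ((actHom S g i : ↥D) : G) = g * i * g⁻¹ := rfl

theorem support_card (S : Setting D) [Fintype ↥D] [DecidableEq ↥D] (g : G) :
    (actHom S g).support.card = {v | v ∈ D ∧ g * v * g⁻¹ ≠ v}.ncard := by
  rw [← Set.ncard_coe_finset, ← Set.ncard_image_of_injective _ Subtype.val_injective]
  congr 1
  ext v
  simp only [Finset.mem_coe, Equiv.Perm.mem_support, Set.mem_image, Set.mem_setOf_eq]
  constructor
  · rintro ⟨i, hi, rfl⟩; exact ⟨i.2, fun e => hi (Subtype.ext e)⟩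
  · rintro ⟨hv, hne⟩; exact ⟨⟨v, hv⟩, fun e => hne (congrArg Subtype.val e), rfl⟩

/-- Every element is an even permutation of the members. -/
theorem even_act (S : Setting D) (hP : Maps hF h D) [Fintype ↥D] [DecidableEq ↥D] (g : G) :
    Equiv.Perm.sign (actHom S g) = 1 := by
  obtain ⟨hD, -, -, hA⟩ := S.counts hP
  have hW := S.weak
  have hle : Subgroup.closure D ≤ (Equiv.Perm.sign.comp (actHom S)).ker := by
    refine (Subgroup.closure_le _).2 fun d hd => MonoidHom.mem_ker.2 ?_
    obtain ⟨a, b, h1, h2, h3⟩ := sign_four (actHom S d) (by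
      rw [← map_pow, pow_succ, pow_succ, pow_two, hW.sq d hd, one_mul, hW.sq d hd, map_one])
    rw [← map_mul, hW.sq d hd, map_one, Equiv.Perm.support_one, Finset.card_empty] at h2
    rw [support_card, show {v | v ∈ D ∧ d * v * d⁻¹ ≠ v} = {x | x ∈ D ∧ ¬ Commute d x} by
      ext v; exact and_congr_right fun _ => not_congr mul_inv_eq_iff_eq_mul, hA d hd] at h1
    rw [MonoidHom.comp_apply, h3, show a + b = 2 * 704 by omega, pow_mul, neg_one_sq, one_pow]
  rw [S.cls.gen] at hle
  exact MonoidHom.mem_ker.1 (hle (Subgroup.mem_top g))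

theorem count_fix : ((Finset.range 4096).filter fun c => (!Nat.beq c 0 && isoN c &&
    ([1, 2, 3].any fun l => decide ((fun t => qsig (qvec c t)) = fun t => dig l 0 * qvec c t))) = true).card = 189 := by
  decide +kernel

theorem dig_cases : ∀ x : QField, x = 0 ∨ ∃ l ∈ ([1, 2, 3] : List ℕ), x = dig l 0 := by decide

theorem seed_codes : (List.range 9).map (fun k => (steps.getD k (0, 0, 0)).1) = [1, 4, 16, 64, 256, 1024, 21, 57, 320] := by
  decide +kernel

/-- The members of three rational points on a coordinate line. -/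
theorem line_triple (P : PMap hF h D d f) (S : Setting D) (hP : Maps hF h D) (hd : d ∈ D) {r s : Fin 3 → V F}
    (H : Hyp σ r s) {x : G} (hx : x ∈ D) (hdx : ¬ Commute d x) {a b c : G} (pa : IsPt hF h f a (r 0))
    (pb : IsPt hF h f b (r 1)) (pc : IsPt hF h f c (r 0 + r 1)) (ca : Commute x a) (cb : Commute x b)
    (cc : Commute x c) : False := by
  haveI : Finite F := Nat.finite_of_card_ne_zero (by rw [hF]; norm_num)
  have hW := S.weak
  obtain ⟨ω, hω, hω3, hσω⟩ := exists_omega hF h rfl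
  obtain ⟨y, hy, hinj, hcomm, ey, hprod⟩ := P.line_five S hP hd H hω hω3 hσω
  have hp : ∀ i, IsPt hF h f (y i) (cvec r (lineC ω i)) := fun i => ⟨hy i, _, ey i⟩
  have ea : y 0 = a := IsPt.unique P ((hp 0).congr (by simp [cvec, lineC])) pa
  have eb : y 1 = b := IsPt.unique P ((hp 1).congr (by simp [cvec, lineC])) pb
  have ec : y 2 = c := IsPt.unique P ((hp 2).congr (by simp [cvec, lineC])) pc
  refine no_three hW (l := [d, y 0, y 1, y 2, y 3, y 4]) ?_ ?_ ?_ rfl ?_ hx
    (hinj.ne (by decide : (0 : Fin 5) ≠ 1)) (hinj.ne (by decide : (0 : Fin 5) ≠ 2))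
    (hinj.ne (by decide : (1 : Fin 5) ≠ 2)) (by simp) (by simp) (by simp) (ea ▸ ca) (eb ▸ cb) (ec ▸ cc)
    (w := d) (by simp) fun e => hdx e.symm
  · simp [hd, (hy _).1]
  · simp [hinj.eq_iff, fun i => (hy i).2.1.symm]
  · simp [hcomm, (hy _).2.2, (hy _).2.2.symm]
  · simp only [List.prod_cons, List.prod_nil, mul_one]
    have e : y 0 * (y 1 * (y 2 * (y 3 * y 4))) = d := hprod
    rw [e, hW.sq d hd]

/-- No element acts on the points as the field automorphism. -/
theorem no_field (P : PMap hF h D d f) (S : Setting D) (hP : Maps hF h D) (hd : d ∈ D) {e : QField ≃+* F}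
    {r s : Fin 3 → V F} (H : Hyp σ r s) {g : G} (hgd : Commute g d)
    (hall : ∀ c < 4096, c ≠ 0 → isoN c = true → Agrees hF h f e r s qsig g (qvec c)) : False := by
  classical
  haveI : Finite F := Nat.finite_of_card_ne_zero (by rw [hF]; norm_num)
  haveI : Fintype G := Fintype.ofFinite G
  haveI : Fintype ↥D := Fintype.ofFinite _
  have hW := S.weak
  obtain ⟨hD, hk, -, hA⟩ := S.counts hP
  have hcode : ∀ {y : G}, y ∈ nb D d → ∃ c < 4096, c ≠ 0 ∧ isoN c = true ∧ IsPt hF h f y (vq e r s (qvec c)) := by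
    intro y hy
    obtain ⟨v, hv0, hv⟩ := exists_vec P hy
    obtain ⟨c, hc⟩ := (H.cv_bij h e).2 v
    replace hc : cv e r s c.val = v := hc
    obtain ⟨a, b, -, -⟩ := cv_props e H h c.2
    refine ⟨c, c.2, ?_, b.1 (hc ▸ hv.iso), hv.congr hc.symm⟩
    have := a.1 (hc ▸ hv0)
    exact fun e0 => by simp [e0] at this
  -- the square
  have hinv : ∀ a : Fin 6 → QField, (fun t => qsig (qsig (a t))) = a := fun a =>
    funext fun t => (by decide : ∀ x : QField, qsig (qsig x) = x) (a t)
  have hzero : ∀ {a : Fin 6 → QField}, (fun t => qsig (a t)) = 0 → a = 0 := fun {a} e0 => funext fun t =>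
    (map_eq_zero qsig).1 (congrFun e0 t)
  have hsq : ∀ y ∈ nb D d, Commute (g * g) y := fun y hy => by
    obtain ⟨c, hc, hc0, hiso, hy'⟩ := hcode hy
    have h1 := (hall c hc hc0 hiso).2.2 y hy'
    obtain ⟨c', hc', hc0', hiso', hy''⟩ := hcode h1.mem
    obtain ⟨a, ha⟩ := h1.eq_smul hy'' (fun e0 => (hall c hc hc0 hiso).2.1 (hzero (H.vq_inj h (e0.trans vq_zero.symm))))
    obtain ⟨a', rfl⟩ := e.surjective a
    have ha0 : a' ≠ 0 := fun e0 => (hall c hc hc0 hiso).2.1 (by
      rw [e0, map_zero, zero_smul] at ha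
      exact hzero (H.vq_inj h (ha.trans vq_zero.symm)))
    rw [← vq_smul] at ha
    have h2 := ((hall c' hc' hc0' hiso').2.2 _ hy'').smul (a := e (qsig a'))
      ((map_ne_zero_iff _ e.injective).2 ((map_ne_zero qsig).2 ha0))
    rw [← vq_smul] at h2
    have h3 : (fun t => qsig a' * qsig (qvec c' t)) = qvec c := by
      rw [← hinv (qvec c)]
      funext t
      rw [← map_mul]
      exact congrArg qsig (congrFun (H.vq_inj h ha) t).symm
    rw [h3] at h2
    refine mul_inv_eq_iff_eq_mul.1 ?_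
    rw [show g * g * y * (g * g)⁻¹ = g * (g * y * g⁻¹) * g⁻¹ by group]
    exact IsPt.unique P h2 hy'
  have hg2 := eq_one_or S hP hd (hgd.mul_left hgd) hsq
  -- fixed partners
  have hfix : {y | y ∈ nb D d ∧ g * y * g⁻¹ = y}.ncard = 63 := by
    have h1 := P.point_count {y | y ∈ nb D d ∧ g * y * g⁻¹ = y} (fun _ hy => hy.1)
      (fun v => ∀ c < 4096, v = cv e r s c →
        ([1, 2, 3].any fun l => decide ((fun t => qsig (qvec c t)) = fun t => dig l 0 * qvec c t)) = true)
      fun {y} hy {v} hv hv0 ey => by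
        have py : IsPt hF h f y v := ⟨hy, hv, ey⟩
        obtain ⟨c, hc⟩ := (H.cv_bij h e).2 v
        replace hc : cv e r s c.val = v := hc
        obtain ⟨a, b, -, -⟩ := cv_props e H h c.2
        have hc0 : c.val ≠ 0 := fun e0 => by have := a.1 (hc ▸ hv0); simp [e0] at this
        have hAg := hall c c.2 hc0 (b.1 (hc ▸ hv))
        have pc : IsPt hF h f y (vq e r s (qvec c)) := py.congr hc.symm
        have himg := hAg.2.2 y pc
        have hne : vq e r s (fun t => qsig (qvec c t)) ≠ 0 := fun e0 =>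
          hAg.2.1 (hzero (H.vq_inj h (e0.trans vq_zero.symm)))
        constructor
        · rintro ⟨-, hyf⟩ c' hc' rfl
          have : c.val = c' := congrArg Fin.val ((H.cv_bij h e).1 (a₂ := ⟨c', hc'⟩) hc)
          subst this
          rw [hyf] at himg
          obtain ⟨a, ha⟩ := himg.eq_smul pc hne
          obtain ⟨a', rfl⟩ := e.surjective a
          rw [← vq_smul] at ha
          have ha' := H.vq_inj h ha
          rcases dig_cases a' with rfl | ⟨l, hl, rfl⟩
          · exact absurd (by rw [ha]; simp [vq, lin]) hne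
          · exact List.any_eq_true.2 ⟨l, hl, decide_eq_true ha'⟩
        · intro hQ
          obtain ⟨l, hl, hl'⟩ := List.any_eq_true.1 (hQ c c.2 hc.symm)
          have hl0 : dig l 0 ≠ 0 := by
            simp only [List.mem_cons, List.not_mem_nil, or_false] at hl
            rcases hl with rfl | rfl | rfl <;> decide
          refine ⟨hy, IsPt.unique P himg ((pc.smul ((map_ne_zero_iff _ e.injective).2 hl0)).congr ?_)⟩
          rw [of_decide_eq_true hl', vq_smul]
    rw [H.count h e _ (fun c => !Nat.beq c 0 && isoN c &&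
      ([1, 2, 3].any fun l => decide ((fun t => qsig (qvec c t)) = fun t => dig l 0 * qvec c t))) fun c hc => by
        obtain ⟨a, b, -, -⟩ := cv_props e H h hc
        rw [Bool.and_eq_true, Bool.and_eq_true, ← a, ← b]
        constructor
        · rintro ⟨k1, k2, k3⟩; exact ⟨⟨k1, k2⟩, k3 c hc rfl⟩
        · rintro ⟨⟨k1, k2⟩, k3⟩
          refine ⟨k1, k2, fun c' hc' e0 => ?_⟩
          rwa [show c' = c from congrArg Fin.val ((H.cv_bij h e).1 (a₁ := ⟨c', hc'⟩) (a₂ := ⟨c, hc⟩) e0.symm)],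
      count_fix] at h1
    omega
  -- fixed non-partners
  obtain ⟨A', hA'⟩ : ∃ A' : Set G, A' = {x | (x ∈ D ∧ ¬ Commute d x) ∧ g * x * g⁻¹ = x} := ⟨_, rfl⟩
  have hfour : 4 ∣ A'.ncard := by
    have hmk : ∀ c, isoN c = true → c < 4096 → c ≠ 0 → ∃ y, IsPt hF h f y (vq e r s (qvec c)) := fun c k1 k2 k3 => by
      obtain ⟨a, b, -, -⟩ := cv_props e H h k2
      exact exists_isPt P (b.2 k1) (a.2 (by rw [Bool.not_eq_true', ← Bool.not_eq_true, nat_beq_iff]; exact k3))
    obtain ⟨y, hy⟩ : ∃ y : Fin 6 → G, ∀ i, IsPt hF h f (y i) (vq e r s (qvec (![1, 4, 16, 5, 20, 17] i))) :=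
      ⟨fun i => Classical.choose (hmk (![1, 4, 16, 5, 20, 17] i) (by fin_cases i <;> decide) (by fin_cases i <;> decide)
          (by fin_cases i <;> decide)),
        fun i => Classical.choose_spec (hmk (![1, 4, 16, 5, 20, 17] i) (by fin_cases i <;> decide)
          (by fin_cases i <;> decide) (by fin_cases i <;> decide))⟩
    have hyfix : ∀ i, g * y i * g⁻¹ = y i := fun i => by
      refine IsPt.unique P ((hall _ ?_ ?_ ?_).2.2 _ (hy i)) ((hy i).congr ?_) <;> fin_cases i <;>
        first | decide | (congr 1; decide)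
    have hyc : ∀ i j, Commute (y i) (y j) := fun i j => ((hy i).comm P hW (hy j)).2 (by
      rw [H.vq_uh h]; fin_cases i <;> fin_cases j <;> (rw [show bform qsig _ _ = 0 by decide]; exact map_zero e))
    obtain ⟨T, hT⟩ : ∃ T, T = Subgroup.closure (Set.range y) := ⟨_, rfl⟩
    have hTfix : ∀ k ∈ T, Commute k g ∧ Commute k d ∧ k * k = 1 := by
      intro k hk
      rw [hT] at hk
      haveI hcm : IsMulCommutative (Subgroup.closure (Set.range y)) :=
        Subgroup.isMulCommutative_closure fun _ ⟨i, hi⟩ _ ⟨j, hj⟩ => hi ▸ hj ▸ (hyc i j).eq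
      induction hk using Subgroup.closure_induction with
      | mem z hz =>
        obtain ⟨i, rfl⟩ := hz
        exact ⟨(mul_inv_eq_iff_eq_mul.1 (hyfix i)).symm, (hy i).mem.2.2.symm, hW.sq _ (hy i).mem.1⟩
      | one => exact ⟨Commute.one_left g, Commute.one_left d, mul_one 1⟩
      | mul a b ha hb iha ihb =>
        refine ⟨iha.1.mul_left ihb.1, iha.2.1.mul_left ihb.2.1, ?_⟩
        have hab : a * b = b * a := congrArg Subtype.val (mul_comm'
          (⟨a, ha⟩ : Subgroup.closure (Set.range y)) ⟨b, hb⟩)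
        calc a * b * (a * b) = a * (b * a) * b := by group
          _ = (a * a) * (b * b) := by rw [← hab]; group
          _ = 1 := by rw [iha.2.2, ihb.2.2, one_mul]
      | inv a _ iha =>
        rw [inv_eq_of_mul_eq_one_right iha.2.2]; exact iha
    let act : MulAction T A' :=
      { smul := fun k x => ⟨(k : G) * x * (k : G)⁻¹, by
          obtain ⟨kg, kd, -⟩ := hTfix k k.2
          have hx : (x : G) ∈ {x | (x ∈ D ∧ ¬ Commute d x) ∧ g * x * g⁻¹ = x} := hA' ▸ x.2
          refine (Set.ext_iff.1 hA' _).2 ⟨⟨S.cls.conj _ _ hx.1.1, fun hc => hx.1.2 ?_⟩, ?_⟩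
          · refine (commute_conj_iff (k : G)).1 ?_
            rwa [conj_eq_of_commute kd]
          · rw [show g * ((k : G) * x * (k : G)⁻¹) * g⁻¹ = g * k * g⁻¹ * (g * x * g⁻¹) * (g * k * g⁻¹)⁻¹ by group,
              conj_eq_of_commute kg.symm, hx.2]⟩
        one_smul := fun x => Subtype.ext (by show (1 : G) * x * 1⁻¹ = x; group)
        mul_smul := fun a b x => Subtype.ext (by
          show ((a : G) * b) * x * ((a : G) * b)⁻¹ = a * (b * x * (b : G)⁻¹) * (a : G)⁻¹
          group) }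
    have hTp : IsPGroup 2 T := fun k => ⟨1, Subtype.ext (by
      rw [pow_one, pow_two]; exact (hTfix k k.2).2.2)⟩
    haveI : Fact (Nat.Prime 2) := ⟨Nat.prime_two⟩
    haveI : Fintype A' := Fintype.ofFinite _
    rw [← Nat.card_coe_set_eq, Nat.card_congr (MulAction.selfEquivSigmaOrbits T A'), Nat.card_sigma]
    refine Finset.dvd_sum fun ω _ => ?_
    obtain ⟨x, hx⟩ : ∃ x, x = ω.out := ⟨_, rfl⟩
    rw [← hx]
    obtain ⟨n, hn⟩ := hTp.card_orbit x
    rw [hn]
    suffices h3 : 2 < Nat.card (MulAction.orbit T x) by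
      rw [hn] at h3
      rcases n with _ | _ | n
      · norm_num at h3
      · norm_num at h3
      · exact Dvd.intro (2 ^ n) (by ring)
    have hxA : (x : G) ∈ {x | (x ∈ D ∧ ¬ Commute d x) ∧ g * x * g⁻¹ = x} := hA' ▸ x.2
    obtain ⟨⟨hxD, hxd⟩, -⟩ := hxA
    obtain ⟨i, j, hij, hi, hj⟩ : ∃ i j, y i ≠ y j ∧ ¬ Commute (x : G) (y i) ∧ ¬ Commute (x : G) (y j) := by
      by_contra hno
      push Not at hno
      have q : qvec 1 = ![1, 0, 0, 0, 0, 0] ∧ qvec 4 = ![0, 1, 0, 0, 0, 0] ∧ qvec 16 = ![0, 0, 1, 0, 0, 0] ∧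
          qvec 5 = ![1, 1, 0, 0, 0, 0] ∧ qvec 20 = ![0, 1, 1, 0, 0, 0] ∧ qvec 17 = ![1, 0, 1, 0, 0, 0] := by decide
      have pr : ∀ i : Fin 3, IsPt hF h f (y (Fin.castAdd 3 i)) (r i) := fun i => (hy _).congr (by
        fin_cases i <;> simp [q, vq, lin])
      have pw : ∀ i : Fin 3, IsPt hF h f (y (Fin.natAdd 3 i)) (r i + r (i + 1)) := fun i => (hy _).congr (by
        fin_cases i <;> simp [q, vq, lin, add_comm])
      -- a moved member on each of three lines
      have hline : ∀ i : Fin 3, ∃ m v, IsPt hF h f (y m) v ∧ v ≠ 0 ∧ ¬ Commute (x : G) (y m) ∧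
          uh σ v (s (i + 2)) = 0 ∧ ∀ k, uh σ v (r k) = 0 := by
        intro i
        by_contra hnone
        push Not at hnone
        have hperp : ∀ k : Fin 3, k ≠ i + 2 → uh σ (r k) (s (i + 2)) = 0 := fun k hk => by rw [H.rs, if_neg hk]
        have hall' : ∀ m v, IsPt hF h f (y m) v → v ≠ 0 → uh σ v (s (i + 2)) = 0 → (∀ k, uh σ v (r k) = 0) →
            Commute (x : G) (y m) := fun m v pm v0 h1 h2 =>
          Classical.byContradiction fun hn => by
            obtain ⟨k, hk⟩ := hnone m v pm v0 hn h1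
            exact hk (h2 k)
        have n0 : ∀ k, r k ≠ 0 := fun k e0 => by
          have := H.rs k k; rw [e0, uh_zero_left, if_pos rfl] at this; exact zero_ne_one this
        have n1 : r i + r (i + 1) ≠ 0 := fun e0 => by
          have := congrArg (fun v => uh σ v (s i)) e0
          simp [uh_add_left, uh_zero_left, H.rs] at this
        have Hp : Hyp σ (fun k => r (k + i)) fun k => s (k + i) := ⟨fun a b => H.rr _ _, fun a b => H.ss _ _,
          fun a b => by rw [H.rs]; simp⟩
        refine line_triple P S hP hd Hp hxD hxd (a := y (Fin.castAdd 3 i)) (b := y (Fin.castAdd 3 (i + 1)))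
          (c := y (Fin.natAdd 3 i)) ((pr i).congr (by simp)) ((pr (i + 1)).congr (by rw [add_comm i 1]))
          ((pw i).congr (by simp [add_comm i 1]))
          (hall' _ _ (pr i) (n0 i) (hperp i (by fin_cases i <;> decide)) fun k => H.rr _ _)
          (hall' _ _ (pr (i + 1)) (n0 _) (hperp _ (by fin_cases i <;> decide)) fun k => H.rr _ _)
          (hall' _ _ (pw i) n1 (by
            rw [uh_add_left, hperp i (by fin_cases i <;> decide), hperp (i + 1) (by fin_cases i <;> decide), add_zero])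
            fun k => by rw [uh_add_left, H.rr, H.rr, add_zero])
      choose m v hv hv0 hmv hvs hvr using hline
      refine hv0 0 (H.eq_zero h (hvr 0) fun k => ?_)
      have hk : k = (k + 1) + 2 := by fin_cases k <;> decide
      obtain ⟨a, ha⟩ := (hv 0).eq_smul (Classical.byContradiction (fun hne : ¬ IsPt hF h f (y (m 0)) (v (k + 1)) => by
        have hne' : y (m 0) ≠ y (m (k + 1)) := fun e0 => hne (e0 ▸ hv (k + 1))
        exact hmv (k + 1) (hno _ _ hne' (hmv 0))) : IsPt hF h f (y (m 0)) (v (k + 1))) (hv0 0)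
      rw [ha, uh_smul_left, hk, show k + 1 + 2 + 1 = k + 1 by fin_cases k <;> decide, hvs (k + 1), mul_zero]
    -- three members in the orbit
    have hmem : ∀ k, y k ∈ T := fun k => hT ▸ Subgroup.subset_closure ⟨k, rfl⟩
    have hval : ∀ k, (((⟨y k, hmem k⟩ : T) • x : A') : G) = y k * x * (y k)⁻¹ := fun _ => rfl
    have hne : ∀ k, ¬ Commute (x : G) (y k) → (⟨y k, hmem k⟩ : T) • x ≠ x := fun k hk e0 =>
      hk (mul_inv_eq_iff_eq_mul.1 ((hval k).symm.trans (congrArg Subtype.val e0))).symm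
    have hdiff : (⟨y i, hmem i⟩ : T) • x ≠ (⟨y j, hmem j⟩ : T) • x := fun e0 => by
      have e1 : y i * x * (y i)⁻¹ = y j * x * (y j)⁻¹ := (hval i).symm.trans ((congrArg Subtype.val e0).trans (hval j))
      rw [hW.inv (hy i).mem.1, hW.inv (hy j).mem.1] at e1
      refine hij (hW.eq_of_commute_mul hxD (hy i).mem.1 (hy j).mem.1 (hyc i j) hi hj ?_)
      show (x : G) * (y i * y j) = y i * y j * x
      calc (x : G) * (y i * y j) = y i * (y i * x * y i) * y j := by
            simp only [mul_assoc]; rw [hW.mul_mul_self (hy i).mem.1]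
        _ = y i * (y j * x * y j) * y j := by rw [e1]
        _ = y i * y j * x := by simp only [mul_assoc]; rw [hW.sq _ (hy j).mem.1, mul_one]
    rw [Nat.card_coe_set_eq]
    refine (Set.two_lt_ncard (Set.toFinite _)).2 ⟨x, MulAction.mem_orbit_self x, _, MulAction.mem_orbit x _, _,
      MulAction.mem_orbit x _, (hne i hi).symm, (hne j hj).symm, hdiff⟩
  -- the sign
  have hcomm : ∀ {v : G}, g * v * g⁻¹ = v ↔ Commute g v := fun {v} => mul_inv_eq_iff_eq_mul
  have hsplit : {v | v ∈ D ∧ g * v * g⁻¹ = v} = insert d ({y | y ∈ nb D d ∧ g * y * g⁻¹ = y} ∪ A') := by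
    rw [hA']
    ext v
    constructor
    · rintro ⟨hv, hfv⟩
      by_cases hc : Commute d v
      · exact (eq_or_ne v d).imp id fun hne => Or.inl ⟨⟨hv, hne, hc⟩, hfv⟩
      · exact Or.inr (Or.inr ⟨⟨hv, hc⟩, hfv⟩)
    · rintro (rfl | ⟨h1, h2⟩ | ⟨⟨h1, -⟩, h2⟩)
      · exact ⟨hd, hcomm.2 hgd⟩
      · exact ⟨h1.1, h2⟩
      · exact ⟨h1, h2⟩
  have hcard : {v | v ∈ D ∧ g * v * g⁻¹ = v}.ncard = 64 + A'.ncard := by
    rw [hsplit, Set.ncard_insert_of_notMem, Set.ncard_union_eq, hfix]
    · omega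
    · rw [hA']; exact Set.disjoint_left.2 fun v hv hv' => hv'.1.2 hv.1.2.2
    · rw [hA']
      rintro (hh | hh)
      · exact hh.1.2.1 rfl
      · exact hh.1.2 (Commute.refl d)
  have hsupp : (actHom S g).support.card + (64 + A'.ncard) = 3510 := by
    rw [support_card, ← hcard, ← hD, ← Set.ncard_sdiff_add_ncard_of_subset
      (s := {v | v ∈ D ∧ g * v * g⁻¹ = v}) (t := D) fun v hv => hv.1]
    congr 2
    ext v; simp
  obtain ⟨a, b, h1, h2, h3⟩ := sign_four (actHom S g) (by
    rw [← map_pow, pow_succ, pow_succ, pow_two]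
    rcases hg2 with r | r
    · rw [r, one_mul, r, map_one]
    · rw [mul_assoc (g * g), r, hW.sq d hd, map_one])
  rw [even_act S hP] at h3
  rw [← map_mul] at h2
  have hodd : (a + b) % 2 = 1 := by
    rcases hg2 with r | r
    · rw [r, map_one, Equiv.Perm.support_one, Finset.card_empty] at h2
      obtain ⟨q, hq⟩ := hfour
      omega
    · have hA0 : A'.ncard = 0 := by
        rw [hA', Set.ncard_eq_zero, Set.eq_empty_iff_forall_notMem]
        rintro v ⟨⟨-, hn⟩, hfv⟩
        exact hn (r ▸ (hcomm.1 hfv).mul_left (hcomm.1 hfv))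
      rw [r, support_card, show {v | v ∈ D ∧ d * v * d⁻¹ ≠ v} = {x | x ∈ D ∧ ¬ Commute d x} by
        ext v; exact and_congr_right fun _ => not_congr mul_inv_eq_iff_eq_mul, hA d hd] at h2
      omega
  rw [Odd.neg_one_pow (Nat.odd_iff.2 hodd)] at h3
  exact absurd h3 (by decide)

/-- The centraliser of a member is generated by its partners. -/
theorem PMap.centralizer_eq (P : PMap hF h D d f) (S : Setting D) (hP : Maps hF h D) (hd : d ∈ D) :
    Subgroup.closure (nb D d) = Subgroup.centralizer ({d} : Set G) := by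
  haveI : Finite F := Nat.finite_of_card_ne_zero (by rw [hF]; norm_num)
  have hW := S.weak
  refine le_antisymm ((Subgroup.closure_le _).2 fun y hy =>
    Subgroup.mem_centralizer_singleton_iff.2 hy.2.2.symm.eq) fun g hg => ?_
  obtain ⟨e⟩ := exists_coord hF
  obtain ⟨r, s, M⟩ := exists_marked P S hd e
  have H := M.hyp
  obtain ⟨k, hk, hkg, hfr, hfs, h21⟩ := reduce P S M (g := g)
    (show Commute g d from (Subgroup.mem_centralizer_singleton_iff.1 hg))
  suffices hkgX : k * g ∈ Subgroup.closure (nb D d) by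
    have := mul_mem (inv_mem hk) hkgX
    rwa [inv_mul_cancel_left] at this
  obtain ⟨x, hxdef⟩ : ∃ x, x = k * g := ⟨_, rfl⟩
  rw [← hxdef] at hkg hfr hfs h21 ⊢
  -- the image of the second mark
  have hmk : ∀ c, isoN c = true → c < 4096 → c ≠ 0 → ∃ y, IsPt hF h f y (vq e r s (qvec c)) := fun c k1 k2 k3 => by
    obtain ⟨a, b, -, -⟩ := cv_props e H h k2
    exact exists_isPt P (b.2 k1) (a.2 (by rw [Bool.not_eq_true', ← Bool.not_eq_true, nat_beq_iff]; exact k3))
  obtain ⟨u, hu⟩ := hmk 21 (by decide) (by decide) (by decide)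
  obtain ⟨u', hu'⟩ := hmk 57 (by decide) (by decide) (by decide)
  obtain ⟨m, hm, hum⟩ := M.mark x hkg hfr u' ⟨57, by simp, hu'⟩
  have hm21 : m ≠ 21 := fun e0 => by
    have h1 : x * u' * x⁻¹ = x * u * x⁻¹ := (IsPt.unique P (e0 ▸ hum) hu).trans (h21 u hu).symm
    have h2 : u' = u := mul_left_cancel (mul_right_cancel h1)
    obtain ⟨a, ha⟩ := hu'.eq_smul (h2.symm ▸ hu) (fun e1 => absurd (H.vq_inj h (e1.trans vq_zero.symm)) (by decide))
    obtain ⟨a', rfl⟩ := e.surjective a
    rw [← vq_smul] at ha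
    exact (show ∀ a' : QField, qvec 57 ≠ fun t => a' * qvec 21 t by decide) a' (H.vq_inj h ha)
  obtain ⟨ψ, hψ, hψ57, hψc⟩ : ∃ ψ : QField →+* QField, (∀ z, ψ (qsig z) = qsig (ψ z)) ∧
      (fun t => ψ (qvec 57 t)) = qvec m ∧ (ψ = RingHom.id _ ∨ ψ = qsig) := by
    simp only [List.mem_cons, List.not_mem_nil, or_false] at hm
    rcases hm with rfl | rfl | rfl
    · exact absurd rfl hm21
    · exact ⟨RingHom.id _, fun _ => rfl, rfl, Or.inl rfl⟩
    · exact ⟨qsig, fun _ => rfl, by decide, Or.inr rfl⟩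
  -- the nine seeds
  have hψ01 : ψ 0 = 0 ∧ ψ 1 = 1 := ⟨map_zero ψ, map_one ψ⟩
  have hrat : ∀ c, (∀ t, qvec c t = 0 ∨ qvec c t = 1) → (fun t => ψ (qvec c t)) = qvec c := fun c hc =>
    funext fun t => by rcases hc t with r | r <;> simp [r]
  have hag : ∀ c, isoN c = true → c < 4096 → c ≠ 0 →
      (∀ y, IsPt hF h f y (vq e r s (qvec c)) → IsPt hF h f (x * y * x⁻¹) (vq e r s fun t => ψ (qvec c t))) →
      Agrees hF h f e r s ψ x (qvec c) := fun c k1 k2 k3 hh =>
    ⟨(isoN_iff k2).2 k1, fun e0 => k3 (congrArg Fin.val (qvec_bij.1 (a₁ := ⟨c, k2⟩) (a₂ := ⟨0, by norm_num⟩)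
      (e0.trans (show (0 : Fin 6 → QField) = qvec 0 by decide)))), hh⟩
  have hfix : ∀ c, isoN c = true → c < 4096 → c ≠ 0 → (∀ t, qvec c t = 0 ∨ qvec c t = 1) →
      (∀ y, IsPt hF h f y (vq e r s (qvec c)) → x * y * x⁻¹ = y) → Agrees hF h f e r s ψ x (qvec c) :=
    fun c k1 k2 k3 k4 hh => hag c k1 k2 k3 fun y hy => by rw [hh y hy, hrat c k4]; exact hy
  have hf110 : ∀ y, IsPt hF h f y (vq e r s (qvec 320)) → x * y * x⁻¹ = y := by
    intro y hy
    obtain ⟨v, hv0, hv⟩ := exists_vec P (conj_nb hW hkg hy.mem)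
    have hs0 : ∀ i, s i ≠ 0 := fun i e0 => by
      have := H.rs i i; rw [e0, uh_zero_right, if_pos rfl] at this; exact zero_ne_one this
    have hr0 : ∀ i, r i ≠ 0 := fun i e0 => by
      have := H.rs i i; rw [e0, uh_zero_left, if_pos rfl] at this; exact zero_ne_one this
    have q : qvec 320 = ![0, 0, 0, 1, 1, 0] ∧ qvec 21 = ![1, 1, 1, 0, 0, 0] := by decide
    have hperp : ∀ {z : G} {w : V F}, IsPt hF h f z w → x * z * x⁻¹ = z → uh σ (vq e r s (qvec 320)) w = 0 →
        uh σ v w = 0 := fun {z w} hz hxz h0 => (hv.comm P hW hz).1 (by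
      rw [← hxz]; exact (commute_conj_iff x).2 ((hy.comm P hW hz).2 h0))
    choose z hz using fun i => exists_isPt P (H.ss i i) (hs0 i)
    obtain ⟨w2, hw2⟩ := exists_isPt P (H.rr 2 2) (hr0 2)
    have v_s : ∀ i, uh σ v (s i) = 0 := fun i => hperp (hz i) (hfs _ i (hz i)) (by
      simp [q, vq, lin, uh_add_left, H.ss])
    have v2 : uh σ v (r 2) = 0 := hperp hw2 (hfr _ 2 hw2) (by simp [q, vq, lin, uh_add_left, H.sr h])
    have vu : uh σ v (vq e r s (qvec 21)) = 0 := hperp hu (h21 u hu) (by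
      simp [q, vq, lin, uh_add_left, uh_add_right, H.sr h, add_self hF])
    simp [q, vq, lin, uh_add_right, v2] at vu
    have h01 : uh σ v (r 1) = uh σ v (r 0) := by linear_combination vu - add_self hF (uh σ v (r 0))
    have e1 : v = uh σ v (r 0) • vq e r s (qvec 320) := by
      conv_lhs => rw [H.expand h v]
      simp [Fin.sum_univ_three, v_s, v2, h01, q, vq, lin, smul_add]
    have hne : uh σ v (r 0) ≠ 0 := fun e0 => hv0 (by rw [e1, e0, zero_smul])
    exact IsPt.unique P (hv.congr e1) (hy.smul hne)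
  have hseed : ∀ k < 9, Agrees hF h f e r s ψ x (qvec (steps.getD k (0, 0, 0)).1) := by
    intro k hk
    have hmem : (steps.getD k (0, 0, 0)).1 ∈ ([1, 4, 16, 64, 256, 1024, 21, 57, 320] : List ℕ) := by
      rw [← seed_codes]; exact List.mem_map.2 ⟨k, List.mem_range.2 hk, rfl⟩
    have q : qvec 1 = ![1, 0, 0, 0, 0, 0] ∧ qvec 4 = ![0, 1, 0, 0, 0, 0] ∧ qvec 16 = ![0, 0, 1, 0, 0, 0] ∧
        qvec 64 = ![0, 0, 0, 1, 0, 0] ∧ qvec 256 = ![0, 0, 0, 0, 1, 0] ∧ qvec 1024 = ![0, 0, 0, 0, 0, 1] := by decide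
    simp only [List.mem_cons, List.not_mem_nil, or_false] at hmem
    rcases hmem with e0 | e0 | e0 | e0 | e0 | e0 | e0 | e0 | e0 <;> rw [e0]
    · exact hfix _ (by decide) (by decide) (by decide) (by decide) fun y hy => hfr y 0 (hy.congr (by simp [q, vq, lin]))
    · exact hfix _ (by decide) (by decide) (by decide) (by decide) fun y hy => hfr y 1 (hy.congr (by simp [q, vq, lin]))
    · exact hfix _ (by decide) (by decide) (by decide) (by decide) fun y hy => hfr y 2 (hy.congr (by simp [q, vq, lin]))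
    · exact hfix _ (by decide) (by decide) (by decide) (by decide) fun y hy => hfs y 0 (hy.congr (by simp [q, vq, lin]))
    · exact hfix _ (by decide) (by decide) (by decide) (by decide) fun y hy => hfs y 1 (hy.congr (by simp [q, vq, lin]))
    · exact hfix _ (by decide) (by decide) (by decide) (by decide) fun y hy => hfs y 2 (hy.congr (by simp [q, vq, lin]))
    · exact hfix _ (by decide) (by decide) (by decide) (by decide) h21
    · refine hag _ (by decide) (by decide) (by decide) fun y hy => ?_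
      rw [hψ57, IsPt.unique P hy hu']; exact hum
    · exact hfix _ (by decide) (by decide) (by decide) (by decide) hf110
  rcases hψc with rfl | rfl
  · rcases eq_one_or S hP hd hkg (fun y hy => by
      obtain ⟨v, hv0, hv⟩ := exists_vec P hy
      obtain ⟨c, hc⟩ := (H.cv_bij h e).2 v
      replace hc : cv e r s c.val = v := hc
      obtain ⟨a, b, -, -⟩ := cv_props e H h c.2
      have hc0 : c.val ≠ 0 := fun e0 => by have := a.1 (hc ▸ hv0); simp [e0] at this
      have h1 := (agree_all P hW H hψ hseed c.2 hc0 (b.1 (hc ▸ hv.iso))).2.2 y (hv.congr hc.symm)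
      exact mul_inv_eq_iff_eq_mul.1 (IsPt.unique P h1 (hv.congr hc.symm))) with r | r <;> rw [r]
    · exact one_mem _
    · exact P.self_mem S hP hd
  · exact (no_field P S hP hd H hkg fun c hc hc0 hiso => agree_all P hW H hψ hseed hc hc0 hiso).elim

end CfsgLib.KnownB.TypeM22
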