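import Cfsg.Agent.Lib.ThreeTransp.SixLines

/-!
Hyperbolic frames of the six-dimensional unitary space over the field of four elements: separation of
isotropic points, and the relation of the six transvections at a hyperoval.
-/

set_option autoImplicit false

namespace CfsgLib.KnownB.TypeM22

open Cfsg CfsgLib.Classical.Unitary CfsgLib.ThreeTransp CfsgLib.ThreeTransp.USix
open Matrix

variable {F : Type} [Field F] {σ : F →+* F}

/-- A hyperbolic frame. -/
structure Hyp (σ : F →+* F) (r s : Fin 3 → V F) : Prop where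
  rr : ∀ i j, uh σ (r i) (r j) = 0
  ss : ∀ i j, uh σ (s i) (s j) = 0
  rs : ∀ i j, uh σ (r i) (s j) = if i = j then 1 else 0

theorem Hyp.sr {r s : Fin 3 → V F} (H : Hyp σ r s) (h : UFrob σ 2) (i j : Fin 3) :
    uh σ (s i) (r j) = if i = j then 1 else 0 := by
  rw [← h.symm, H.rs]
  split_ifs <;> simp_all

theorem Hyp.eq_zero {r s : Fin 3 → V F} (H : Hyp σ r s) (h : UFrob σ 2) {v : V F}
    (hr : ∀ i, uh σ v (r i) = 0) (hs : ∀ i, uh σ v (s i) = 0) : v = 0 := by
  let Φ : V F →ₗ[F] (Fin 3 → F) × (Fin 3 → F) :=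
    (LinearMap.pi fun i => uhL σ (r i)).prod (LinearMap.pi fun i => uhL σ (s i))
  have hsurj : Function.Surjective Φ := fun t =>
    ⟨(∑ i, t.1 i • s i) + ∑ i, t.2 i • r i, Prod.ext (funext fun j => by
      simp [Φ, uh_add_left, uh_smul_left, Fin.sum_univ_three, H.rr, H.sr h]
      fin_cases j <;> simp) (funext fun j => by
      simp [Φ, uh_add_left, uh_smul_left, Fin.sum_univ_three, H.ss, H.rs]
      fin_cases j <;> simp)⟩
  have hinj := (LinearMap.injective_iff_surjective_of_finrank_eq_finrank (f := Φ) (by simp)).2 hsurj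
  exact hinj (by
    rw [map_zero]
    exact Prod.ext (funext fun i => hr i) (funext fun i => hs i))

theorem Hyp.expand {r s : Fin 3 → V F} (H : Hyp σ r s) (h : UFrob σ 2) (v : V F) :
    v = (∑ i, uh σ v (s i) • r i) + ∑ i, uh σ v (r i) • s i := by
  refine sub_eq_zero.1 (H.eq_zero h (fun j => ?_) fun j => ?_)
  · simp [uh_sub_left, uh_add_left, uh_smul_left, Fin.sum_univ_three, H.rr, H.sr h]
    fin_cases j <;> simp
  · simp [uh_sub_left, uh_add_left, uh_smul_left, Fin.sum_univ_three, H.ss, H.rs]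
    fin_cases j <;> simp

variable (hF : Nat.card F = 2 ^ 2) (h : UFrob σ 2)

include hF h

/-- A partner of an isotropic vector orthogonal to a hyperbolic pair. -/
theorem exists_partner {p q r : V F} (hp : uh σ p p = 0) (hq : uh σ q q = 0) (hpq : uh σ p q ≠ 0)
    (hr : uh σ r r = 0) (hr0 : r ≠ 0) (hrp : uh σ r p = 0) (hrq : uh σ r q = 0) :
    ∃ x, uh σ x x = 0 ∧ uh σ x r = 1 ∧ uh σ x p = 0 ∧ uh σ x q = 0 := by
  obtain ⟨x, hx1, hx2, hx3⟩ := exists_dual_three h (u := r) (v := p) (w := q) fun a b e => by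
    have h1 := hrp
    have h2 := hrq
    rw [e, uh_add_left, uh_smul_left, uh_smul_left, hp, mul_zero, zero_add, mul_eq_zero,
      or_iff_left fun e => hpq (h.swap_zero e)] at h1
    rw [e, h1, zero_smul, add_zero, uh_smul_left, mul_eq_zero, or_iff_left hpq] at h2
    exact hr0 (by rw [e, h1, h2, zero_smul, zero_smul, add_zero])
  obtain ⟨c, hc⟩ := iso_shift hF h hr hx1
  refine ⟨_, hc, ?_, ?_, ?_⟩
  · rw [uh_add_left, uh_smul_left, hx1, hr, mul_zero, add_zero]
  · rw [uh_add_left, uh_smul_left, hx2, hrp, mul_zero, add_zero]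
  · rw [uh_add_left, uh_smul_left, hx3, hrq, mul_zero, add_zero]

/-- A frame through two non-orthogonal isotropic vectors. -/
theorem exists_hyp {p q : V F} (hp : uh σ p p = 0) (hq : uh σ q q = 0) (hpq : uh σ p q ≠ 0) :
    ∃ r s, Hyp σ r s ∧ r 0 = p ∧ s 0 = uh σ p q • q := by
  obtain ⟨r₁, h10, h11, h1p, h1q, -, -⟩ := exists_iso_in_kernel hF h p q 0 0
  obtain ⟨s₁, hs11, hs1r, hs1p, hs1q⟩ := exists_partner hF h hp hq hpq h11 h10 h1p h1q
  obtain ⟨r₂, h20, h22, h2p, h2q, h2r, h2s⟩ := exists_iso_in_kernel hF h p q r₁ s₁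
  obtain ⟨x, hxx, hxr, hxp, hxq⟩ := exists_partner hF h hp hq hpq h22 h20 h2p h2q
  have hr1s1 : uh σ r₁ s₁ = 1 := by rw [← h.symm, hs1r, map_one]
  set y := x + uh σ x s₁ • r₁ + uh σ x r₁ • s₁ with hy
  have hyr : uh σ y r₂ = 1 := by
    rw [hy, uh_add_left, uh_add_left, uh_smul_left, uh_smul_left, hxr, h.swap_zero h2r, h.swap_zero h2s]
    ring
  obtain ⟨c, hc⟩ := iso_shift hF h h22 hyr
  set s₂ := y + c • r₂ with hs₂
  have hyp : uh σ y p = 0 := by
    rw [hy, uh_add_left, uh_add_left, uh_smul_left, uh_smul_left, hxp, h1p, hs1p]; ring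
  have hyq : uh σ y q = 0 := by
    rw [hy, uh_add_left, uh_add_left, uh_smul_left, uh_smul_left, hxq, h1q, hs1q]; ring
  have hy1 : uh σ y r₁ = 0 := by
    rw [hy, uh_add_left, uh_add_left, uh_smul_left, uh_smul_left, h11, hs1r]
    linear_combination add_self hF (uh σ x r₁)
  have hy2 : uh σ y s₁ = 0 := by
    rw [hy, uh_add_left, uh_add_left, uh_smul_left, uh_smul_left, hs11, hr1s1]
    linear_combination add_self hF (uh σ x s₁)
  have hs2 : ∀ {v}, uh σ y v = 0 → uh σ r₂ v = 0 → uh σ s₂ v = 0 := fun {v} a b => by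
    rw [hs₂, uh_add_left, uh_smul_left, a, b, mul_zero, add_zero]
  have t1 : uh σ p (uh σ p q • q) = 1 := by
    rw [uh_smul_right, mul_comm]; exact norm_one hF h hpq
  have t2 : uh σ r₂ s₂ = 1 := by
    rw [← h.symm, hs₂, uh_add_left, uh_smul_left, hyr, h22, mul_zero, add_zero, map_one]
  refine ⟨![p, r₁, r₂], ![uh σ p q • q, s₁, s₂], ⟨?_, ?_, ?_⟩, rfl, rfl⟩
  · intro i j
    fin_cases i <;> fin_cases j <;>
      simp [hp, h11, h22, h1p, h2p, h2r, h.swap_zero h1p, h.swap_zero h2p, h.swap_zero h2r]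
  · have a1 := hs2 hy2 h2s
    have a2 := hs2 hyq h2q
    intro i j
    fin_cases i <;> fin_cases j <;>
      simp [uh_smul_left, uh_smul_right, hq, hs11, hs1q, h.swap_zero hs1q, hc, a1, a2, h.swap_zero a1,
        h.swap_zero a2, hs₂.symm]
  · intro i j
    fin_cases i <;> fin_cases j <;>
      simp [t1, t2, hr1s1, h1q, h2q, h2s, h.swap_zero hs1p, h.swap_zero (hs2 hyp h2p),
        h.swap_zero (hs2 hy1 h2r), uh_smul_right]

/-- A point outside the line of a hyperbolic pair is separated by a point orthogonal to the pair. -/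
theorem exists_witness {p q q' : V F} (hq : uh σ q q = 0) (hq' : uh σ q' q' = 0)
    (hqq : uh σ q q' ≠ 0) (hp : ∀ a b : F, p ≠ a • q + b • q') :
    ∃ r, r ≠ 0 ∧ uh σ r r = 0 ∧ uh σ r q = 0 ∧ uh σ r q' = 0 ∧ uh σ r p ≠ 0 := by
  obtain ⟨r, s, H, hr0, hs0⟩ := exists_hyp hF h hq hq' hqq
  have hperp : ∀ {v}, uh σ v q = 0 → uh σ v (uh σ q q' • q') = 0 → uh σ v q' = 0 := fun {v} _ b => by
    rw [uh_smul_right, mul_eq_zero, or_iff_right ((map_ne_zero σ).2 hqq)] at b
    exact b
  by_contra hno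
  push Not at hno
  have hside : ∀ i, i ≠ 0 → uh σ p (r i) = 0 ∧ uh σ p (s i) = 0 := by
    intro i hi
    have a1 : uh σ (r i) q = 0 := hr0 ▸ H.rr i 0
    have a2 : uh σ (r i) (s 0) = 0 := by rw [H.rs, if_neg hi]
    have b1 : uh σ (s i) q = 0 := hr0 ▸ (show uh σ (s i) (r 0) = 0 by rw [H.sr h, if_neg hi])
    have b2 : uh σ (s i) (s 0) = 0 := H.ss i 0
    rw [hs0] at a2 b2
    have n1 : r i ≠ 0 := fun e => by
      have := H.rs i i; rw [e, uh_zero_left, if_pos rfl] at this; exact zero_ne_one this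
    have n2 : s i ≠ 0 := fun e => by
      have := H.rs i i; rw [e, uh_zero_right, if_pos rfl] at this; exact zero_ne_one this
    exact ⟨h.swap_zero (hno _ n1 (H.rr i i) a1 (hperp a1 a2)),
      h.swap_zero (hno _ n2 (H.ss i i) b1 (hperp b1 b2))⟩
  refine hp (uh σ p (s 0)) (uh σ p (r 0) * uh σ q q') ?_
  conv_lhs => rw [H.expand h p]
  rw [Fin.sum_univ_three, Fin.sum_univ_three, (hside 1 (by decide)).1, (hside 1 (by decide)).2,
    (hside 2 (by decide)).1, (hside 2 (by decide)).2, hr0, hs0, smul_smul]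
  simp

/-- The isotropic points of the line of a hyperbolic pair. -/
theorem line_cases {p q q' : V F} (hp : uh σ p p = 0) (hq : uh σ q q = 0) (hpq : uh σ p q ≠ 0)
    (hq' : uh σ q' q' = 0) (hq'0 : q' ≠ 0) {a b : F} (he : q' = a • p + b • q) :
    pt hF h q' hq' = pt hF h p hp ∨ pt hF h q' hq' = pt hF h q hq ∨
      pt hF h q' hq' = pt hF h p hp * pt hF h q hq * pt hF h p hp := by
  rcases eq_or_ne b 0 with rfl | hb
  · left
    rw [zero_smul, add_zero] at he
    subst he
    have ha : a ≠ 0 := fun e => hq'0 (by rw [e, zero_smul])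
    rw [pt, pt, tr_smul hF h hp ha]
  rcases eq_or_ne a 0 with rfl | ha
  · right; left
    rw [zero_smul, zero_add] at he
    subst he
    rw [pt, pt, tr_smul hF h hq hb]
  right; right
  set t := tr hF h p hp
  have hw : t.1.1 *ᵥ q = q + uh σ q p • p := tr_mulVec hF h p hp q
  have hw0 : uh σ (q + uh σ q p • p) (q + uh σ q p • p) = 0 := by rw [← hw, su_uh h, hq]
  have hl : b⁻¹ * a = uh σ q p := by
    have hiso : uh σ (b⁻¹ • q') (b⁻¹ • q') = 0 := by rw [uh_smul_left, uh_smul_right, hq']; simp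
    rw [he, smul_add, smul_smul, smul_smul, inv_mul_cancel₀ hb, one_smul] at hiso
    rw [uh_add_left, uh_add_right, uh_add_right, uh_smul_left, uh_smul_left, uh_smul_right, uh_smul_right,
      hp, hq] at hiso
    set x := b⁻¹ * a * uh σ p q with hx
    have hfix : σ x = x := by
      have e1 : σ x = σ (b⁻¹ * a) * uh σ q p := by rw [hx, map_mul, h.symm]
      linear_combination e1 + hiso - add_self hF x
    rcases fixed_cases h hfix with e | e
    · exact absurd e (mul_ne_zero (mul_ne_zero (inv_ne_zero hb) ha) hpq)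
    · have hn := norm_one hF h hpq
      rw [h.symm] at hn
      linear_combination (uh σ q p) * e + (b⁻¹ * a) * (-hn)
  have hkey : q' = b • (q + uh σ q p • p) := by
    rw [he, ← hl, smul_add, smul_smul, ← mul_assoc, mul_inv_cancel₀ hb, one_mul, add_comm]
  have e1 : t * tr hF h q hq * t⁻¹ = tr hF h (q + uh σ q p • p) hw0 := conj_tr hF h t hq hw0 hw
  rw [inv_eq_of_mul_eq_one_right (tr_sq hF h p hp)] at e1
  rw [pt, pt, pt, ← QuotientGroup.mk_mul, ← QuotientGroup.mk_mul, e1]
  subst hkey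
  rw [tr_smul hF h hw0 hb]

/-- The six transvections at a hyperoval of a totally isotropic plane have product one. -/
theorem hexad_prod {a b c : V F} (ha : uh σ a a = 0) (hb : uh σ b b = 0) (hc : uh σ c c = 0)
    (hab : uh σ a b = 0) (hac : uh σ a c = 0) (hbc : uh σ b c = 0)
    {ω : F} (hω : 1 + ω + ω ^ 2 = 0) (hω3 : ω ^ 3 = 1) (hσω : σ ω = ω ^ 2)
    (h1 : uh σ (a + b + c) (a + b + c) = 0) (h2 : uh σ (a + ω • b + ω ^ 2 • c) (a + ω • b + ω ^ 2 • c) = 0)
    (h3 : uh σ (a + ω ^ 2 • b + ω • c) (a + ω ^ 2 • b + ω • c) = 0) :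
    pt hF h a ha * (pt hF h b hb * (pt hF h c hc * (pt hF h (a + b + c) h1 *
      (pt hF h (a + ω • b + ω ^ 2 • c) h2 * pt hF h (a + ω ^ 2 • b + ω • c) h3)))) = 1 := by
  have hT : tr hF h a ha * (tr hF h b hb * (tr hF h c hc * (tr hF h (a + b + c) h1 *
      (tr hF h (a + ω • b + ω ^ 2 • c) h2 * tr hF h (a + ω ^ 2 • b + ω • c) h3)))) = 1 := by
    refine su_ext fun x => ?_
    simp only [su_mul_mulVec, su_one_mulVec, tr_mulVec, uh_add_left, uh_smul_left, uh_add_right,
      uh_smul_right, ha, hb, hc, hab, hac, hbc, h.swap_zero hab, h.swap_zero hac, h.swap_zero hbc, hσω,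
      map_one, map_pow, mul_zero, add_zero, zero_add, one_mul]
    have hfr : ω ^ 4 = ω := by linear_combination ω * hω3
    ext i
    simp only [Pi.add_apply, Pi.smul_apply, smul_eq_mul]
    linear_combination (uh σ x a * a i + uh σ x b * b i + uh σ x c * c i) * (2 * two_zero hF) +
      (uh σ x b * b i + uh σ x c * c i) * (3 * hω3 + (ω ^ 3 - 1) * hω3) +
      (uh σ x b * a i + uh σ x a * b i + uh σ x c * a i + uh σ x a * c i) * hω +
      (uh σ x b * c i + uh σ x c * b i) * hω +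
      (uh σ x b * a i + uh σ x c * a i + uh σ x b * c i + uh σ x c * b i) * hfr +
      (uh σ x b * c i + uh σ x c * b i) * ((ω ^ 2) * hω3)
  show (QuotientGroup.mk _ : PSU 6 F 2) * _ = _
  exact (congrArg QuotientGroup.mk hT).trans (QuotientGroup.mk_one _)

end CfsgLib.KnownB.TypeM22
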