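import Cfsg.Agent.Lib.KnownB.TypeM22.Points
import Cfsg.Agent.Lib.ThreeTransp.FischerRankThree

/-!
The subgroup generated by the partners of a member of a group of type M(22) is quasisimple with centre
generated by the member, and the group is simple.
-/

set_option autoImplicit false

namespace CfsgLib.KnownB.TypeM22

open Cfsg CfsgLib.Classical.Unitary CfsgLib.ThreeTransp CfsgLib.ThreeTransp.USix CfsgLib.Involutions

open scoped commutatorElement

universe u

variable {F : Type} [Field F] {σ : F →+* F} {hF : Nat.card F = 2 ^ 2} {h : UFrob σ 2}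
  {G : Type u} [Group G] [Finite G] {D : Set G} {d : G}

/-- Every member has its point map. -/
def Maps (hF : Nat.card F = 2 ^ 2) (h : UFrob σ 2) (D : Set G) : Prop :=
  ∀ d ∈ D, ∃ f : Subgroup.closure (nb D d) →* PSU 6 F 2, PMap hF h D d f

theorem _root_.CfsgLib.ThreeTransp.nb_symm {x y : G} (hy : x ∈ D) (hx : y ∈ nb D x) : x ∈ nb D y :=
  ⟨hy, hx.2.1.symm, hx.2.2.symm⟩

omit [Finite G] in
theorem conj_eq_of_commute {x y : G} (hc : Commute x y) : x * y * x⁻¹ = y := by
  rw [hc.eq, mul_inv_cancel_right]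

omit [Finite G] in
theorem conj_commute_left {x y z : G} (hz : Commute x z) (h : Commute y z) : Commute (x * y * x⁻¹) z :=
  (hz.mul_left h).mul_left hz.inv_left

theorem both_mem (S : Setting D) {a c : G} (ha : a ∈ D) (hc : c ∈ D) (hn : ¬ Commute a c) :
    ∃ b, a ∈ nb D b ∧ c ∈ nb D b ∧ b ∈ nb D a ∧ b ∈ nb D c := by
  obtain ⟨b, hb, hab, hcb⟩ := S.cls.both_nonempty S.prim S.exists_pair ha hc hn
  have h1 : b ≠ a := fun e => hn (e ▸ hcb).symm
  have h2 : b ≠ c := fun e => hn (e ▸ hab)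
  exact ⟨b, ⟨ha, h1.symm, hab.symm⟩, ⟨hc, h2.symm, hcb.symm⟩, ⟨hb, h1, hab⟩, hb, h2, hcb⟩

/-- An element fixing a member and its partners moves the other members only within their pairs. -/
theorem fibre (S : Setting D) (hP : Maps hF h D) (hd : d ∈ D) {x : G} (hxd : Commute x d)
    (hx : ∀ y ∈ nb D d, Commute x y) {e : G} (he : e ∈ D) (hde : ¬ Commute d e) :
    x * e * x⁻¹ = e ∨ x * e * x⁻¹ = d * e * d := by
  have hW := S.weak
  obtain ⟨b, db, eb, bd, -⟩ := both_mem S hd he hde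
  obtain ⟨f, Pb⟩ := hP b bd.1
  have hxb := hx b bd
  have eb' : x * e * x⁻¹ ∈ nb D b := by
    have := hW.nb_conj x eb
    rwa [conj_eq_of_commute hxb] at this
  have dedb : d * e * d⁻¹ ∈ nb D b := by
    have := hW.nb_conj d eb
    rwa [conj_eq_of_commute db.2.2.symm] at this
  obtain ⟨p, hp, hp0, ep⟩ := Pb.pt db
  obtain ⟨q, hq, hq0, eq⟩ := Pb.pt eb
  obtain ⟨q', hq', hq'0, eq'⟩ := Pb.pt eb'
  have hpq : uh σ p q ≠ 0 := fun e' => hde ((Pb.comm_uh hW db eb ep eq).2 e')
  have hspan : ∃ a c : F, q' = a • p + c • q := by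
    by_contra hno
    push Not at hno
    obtain ⟨r, hr0, hr, hrp, hrq, hrq'⟩ := exists_witness hF h hp hq hpq hno
    obtain ⟨y, hy, ey⟩ := Pb.onto r hr hr0
    have hxy : Commute x y := by
      rcases eq_or_ne y d with rfl | hne
      · exact hxd
      · exact hx y ⟨hy.1, hne, ((Pb.comm_uh hW hy db ey ep).2 hrp).symm⟩
    exact hrq' ((Pb.comm_uh hW hy eb' ey eq').1
      (conj_commute_left hxy ((Pb.comm_uh hW hy eb ey eq).2 hrq).symm).symm)
  obtain ⟨a, c, hac⟩ := hspan
  have hne' : ¬ Commute d (x * e * x⁻¹) := fun e' => hde (by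
    have h1 := (commute_conj_iff x⁻¹).2 e'
    rwa [conj_eq_of_commute hxd.inv_left, show x⁻¹ * (x * e * x⁻¹) * x⁻¹⁻¹ = e by group] at h1)
  rcases line_cases hF h hp hq hpq hq' hq'0 hac with r | r | r
  · exact absurd (Pb.inj eb' db (eq'.trans (r.trans ep.symm)) ▸ Commute.refl d) hne'
  · exact Or.inl (Pb.inj eb' eb (eq'.trans (r.trans eq.symm)))
  · right
    rw [← ep, ← eq, ← map_mul, ← map_mul] at r
    have h1 : el db * el eb * el db = el dedb :=
      Subtype.ext (by show d * e * d = d * e * d⁻¹; rw [hW.inv hd])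
    rw [h1] at r
    rw [Pb.inj eb' dedb (eq'.trans r), hW.inv hd]

/-- The choices in the pairs agree. -/
theorem fibre_const (S : Setting D) (hP : Maps hF h D) (hd : d ∈ D) {x : G} (hxd : Commute x d)
    (hx : ∀ y ∈ nb D d, Commute x y) {e e' : G} (he : e ∈ D) (hde : ¬ Commute d e) (he' : e' ∈ D)
    (hde' : ¬ Commute d e') (hfix : x * e * x⁻¹ = e) : x * e' * x⁻¹ = e' := by
  have hW := S.weak
  have hcom : ∀ {e e'}, e ∈ D → ¬ Commute d e → e' ∈ D → ¬ Commute d e' → Commute e e' →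
      x * e * x⁻¹ = e → x * e' * x⁻¹ = e' := by
    intro e e' he hde he' hde' hc hfix
    rcases fibre S hP hd hxd hx he' hde' with r | r
    · exact r
    exfalso
    have h1 : Commute e (d * e' * d) := r ▸ (by
      have := (commute_conj_iff x).2 hc
      rwa [hfix] at this)
    have h2 : Commute e (e' * (d * e' * d) * e') := (hc.mul_right h1).mul_right hc
    rw [← hW.braid he' hd (fun e'' => hde' e''.symm), hW.conj_self he' d] at h2
    exact hde h2.symm
  by_cases hee : Commute e e'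
  · exact hcom he hde he' hde' hee hfix
  obtain ⟨c, ec, ec', ce, ce'⟩ := both_mem S he he' hee
  by_cases hdc : Commute d c
  swap
  · exact hcom ce.1 hdc he' hde' ec'.2.2 (hcom he hde ce.1 hdc ec.2.2.symm.symm.symm hfix)
  have hcd : c ≠ d := fun e'' => hde (e'' ▸ ec.2.2)
  have dc : d ∈ nb D c := ⟨hd, hcd.symm, hdc.symm⟩
  obtain ⟨f, Pc⟩ := hP c ce.1
  obtain ⟨p, hp, hp0, ep⟩ := Pc.pt dc
  obtain ⟨q, hq, hq0, eq⟩ := Pc.pt ec
  obtain ⟨q', hq', hq'0, eq'⟩ := Pc.pt ec'
  have hqq : uh σ q q' ≠ 0 := fun e'' => hee ((Pc.comm_uh hW ec ec' eq eq').2 e'')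
  by_cases hspan : ∃ a b : F, p = a • q + b • q'
  · obtain ⟨a, b, hab⟩ := hspan
    rcases line_cases hF h hq hq' hqq hp hp0 hab with r | r | r
    · exact absurd (Pc.inj dc ec (ep.trans (r.trans eq.symm)) ▸ Commute.refl e) hde
    · exact absurd (Pc.inj dc ec' (ep.trans (r.trans eq'.symm)) ▸ Commute.refl e') hde'
    · have eee : e * e' * e⁻¹ ∈ nb D c := by
        have := hW.nb_conj e ec'
        rwa [conj_eq_of_commute ec.2.2.symm] at this
      rw [← eq, ← eq', ← map_mul, ← map_mul] at r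
      have h1 : el ec * el ec' * el ec = el eee :=
        Subtype.ext (by show e * e' * e = e * e' * e⁻¹; rw [hW.inv he])
      rw [h1] at r
      have h2 : d = e * e' * e := by rw [Pc.inj dc eee (ep.trans r), hW.inv he]
      have h3 : e' = d * e * d := by
        rw [hW.braid hd he hde, h2, hW.conj_self he e']
      rw [h3, show x * (d * e * d) * x⁻¹ = (x * d * x⁻¹) * (x * e * x⁻¹) * (x * d * x⁻¹) by group,
        conj_eq_of_commute hxd, hfix]
  · push Not at hspan
    obtain ⟨r, hr0, hr, hrq, hrq', hrp⟩ := exists_witness hF h hq hq' hqq hspan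
    obtain ⟨y, hy, ey⟩ := Pc.onto r hr hr0
    have hdy : ¬ Commute d y := fun e'' => hrp ((Pc.comm_uh hW hy dc ey ep).1 e''.symm)
    exact hcom hy.1 hdy he' hde' ((Pc.comm_uh hW hy ec' ey eq').2 hrq')
      (hcom he hde hy.1 hdy ((Pc.comm_uh hW hy ec ey eq).2 hrq).symm hfix)

/-- Only the member and the identity centralise it and all its partners. -/
theorem eq_one_or (S : Setting D) (hP : Maps hF h D) (hd : d ∈ D) {x : G} (hxd : Commute x d)
    (hx : ∀ y ∈ nb D d, Commute x y) : x = 1 ∨ x = d := by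
  have hW := S.weak
  obtain ⟨e, he, hn⟩ := S.cls.exists_noncommute hd
  have hde : ¬ Commute d e := fun e' => hn e'.symm
  have key : ∀ {x}, Commute x d → (∀ y ∈ nb D d, Commute x y) → x * e * x⁻¹ = e → x = 1 := by
    intro x hxd hx hfix
    have h1 : x ∈ Subgroup.center G := hW.mem_center fun y hy => by
      by_cases hdy : Commute d y
      · rcases eq_or_ne y d with rfl | hne
        · exact hxd
        · exact hx y ⟨hy, hne, hdy⟩
      · exact mul_inv_eq_iff_eq_mul.1 (fibre_const S hP hd hxd hx he hde hy hdy hfix)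
    rwa [S.center, Subgroup.mem_bot] at h1
  rcases fibre S hP hd hxd hx he hde with r | r
  · exact Or.inl (key hxd hx r)
  · right
    have h2 : d * x = 1 := key ((Commute.refl d).mul_left hxd) (fun y hy => hy.2.2.mul_left (hx y hy)) (by
      rw [show d * x * e * (d * x)⁻¹ = d * (x * e * x⁻¹) * d⁻¹ by group, r, hW.inv hd, hW.conj_self hd e])
    rw [← hW.inv hd]
    exact eq_inv_of_mul_eq_one_right h2

variable {f : Subgroup.closure (nb D d) →* PSU 6 F 2}

theorem PMap.center_cases (P : PMap hF h D d f) (S : Setting D) (hP : Maps hF h D) (hd : d ∈ D)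
    {z : Subgroup.closure (nb D d)} (hz : f z = 1) : (z : G) = 1 ∨ (z : G) = d :=
  eq_one_or S hP hd (commute_closure_nb z.2) fun _ hy =>
    (congrArg Subtype.val (Subgroup.mem_center_iff.1 ((P.ker z).1 hz) (el hy))).symm

/-- The vector with given coordinates in a plane. -/
def cvec (r : Fin 3 → V F) (c : Fin 3 → F) : V F := c 0 • r 0 + c 1 • r 1 + c 2 • r 2

omit [Finite G] in
theorem cvec_uh {r : Fin 3 → V F} (hr : ∀ i j, uh σ (r i) (r j) = 0) (c c' : Fin 3 → F) :
    uh σ (cvec r c) (cvec r c') = 0 := by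
  simp [cvec, uh_add_left, uh_add_right, uh_smul_left, uh_smul_right, hr]

omit [Finite G] in
theorem cvec_coord {r s : Fin 3 → V F} (H : Hyp σ r s) (c : Fin 3 → F) (i : Fin 3) :
    uh σ (cvec r c) (s i) = c i := by
  simp [cvec, uh_add_left, uh_smul_left, H.rs]
  fin_cases i <;> simp

omit [Finite G] in
theorem cvec_smul (r : Fin 3 → V F) (a : F) (c : Fin 3 → F) : a • cvec r c = cvec r (a • c) := by
  simp [cvec, smul_add, smul_smul]

/-- Distinct points of a plane lift to distinct commuting members. -/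
theorem PMap.lift_plane (P : PMap hF h D d f) (S : Setting D) {r s : Fin 3 → V F} (H : Hyp σ r s) {n : ℕ}
    (c : Fin n → Fin 3 → F) (h0 : ∀ i, c i ≠ 0) (hne : ∀ i j (a : F), c i = a • c j → i = j) :
    ∃ (y : Fin n → G) (hy : ∀ i, y i ∈ nb D d), Function.Injective y ∧ (∀ i j, Commute (y i) (y j)) ∧
      ∀ i, f (el (hy i)) = USix.pt hF h (cvec r (c i)) (cvec_uh H.rr _ _) := by
  have h0' : ∀ i, cvec r (c i) ≠ 0 := fun i e => h0 i (funext fun k => by
    rw [← cvec_coord H (c i) k, e, uh_zero_left]; rfl)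
  choose y hy ey using fun i => P.onto (cvec r (c i)) (cvec_uh H.rr _ _) (h0' i)
  refine ⟨y, hy, fun i j e => ?_, fun i j => (P.comm_uh S.weak (hy i) (hy j) (ey i) (ey j)).2 (cvec_uh H.rr _ _), ey⟩
  have e2 : el (hy i) = el (hy j) := Subtype.ext e
  obtain ⟨a, ha⟩ := pt_eq_iff hF h (cvec_uh H.rr _ _) (cvec_uh H.rr _ _) (h0' i)
    ((ey i).symm.trans ((congrArg f e2).trans (ey j)))
  refine hne i j a (funext fun k => ?_)
  rw [← cvec_coord H (c i) k, ha, cvec_smul, cvec_coord H]

/-- coordinates of the points of a line -/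
def lineC (ω : F) : Fin 5 → Fin 3 → F :=
  ![![1, 0, 0], ![0, 1, 0], ![1, 1, 0], ![1, ω, 0], ![1, ω ^ 2, 0]]

/-- coordinates of a hyperoval -/
def hexC (ω θ : F) : Fin 6 → Fin 3 → F :=
  ![![1, 0, 0], ![0, 1, 0], ![0, 0, 1], ![1, 1, θ], ![1, ω, ω ^ 2 * θ], ![1, ω ^ 2, ω * θ]]

omit [Finite G] in
theorem omega_ne {ω : F} (hF : Nat.card F = 2 ^ 2) (hω : 1 + ω + ω ^ 2 = 0) :
    ω ≠ 0 ∧ ω ≠ 1 ∧ ω ^ 2 ≠ 1 ∧ ω ≠ ω ^ 2 := by
  have h0 : ω ≠ 0 := fun e => by simp [e] at hω
  have h1 : ω ≠ 1 := fun e => by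
    rw [e] at hω; exact one_ne_zero (by linear_combination hω - two_zero hF : (1 : F) = 0)
  refine ⟨h0, h1, fun e => h0 (by linear_combination hω - e - two_zero hF), fun e => ?_⟩
  exact one_ne_zero (by linear_combination hω + e - ω * two_zero hF : (1 : F) = 0)

omit [Finite G] in
theorem hexC_inj {ω θ : F} (hn0 : ω ≠ 0) (hn1 : ω ≠ 1) (hn2 : ω ^ 2 ≠ 1) (hn3 : ω ≠ ω ^ 2) (hθ : θ ≠ 0)
    (i j : Fin 6) (a : F) (e : hexC ω θ i = a • hexC ω θ j) : i = j := by
  have e0 := congrFun e 0; have e1 := congrFun e 1; have e2 := congrFun e 2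
  clear e
  fin_cases i <;> fin_cases j <;> simp [hexC] at e0 e1 e2 ⊢ <;>
    first
    | (rw [← e0] at e1; simp only [one_mul] at e1; first | exact hn1 e1 | exact hn1 e1.symm | exact hn2 e1 | exact hn2 e1.symm | exact hn3 e1 | exact hn3 e1.symm | exact hn0 e1)
    | exact zero_ne_one (e0.trans e1.symm)
    | exact zero_ne_one (e1.trans e0.symm)
    | (rw [← e0, zero_mul] at e1; exact one_ne_zero e1)
    | (rw [← e0, zero_mul] at e2; exact one_ne_zero e2)
    | (rw [← e1, zero_mul] at e2; exact one_ne_zero e2)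
    | simp_all

omit [Finite G] in
theorem lineC_inj {ω : F} (hn0 : ω ≠ 0) (hn1 : ω ≠ 1) (hn2 : ω ^ 2 ≠ 1) (hn3 : ω ≠ ω ^ 2)
    (i j : Fin 5) (a : F) (e : lineC ω i = a • lineC ω j) : i = j := by
  have e0 := congrFun e 0; have e1 := congrFun e 1
  clear e
  fin_cases i <;> fin_cases j <;> simp [lineC] at e0 e1 ⊢ <;>
    first
    | (rw [← e0] at e1; simp only [one_mul] at e1; first | exact hn1 e1 | exact hn1 e1.symm | exact hn2 e1 | exact hn2 e1.symm | exact hn3 e1 | exact hn3 e1.symm | exact hn0 e1)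
    | exact zero_ne_one (e0.trans e1.symm)
    | exact zero_ne_one (e1.trans e0.symm)
    | (rw [← e0, zero_mul] at e1; exact one_ne_zero e1)
    | simp_all

omit [Finite G] in
theorem hexC_new {ω : F} (hn1 : ω ≠ 1) (hn2 : ω ^ 2 ≠ 1) (i : Fin 6) (a : F)
    (hk : ∀ k, hexC ω ω 3 k = a * hexC ω (1 : F) i k) : False := by
  have k0 := hk 0; have k1 := hk 1; have k2 := hk 2
  clear hk
  fin_cases i <;> simp [hexC] at k0 k1 k2 <;> (try rw [← k0] at k1) <;> (try rw [← k0] at k2) <;> simp at k1 k2 <;>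
    first
    | exact hn1 k2
    | exact hn1 k1.symm
    | exact hn2 k1.symm

/-- Six members over a hyperoval with product in the centre. -/
theorem PMap.hexad (P : PMap hF h D d f) (S : Setting D) {r s : Fin 3 → V F} (H : Hyp σ r s) {ω θ : F}
    (hω : 1 + ω + ω ^ 2 = 0) (hω3 : ω ^ 3 = 1) (hσω : σ ω = ω ^ 2) (hθ : θ ≠ 0) :
    ∃ (y : Fin 6 → G) (hy : ∀ i, y i ∈ nb D d), Function.Injective y ∧ (∀ i j, Commute (y i) (y j)) ∧
      (∀ i, f (el (hy i)) = USix.pt hF h (cvec r (hexC ω θ i)) (cvec_uh H.rr _ _)) ∧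
      f (el (hy 0) * (el (hy 1) * (el (hy 2) * (el (hy 3) * (el (hy 4) * el (hy 5)))))) = 1 := by
  obtain ⟨hn0, hn1, hn2, hn3⟩ := omega_ne hF hω
  obtain ⟨y, hy, hinj, hc, ey⟩ := P.lift_plane S H (hexC ω θ) (fun i e => by
      have e0 := congrFun e 0; have e1 := congrFun e 1; have e2 := congrFun e 2
      fin_cases i <;> simp_all [hexC])
    (hexC_inj hn0 hn1 hn2 hn3 hθ)
  refine ⟨y, hy, hinj, hc, ey, ?_⟩
  simp only [map_mul, ey]
  have hc0 : uh σ (θ • r 2) (θ • r 2) = 0 := by rw [uh_smul_left, uh_smul_right, H.rr]; simp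
  have horth : ∀ i, uh σ (r i) (θ • r 2) = 0 := fun i => by rw [uh_smul_right, H.rr, mul_zero]
  have hiso : ∀ a b c : F, uh σ (a • r 0 + b • r 1 + c • (θ • r 2)) (a • r 0 + b • r 1 + c • (θ • r 2)) = 0 :=
    fun a b c => by
      simp [uh_add_left, uh_add_right, uh_smul_left, uh_smul_right, H.rr]
  have h0 : cvec r (hexC ω θ 0) = r 0 := by simp [cvec, hexC]
  have h1 : cvec r (hexC ω θ 1) = r 1 := by simp [cvec, hexC]
  have h2 : cvec r (hexC ω θ 2) = r 2 := by simp [cvec, hexC]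
  have h3 : cvec r (hexC ω θ 3) = r 0 + r 1 + θ • r 2 := by simp [cvec, hexC]
  have h4 : cvec r (hexC ω θ 4) = r 0 + ω • r 1 + ω ^ 2 • (θ • r 2) := by simp [cvec, hexC, smul_smul]
  have h5 : cvec r (hexC ω θ 5) = r 0 + ω ^ 2 • r 1 + ω • (θ • r 2) := by simp [cvec, hexC, smul_smul]
  rw [USix.pt_congr hF h h0 _ (H.rr 0 0), pt_congr hF h h1 _ (H.rr 1 1), pt_congr hF h h2 _ (H.rr 2 2),
    pt_congr hF h h3 _ (by simpa using hiso 1 1 1), pt_congr hF h h4 _ (by simpa using hiso 1 ω (ω ^ 2)),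
    pt_congr hF h h5 _ (by simpa using hiso 1 (ω ^ 2) ω),
    show USix.pt hF h (r 2) (H.rr 2 2) = USix.pt hF h (θ • r 2) hc0 by rw [USix.pt, USix.pt, tr_smul hF h (H.rr 2 2) hθ]]
  exact hexad_prod hF h (H.rr 0 0) (H.rr 1 1) hc0 (H.rr 0 1) (horth 0) (horth 1) hω hω3 hσω _ _ _

/-- A frame exists. -/
theorem exists_frame (hF : Nat.card F = 2 ^ 2) (h : UFrob σ 2) : ∃ r s : Fin 3 → V F, Hyp σ r s := by
  obtain ⟨p, hp0, hp, -⟩ := exists_iso_in_kernel hF h (0 : V F) 0 0 0
  obtain ⟨x, hx⟩ := exists_uh_eq_one h hp0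
  obtain ⟨c, hc⟩ := iso_shift hF h hp hx
  obtain ⟨r, s, H, -⟩ := exists_hyp hF h hc hp (by
    rw [uh_add_left, uh_smul_left, hx, hp, mul_zero, add_zero]; exact one_ne_zero)
  exact ⟨r, s, H⟩

/-- Five members over a line and the member have product one. -/
theorem PMap.line_five (P : PMap hF h D d f) (S : Setting D) (hP : Maps hF h D) (hd : d ∈ D)
    {r s : Fin 3 → V F} (H : Hyp σ r s) {ω : F} (hω : 1 + ω + ω ^ 2 = 0) (hω3 : ω ^ 3 = 1) (hσω : σ ω = ω ^ 2) :
    ∃ (y : Fin 5 → G) (hy : ∀ i, y i ∈ nb D d), Function.Injective y ∧ (∀ i j, Commute (y i) (y j)) ∧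
      (∀ i, f (el (hy i)) = USix.pt hF h (cvec r (lineC ω i)) (cvec_uh H.rr _ _)) ∧
      ((el (hy 0) * (el (hy 1) * (el (hy 2) * (el (hy 3) * el (hy 4)))) : Subgroup.closure (nb D d)) : G) = d := by
  obtain ⟨hn0, hn1, hn2, hn3⟩ := omega_ne hF hω
  obtain ⟨y, hy, hinj, hc, ey⟩ := P.lift_plane S H (lineC ω) (fun i e => by
      have e0 := congrFun e 0; have e1 := congrFun e 1
      fin_cases i <;> simp_all [lineC])
    (lineC_inj hn0 hn1 hn2 hn3)
  have h1 : f (el (hy 0) * (el (hy 1) * (el (hy 2) * (el (hy 3) * el (hy 4))))) = 1 := by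
    simp only [map_mul, ey]
    have hiso : ∀ a : F, uh σ (r 0 + a • r 1) (r 0 + a • r 1) = 0 := fun a => by
      simp [uh_add_left, uh_add_right, uh_smul_left, uh_smul_right, H.rr]
    rw [pt_congr hF h (show cvec r (lineC ω 0) = r 0 by simp [cvec, lineC]) _ (H.rr 0 0),
      pt_congr hF h (show cvec r (lineC ω 1) = r 1 by simp [cvec, lineC]) _ (H.rr 1 1),
      pt_congr hF h (show cvec r (lineC ω 2) = r 0 + (1 : F) • r 1 by simp [cvec, lineC]) _ (hiso 1),
      pt_congr hF h (show cvec r (lineC ω 3) = r 0 + ω • r 1 by simp [cvec, lineC]) _ (hiso ω),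
      pt_congr hF h (show cvec r (lineC ω 4) = r 0 + ω ^ 2 • r 1 by simp [cvec, lineC]) _ (hiso (ω ^ 2))]
    exact line_prod hF h (H.rr 0 0) (H.rr 1 1) (H.rr 0 1) hω hω3 hσω (hiso 1) (hiso ω) (hiso (ω ^ 2))
  refine ⟨y, hy, hinj, hc, ey, (P.center_cases S hP hd h1).resolve_left fun r1 => ?_⟩
  obtain ⟨d₁, hd₁, h2⟩ := special_of_points S.typ
  refine S.weak.five_impossible S.center h2 (l := List.ofFn y) ?_ ?_ (List.nodup_ofFn.2 hinj) ?_
    (List.length_ofFn) ?_
  · intro a ha; obtain ⟨i, rfl⟩ := List.mem_ofFn.1 ha; exact (hy i).1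
  · intro a ha; obtain ⟨i, rfl⟩ := List.mem_ofFn.1 ha; exact S.cls.trans _ (hy i).1 _ hd₁
  · intro a ha b hb
    obtain ⟨i, rfl⟩ := List.mem_ofFn.1 ha
    obtain ⟨j, rfl⟩ := List.mem_ofFn.1 hb
    exact hc i j
  · simpa [List.ofFn_succ, el] using r1

/-- The member lies in the subgroup generated by its partners. -/
theorem PMap.self_mem (P : PMap hF h D d f) (S : Setting D) (hP : Maps hF h D) (hd : d ∈ D) :
    d ∈ Subgroup.closure (nb D d) := by
  haveI : Finite F := Nat.finite_of_card_ne_zero (by rw [hF]; norm_num)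
  obtain ⟨r, s, H⟩ := exists_frame hF h
  obtain ⟨ω, hω, hω3, hσω⟩ := exists_omega hF h rfl
  obtain ⟨y, hy, -, -, -, he⟩ := P.line_five S hP hd H hω hω3 hσω
  exact Eq.subst (motive := fun g => g ∈ Subgroup.closure (nb D d)) he (SetLike.coe_mem _)

/-- The centre of the subgroup generated by the partners. -/
theorem PMap.center_eq (P : PMap hF h D d f) (S : Setting D) (hP : Maps hF h D) (hd : d ∈ D) :
    Subgroup.center (Subgroup.closure (nb D d)) = (Subgroup.zpowers d).subgroupOf (Subgroup.closure (nb D d)) := by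
  refine le_antisymm (fun z hz => ?_) fun z hz => ?_
  · rw [Subgroup.mem_subgroupOf]
    rcases P.center_cases S hP hd ((P.ker z).2 hz) with r | r <;> rw [r]
    · exact one_mem _
    · exact Subgroup.mem_zpowers d
  · rw [Subgroup.mem_subgroupOf, Subgroup.mem_zpowers_iff] at hz
    obtain ⟨k, hk⟩ := hz
    exact Subgroup.mem_center_iff.2 fun w => Subtype.ext (by
      rw [Subgroup.coe_mul, Subgroup.coe_mul, ← hk]
      exact ((commute_closure_nb w.2).zpow_right k).eq)

theorem psu_perfect (hF : Nat.card F = 2 ^ 2) : commutator (PSU 6 F 2) = ⊤ := by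
  haveI : Finite F := Nat.finite_of_card_ne_zero (by rw [hF]; norm_num)
  haveI := Fintype.ofFinite F
  obtain ⟨hs, hna, -⟩ := psu_six_simple (F := F) (by rw [← Nat.card_eq_fintype_card, hF]; norm_num)
  rcases hs.eq_bot_or_eq_top_of_normal (commutator (PSU 6 F 2)) inferInstance with r | r
  · exfalso
    refine hna ⟨⟨fun a b => commutatorElement_eq_one_iff_mul_comm.1 ?_⟩⟩
    have h1 : ⁅a, b⁆ ∈ commutator (PSU 6 F 2) :=
      Subgroup.commutator_mem_commutator (Subgroup.mem_top a) (Subgroup.mem_top b)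
    rwa [r, Subgroup.mem_bot] at h1
  · exact r

/-- The subgroup generated by the partners is perfect. -/
theorem PMap.perfect (P : PMap hF h D d f) (S : Setting D) (hP : Maps hF h D) (hd : d ∈ D) :
    commutator (Subgroup.closure (nb D d)) = ⊤ := by
  classical
  haveI : Finite F := Nat.finite_of_card_ne_zero (by rw [hF]; norm_num)
  have hW := S.weak
  obtain ⟨δ, hδ⟩ : ∃ δ : Subgroup.closure (nb D d), (δ : G) = d := ⟨⟨d, P.self_mem S hP hd⟩, rfl⟩
  have hdd : δ * δ = 1 := Subtype.ext (by rw [Subgroup.coe_mul, hδ]; exact hW.sq d hd)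
  have hsplit : ∀ x, x ∈ commutator (Subgroup.closure (nb D d)) ∨ x * δ ∈ commutator (Subgroup.closure (nb D d)) := by
    intro x
    obtain ⟨k, hk, hke⟩ : f x ∈ (commutator (Subgroup.closure (nb D d))).map f := by
      rw [commutator_def, Subgroup.map_commutator, Subgroup.map_top_of_surjective _ P.surj, ← commutator_def,
        psu_perfect hF]
      trivial
    rcases P.center_cases S hP hd (z := k⁻¹ * x) (by rw [map_mul, map_inv, hke, inv_mul_cancel]) with r | r
    · left
      rw [← inv_mul_eq_one.1 (Subtype.ext r : k⁻¹ * x = 1)]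
      exact hk
    · right
      have h1 : k⁻¹ * x = δ := Subtype.ext (r.trans hδ.symm)
      rw [show x = k * δ by rw [← h1, mul_inv_cancel_left], mul_assoc, hdd, mul_one]
      exact hk
  by_cases hdc : δ ∈ commutator (Subgroup.closure (nb D d))
  · refine eq_top_iff.2 fun x _ => ?_
    rcases hsplit x with r | r
    · exact r
    · simpa [mul_assoc, hdd] using mul_mem r hdc
  exfalso
  have hout : ∀ {y} (hy : y ∈ nb D d), el hy ∉ commutator (Subgroup.closure (nb D d)) := fun {y} hy hmem => by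
    refine hdc ?_
    have hall : (Subgroup.closure (inClosure (nb D d))) ≤ commutator (Subgroup.closure (nb D d)) :=
      (Subgroup.closure_le _).2 fun z hz => by
        obtain ⟨k, hk, hke⟩ := S.cls.orb_nb S.prim hd hy hz
        have h1 : (⟨k, hk⟩ : Subgroup.closure (nb D d)) * el hy * (⟨k, hk⟩ : Subgroup.closure (nb D d))⁻¹ = z :=
          Subtype.ext hke
        exact h1 ▸ (inferInstance : (commutator (Subgroup.closure (nb D d))).Normal).conj_mem _ hmem _
    rw [(hW.sub d).gen] at hall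
    exact hall (Subgroup.mem_top δ)
  have hdcen : ∀ x : Subgroup.closure (nb D d), δ * x = x * δ := fun x => Subtype.ext (by
    rw [Subgroup.coe_mul, Subgroup.coe_mul, hδ]
    exact (commute_closure_nb x.2).symm)
  have heven : ∀ {y z} (hy : y ∈ nb D d) (hz : z ∈ nb D d), el hy * el hz ∈ commutator (Subgroup.closure (nb D d)) :=
    fun hy hz => by
      have h1 := mul_mem ((hsplit _).resolve_left (hout hy)) ((hsplit _).resolve_left (hout hz))
      rwa [show el hy * δ * (el hz * δ) = el hy * (δ * el hz) * δ by group, hdcen,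
        show el hy * (el hz * δ) * δ = el hy * el hz * (δ * δ) by group, hdd, mul_one] at h1
  obtain ⟨r, s, H⟩ := exists_frame hF h
  obtain ⟨ω, hω, hω3, hσω⟩ := exists_omega hF h rfl
  obtain ⟨hn0, hn1, hn2, hn3⟩ := omega_ne hF hω
  have hsix : ∀ θ : F, θ ≠ 0 → ∃ (y : Fin 6 → G) (hy : ∀ i, y i ∈ nb D d),
      (∀ i, f (el (hy i)) = USix.pt hF h (cvec r (hexC ω θ i)) (cvec_uh H.rr _ _)) ∧
      IsTriple D (y 0 * (y 1 * y 2)) [y 0, y 1, y 2] ∧ IsTriple D (y 0 * (y 1 * y 2)) [y 3, y 4, y 5] ∧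
      Function.Injective y := by
    intro θ hθ
    obtain ⟨y, hy, hinj, hc, ey, h1⟩ := P.hexad S H hω hω3 hσω hθ
    have hz : el (hy 0) * (el (hy 1) * (el (hy 2) * (el (hy 3) * (el (hy 4) * el (hy 5))))) ∈
        commutator (Subgroup.closure (nb D d)) := by
      have := mul_mem (heven (hy 0) (hy 1)) (mul_mem (heven (hy 2) (hy 3)) (heven (hy 4) (hy 5)))
      simpa only [mul_assoc] using this
    have hone : y 0 * (y 1 * (y 2 * (y 3 * (y 4 * y 5)))) = 1 :=
      (P.center_cases S hP hd h1).resolve_right fun e => hdc (by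
        rwa [show δ = _ from Subtype.ext (hδ.trans e.symm)])
    have hsq : y 3 * (y 4 * y 5) * (y 3 * (y 4 * y 5)) = 1 := by
      rw [← pow_two, ((hc 3 4).mul_right (hc 3 5)).mul_pow, (hc 4 5).mul_pow, pow_two, pow_two, pow_two,
        hW.sq _ (hy 3).1, hW.sq _ (hy 4).1, hW.sq _ (hy 5).1, one_mul, one_mul]
    refine ⟨y, hy, ey, ⟨?_, rfl, by simp [(hy _).1], by simp [hc], by simp⟩,
      ⟨?_, rfl, by simp [(hy _).1], by simp [hc], ?_⟩, hinj⟩
    · simp [hinj.eq_iff]
    · simp [hinj.eq_iff]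
    · simp only [List.prod_cons, List.prod_nil, mul_one]
      refine (mul_right_cancel (b := y 3 * (y 4 * y 5)) ?_).symm
      rw [hsq]
      simpa only [mul_assoc] using hone
  obtain ⟨y, hy, ey, t1, t2, hinj⟩ := hsix 1 one_ne_zero
  obtain ⟨y', hy', ey', t1', t3, hinj'⟩ := hsix ω hn0
  have hsame : ∀ (i : Fin 6), hexC ω ω i = hexC ω (1 : F) i → y' i = y i := fun i e =>
    P.inj (hy' i) (hy i) ((ey' i).trans ((pt_congr hF h (congrArg (cvec r) e) _ _).trans (ey i).symm))
  have e0 := hsame 0 (by simp [hexC]); have e1 := hsame 1 (by simp [hexC]); have e2 := hsame 2 (by simp [hexC])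
  rw [e0, e1, e2] at t3
  obtain ⟨d₁, hd₁, h2⟩ := special_of_points S.typ
  obtain ⟨l₁, l₂, -, -, -, hall⟩ := S.cls.two_triples_points S.prim hd₁ h2 S.typ t1
  have hneq : ∀ {i : Fin 6} {l : List G}, y i ∈ l → (∀ x, x ∈ l ↔ x ∈ [y 0, y 1, y 2]) → (i : ℕ) ≤ 2 := by
    intro i l hi hl
    have := (hl _).1 hi
    simp only [List.mem_cons, List.not_mem_nil, or_false, hinj.eq_iff] at this
    rcases this with rfl | rfl | rfl <;> simp
  have hnew : ∀ i : Fin 6, y' 3 ≠ y i := fun i e => by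
    have e2 : el (hy' 3) = el (hy i) := Subtype.ext e
    have h3 := (ey' 3).symm.trans ((congrArg f e2).trans (ey i))
    obtain ⟨a, ha⟩ := pt_eq_iff hF h _ _ (fun e' => by
      have := cvec_coord H (hexC ω ω 3) 0
      rw [e', uh_zero_left] at this
      simp [hexC] at this) h3
    have hk : ∀ k, hexC ω ω 3 k = a * hexC ω (1 : F) i k := fun k => by
      rw [← cvec_coord H (hexC ω ω 3) k, ha, uh_smul_left, cvec_coord H]
    exact hexC_new hn1 hn2 i a hk
  rcases hall _ t1 with a | a <;> rcases hall _ t2 with b | b <;> rcases hall _ t3 with c | c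
  all_goals first
    | exact absurd (hneq (i := 3) (l := [y 3, y 4, y 5]) (by simp) (fun x => (b x).trans (a x).symm)) (by decide)
    | (have h4 := ((a (y' 3)).trans (c (y' 3)).symm).2 (by simp)
       simp only [List.mem_cons, List.not_mem_nil, or_false] at h4
       rcases h4 with e | e | e <;> exact hnew _ e)
    | (have h4 := ((b (y' 3)).trans (c (y' 3)).symm).2 (by simp)
       simp only [List.mem_cons, List.not_mem_nil, or_false] at h4
       rcases h4 with e | e | e <;> exact hnew _ e)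

/-- The subgroup generated by the partners is quasisimple. -/
theorem PMap.quasisimple (P : PMap hF h D d f) (S : Setting D) (hP : Maps hF h D) (hd : d ∈ D) :
    IsQuasisimple (Subgroup.closure (nb D d)) := by
  haveI : Finite F := Nat.finite_of_card_ne_zero (by rw [hF]; norm_num)
  haveI := Fintype.ofFinite F
  obtain ⟨hs, -, -⟩ := psu_six_simple (F := F) (by rw [← Nat.card_eq_fintype_card, hF]; norm_num)
  have hker : f.ker = Subgroup.center (Subgroup.closure (nb D d)) := Subgroup.ext fun x => P.ker x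
  exact ⟨Group.isPerfect_def.2 (P.perfect S hP hd), isSimpleGroup_of_equiv
    ((QuotientGroup.quotientMulEquivOfEq hker.symm).trans
      (QuotientGroup.quotientKerEquivOfSurjective f P.surj)) hs⟩

/-- A group of type M(22) is simple. -/
theorem Setting.simple (S : Setting D) (hP : Maps hF h D) : IsSimpleGroup G := by
  have hs : IsSimpleGroup (commutator G) :=
    (S.cls.simple_iff_primitive S.center S.exists_pair).1.2 S.prim
  have hD : D ⊆ (commutator G : Set G) := fun d hd => by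
    obtain ⟨f, P⟩ := hP d hd
    have h1 : (⟨d, P.self_mem S hP hd⟩ : Subgroup.closure (nb D d)) ∈ commutator (Subgroup.closure (nb D d)) :=
      (P.perfect S hP hd).symm ▸ Subgroup.mem_top _
    have h2 : (commutator (Subgroup.closure (nb D d))).map (Subgroup.closure (nb D d)).subtype ≤ commutator G := by
      rw [commutator_def, Subgroup.map_commutator, commutator_def]
      exact Subgroup.commutator_mono le_top le_top
    exact h2 ⟨_, h1, rfl⟩
  have htop : commutator G = ⊤ := top_le_iff.1 (S.cls.gen ▸ (Subgroup.closure_le _).2 hD)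
  exact isSimpleGroup_of_equiv ((MulEquiv.subgroupCongr htop).trans Subgroup.topEquiv).symm hs

end CfsgLib.KnownB.TypeM22
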