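import Cfsg.Agent.Lib.KnownB.TypeM22.Action

/-!
A frame marked by the second triple with the product of the members at three of its points, and the
reduction of an element centralising the member to one fixing the frame.
-/

set_option autoImplicit false

namespace CfsgLib.KnownB.TypeM22

open Cfsg CfsgLib.Classical.Unitary CfsgLib.ThreeTransp CfsgLib.ThreeTransp.USix CfsgLib.Involutions
open CfsgLib.Spor (QField)

universe u

variable {F : Type} [Field F] {σ : F →+* F} {hF : Nat.card F = 2 ^ 2} {h : UFrob σ 2}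
  {G : Type u} [Group G] [Finite G] {D : Set G} {d : G} {f : Subgroup.closure (nb D d) →* PSU 6 F 2}

open scoped _root_.Classical in
omit [Finite G] in
/-- No three members of a six with product one are separated from a fourth by a member. -/
theorem no_three (hW : WeakTS D) {l : List G} (hl : ∀ a ∈ l, a ∈ D) (hnd : l.Nodup)
    (hc : ∀ a ∈ l, ∀ b ∈ l, Commute a b) (hlen : l.length = 6) (hprod : l.prod = 1) {x : G} (hx : x ∈ D)
    {z₁ z₂ z₃ w : G} (h12 : z₁ ≠ z₂) (h13 : z₁ ≠ z₃) (h23 : z₂ ≠ z₃) (m1 : z₁ ∈ l) (m2 : z₂ ∈ l)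
    (m3 : z₃ ∈ l) (c1 : Commute x z₁) (c2 : Commute x z₂) (c3 : Commute x z₃) (hw : w ∈ l)
    (hwx : ¬ Commute x w) : False := by
  set m := l.filter fun a => decide (¬ Commute x a)
  have h3 : m.length + 3 ≤ l.length := by
    have hsub : [z₁, z₂, z₃].length ≤ (l.filter fun a => !decide (¬ Commute x a)).length :=
      List.Subperm.length_le (List.subperm_of_subset (by simp [h12, h13, h23]) fun a ha => by
        simp only [List.mem_cons, List.not_mem_nil, or_false] at ha
        rcases ha with rfl | rfl | rfl <;> simp [List.mem_filter, m1, m2, m3, c1, c2, c3])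
    have : l.length = m.length + (l.filter fun a => !decide (¬ Commute x a)).length := by
      convert List.length_eq_length_filter_add (l := l) fun a => decide (¬ Commute x a)
    simp only [List.length_cons, List.length_nil] at hsub
    omega
  rcases hW.count_moved hx hl hnd hc (hprod ▸ Commute.one_right x) with r | ⟨-, r⟩ | r
  · exact hwx (r w hw)
  · have h4 : m.length = 4 := by convert r
    omega
  · have h6 : 6 ≤ m.length := by convert r
    omega

omit [Finite G] in
theorem vq_code {e : QField ≃+* F} {r s : Fin 3 → V F} (k : Fin 6) :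
    vq e r s (Pi.single k 1) = ![r 0, r 1, r 2, s 0, s 1, s 2] k := by
  fin_cases k <;> simp [vq, lin, apply_ite]

/-- A frame with the three marked members. -/
structure Marked (hF : Nat.card F = 2 ^ 2) (h : UFrob σ 2) (f : Subgroup.closure (nb D d) →* PSU 6 F 2)
    (e : QField ≃+* F) (r s : Fin 3 → V F) : Prop where
  hyp : Hyp σ r s
  mark : ∀ g : G, Commute g d → (∀ y i, IsPt hF h f y (r i) → g * y * g⁻¹ = y) →
    ∀ y, (∃ c ∈ ([21, 57, 45] : List ℕ), IsPt hF h f y (vq e r s (qvec c))) →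
      ∃ c ∈ ([21, 57, 45] : List ℕ), IsPt hF h f (g * y * g⁻¹) (vq e r s (qvec c))

theorem qfield_coord : ∀ p q : QField, p ≠ 0 → q ≠ 0 → p ≠ 1 → q ≠ 1 → p ≠ q →
    (p = ⟨2⟩ ∧ q = ⟨3⟩) ∨ (p = ⟨3⟩ ∧ q = ⟨2⟩) := by decide

/-- Coordinates in a plane. -/
theorem plane_coord {r s : Fin 3 → V F} (H : Hyp σ r s) {v : V F} (hv : ∀ i, uh σ v (r i) = 0)
    (hh : UFrob σ 2) : v = uh σ v (s 0) • r 0 + uh σ v (s 1) • r 1 + uh σ v (s 2) • r 2 := by
  conv_lhs => rw [H.expand hh v]
  simp [Fin.sum_univ_three, hv]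

theorem exists_marked (P : PMap hF h D d f) (S : Setting D) (hd : d ∈ D) (e : QField ≃+* F) :
    ∃ r s, Marked hF h f e r s := by
  classical
  haveI : Finite F := Nat.finite_of_card_ne_zero (by rw [hF]; norm_num)
  have hW := S.weak
  obtain ⟨r, s, H⟩ := exists_frame hF h
  have hr0 : ∀ i, r i ≠ 0 := fun i e0 => by
    have := H.rs i i; rw [e0, uh_zero_left, if_pos rfl] at this; exact zero_ne_one this
  have hs0 : ∀ i, s i ≠ 0 := fun i e0 => by
    have := H.rs i i; rw [e0, uh_zero_right, if_pos rfl] at this; exact zero_ne_one this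
  choose y hy using fun i => exists_isPt P (H.rr i i) (hr0 i)
  choose z hz using fun i => exists_isPt P (H.ss i i) (hs0 i)
  have hyne : ∀ i j, i ≠ j → y i ≠ y j := fun i j hij e0 => by
    obtain ⟨a, ha⟩ := (hy i).eq_smul (e0 ▸ hy j) (hr0 i)
    have := congrArg (fun v => uh σ v (s i)) ha
    simp [uh_smul_left, H.rs, Ne.symm hij] at this
  have hycomm : ∀ i j, Commute (y i) (y j) := fun i j => ((hy i).comm P hW (hy j)).2 (H.rr i j)
  have t1 : IsTriple D (y 0 * (y 1 * y 2)) [y 0, y 1, y 2] :=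
    ⟨by simp [hyne], rfl, by simp [(hy _).mem.1], by simp [hycomm], by simp⟩
  obtain ⟨d₁, hd₁, h2⟩ := special_of_points S.typ
  obtain ⟨l₁, l₂, k1, k2, kne, hall⟩ := S.cls.two_triples_points S.prim hd₁ h2 S.typ t1
  obtain ⟨l, tl, hne, honly⟩ : ∃ l, IsTriple D (y 0 * (y 1 * y 2)) l ∧
      ¬ (∀ x, x ∈ l ↔ x ∈ [y 0, y 1, y 2]) ∧
      ∀ l', IsTriple D (y 0 * (y 1 * y 2)) l' → (∀ x, x ∈ l' ↔ x ∈ [y 0, y 1, y 2]) ∨ ∀ x, x ∈ l' ↔ x ∈ l := by
    rcases hall _ t1 with a | a
    · exact ⟨l₂, k2, fun e0 => kne fun x => (a x).symm.trans (e0 x).symm, fun l' hl' => (hall l' hl').imp_left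
        fun b x => (b x).trans (a x).symm⟩
    · exact ⟨l₁, k1, fun e0 => kne fun x => (e0 x).trans (a x), fun l' hl' => (hall l' hl').symm.imp_left
        fun b x => (b x).trans (a x).symm⟩
  obtain ⟨hln, hlen, hlD, hlc, hlp⟩ := tl
  have hdisj : ∀ x ∈ l, ∀ i, x ≠ y i := fun x hx i e0 =>
    hne fun w => S.cls.triple_shared S.pCore_two ⟨hln, hlen, hlD, hlc, hlp⟩ t1 hx (by fin_cases i <;> simp [e0]) w
  have hjl : ∀ x ∈ D, Commute x (y 0) → Commute x (y 1) → Commute x (y 2) → ∀ a ∈ l, Commute x a :=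
    fun x hx a b c => hW.commute_all_of_short hx hlD hln hlc (by rw [hlp]; exact a.mul_right (b.mul_right c)) hlen.le
  have hdl : ∀ a ∈ l, Commute d a := hjl d hd (hy 0).mem.2.2 (hy 1).mem.2.2 (hy 2).mem.2.2
  have hyl : ∀ i, ∀ a ∈ l, Commute (y i) a := fun i => hjl (y i) (hy i).mem.1 (hycomm i 0) (hycomm i 1) (hycomm i 2)
  -- the six
  have six : ∀ {x : G}, x ∈ D → ∀ {z₁ z₂ z₃ w : G}, z₁ ≠ z₂ → z₁ ≠ z₃ → z₂ ≠ z₃ →
      z₁ ∈ [y 0, y 1, y 2] ++ l → z₂ ∈ [y 0, y 1, y 2] ++ l → z₃ ∈ [y 0, y 1, y 2] ++ l →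
      Commute x z₁ → Commute x z₂ → Commute x z₃ → w ∈ [y 0, y 1, y 2] ++ l → ¬ Commute x w → False :=
    fun {x} hx {z₁ z₂ z₃ w} a b c m1 m2 m3 c1 c2 c3 mw => no_three hW (l := [y 0, y 1, y 2] ++ l)
      (fun q hq => (List.mem_append.1 hq).elim (fun hq => t1.2.2.1 q hq) (hlD q))
      (List.nodup_append.2 ⟨t1.1, hln, fun q hq q' hq' e0 => by
        simp only [List.mem_cons, List.not_mem_nil, or_false] at hq
        rcases hq with rfl | rfl | rfl <;> exact hdisj _ hq' _ e0.symm⟩)
      (fun q hq q' hq' => by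
        simp only [List.mem_append, List.mem_cons, List.not_mem_nil, or_false] at hq hq'
        rcases hq with (rfl | rfl | rfl) | hq <;> rcases hq' with (rfl | rfl | rfl) | hq' <;>
          first
          | exact hycomm _ _
          | exact hyl _ _ hq'
          | exact (hyl _ _ hq).symm
          | exact hlc _ hq _ hq')
      (by simp [hlen]) (by
        rw [List.prod_append, hlp]
        simp only [List.prod_cons, List.prod_nil, mul_one]
        rw [← pow_two, ((hycomm 0 1).mul_right (hycomm 0 2)).mul_pow, (hycomm 1 2).mul_pow, pow_two, pow_two,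
          pow_two, hW.sq _ (hy 0).mem.1, hW.sq _ (hy 1).mem.1, hW.sq _ (hy 2).mem.1, one_mul, one_mul])
      hx a b c m1 m2 m3 c1 c2 c3 mw
  have hnb : ∀ a ∈ l, a ∈ nb D d := fun a ha => ⟨hlD a ha, fun e0 => six (hz 2).mem.1 (hyne 0 1 (by decide))
    (hdisj a ha 0).symm (hdisj a ha 1).symm (by simp) (by simp) (by simp [ha])
    (((hz 2).comm P hW (hy 0)).2 (by rw [H.sr h]; simp)) (((hz 2).comm P hW (hy 1)).2 (by rw [H.sr h]; simp))
    (e0 ▸ (hz 2).mem.2.2.symm) (w := y 2) (by simp)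
    (fun e1 => by
      have := ((hz 2).comm P hW (hy 2)).1 e1
      rw [H.sr h, if_pos rfl] at this
      exact one_ne_zero this), hdl a ha⟩
  -- coordinates of the triple
  have hcoord : ∀ a ∈ l, ∃ v : V F, v ≠ 0 ∧ IsPt hF h f a v ∧ (∀ i, uh σ v (r i) = 0) ∧ ∀ i, uh σ v (s i) ≠ 0 := by
    intro a ha
    obtain ⟨v, hv0, hv⟩ := exists_vec P (hnb a ha)
    refine ⟨v, hv0, hv, fun i => (hv.comm P hW (hy i)).1 (hyl i a ha).symm, fun i e0 => ?_⟩
    have hs : Commute (z i) a := (((hv.comm P hW (hz i))).2 e0).symm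
    have hsy : ∀ j, j ≠ i → Commute (z i) (y j) := fun j hj => ((hz i).comm P hW (hy j)).2 (by
      rw [H.sr h, if_neg (Ne.symm hj)])
    have hmv : ¬ Commute (z i) (y i) := fun e1 => by
      have := ((hz i).comm P hW (hy i)).1 e1
      rw [H.sr h, if_pos rfl] at this
      exact one_ne_zero this
    fin_cases i
    · exact six (hz 0).mem.1 (hyne 1 2 (by decide)) (hdisj a ha 1).symm (hdisj a ha 2).symm (by simp) (by simp)
        (by simp [ha]) (hsy 1 (by decide)) (hsy 2 (by decide)) hs (w := y 0) (by simp) hmv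
    · exact six (hz 1).mem.1 (hyne 0 2 (by decide)) (hdisj a ha 0).symm (hdisj a ha 2).symm (by simp) (by simp)
        (by simp [ha]) (hsy 0 (by decide)) (hsy 2 (by decide)) hs (w := y 1) (by simp) hmv
    · exact six (hz 2).mem.1 (hyne 0 1 (by decide)) (hdisj a ha 0).symm (hdisj a ha 1).symm (by simp) (by simp)
        (by simp [ha]) (hsy 0 (by decide)) (hsy 1 (by decide)) hs (w := y 2) (by simp) hmv
  match l, hlen, hln with
  | [a, b, c], _, hln =>
    obtain ⟨va, -, pa, var, vas⟩ := hcoord a (by simp)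
    -- the scaled frame
    have H' := H.scale hF h vas
    have eva : va = (uh σ va (s 0)) • r 0 + (uh σ va (s 1)) • r 1 + (uh σ va (s 2)) • r 2 := plane_coord H var h
    set r' : Fin 3 → V F := fun i => uh σ va (s i) • r i with hr'
    set s' : Fin 3 → V F := fun i => uh σ va (s i) • s i with hs'
    have q21 : qvec 21 = ![1, 1, 1, 0, 0, 0] := by decide
    have q57 : qvec 57 = ![1, ⟨2⟩, ⟨3⟩, 0, 0, 0] := by decide
    have q45 : qvec 45 = ![1, ⟨3⟩, ⟨2⟩, 0, 0, 0] := by decide
    have pa' : IsPt hF h f a (vq e r' s' (qvec 21)) := pa.congr (by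
      rw [q21]; simpa [vq, lin, hr', hs'] using eva)
    have hw' : ∀ x ∈ [b, c], ∃ p q : QField, p ≠ 0 ∧ q ≠ 0 ∧ p ≠ 1 ∧ q ≠ 1 ∧ p ≠ q ∧
        IsPt hF h f x (vq e r' s' ![1, p, q, 0, 0, 0]) := by
      intro x hx
      have hxl : x ∈ [a, b, c] := List.mem_cons_of_mem _ hx
      have hxa : x ≠ a := fun e0 => (List.nodup_cons.1 hln).1 (e0 ▸ hx)
      obtain ⟨v, hv0, pv, vr, vs⟩ := hcoord x hxl
      have vr' : ∀ i, uh σ v (r' i) = 0 := fun i => by simp [hr', uh_smul_right, vr]
      have vs' : ∀ i, uh σ v (s' i) ≠ 0 := fun i => by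
        simp only [hs', uh_smul_right]
        exact mul_ne_zero ((map_ne_zero σ).2 (vas i)) (vs i)
      obtain ⟨κ, hκ⟩ : ∃ κ, κ = (uh σ v (s' 0))⁻¹ := ⟨_, rfl⟩
      have hκ0 : κ ≠ 0 := hκ ▸ inv_ne_zero (vs' 0)
      obtain ⟨p, hp⟩ := e.surjective (κ * uh σ v (s' 1))
      obtain ⟨q, hq⟩ := e.surjective (κ * uh σ v (s' 2))
      have pv' : IsPt hF h f x (vq e r' s' ![1, p, q, 0, 0, 0]) := (pv.smul hκ0).congr (by
        conv_lhs => rw [plane_coord H' vr' h]
        simp [vq, lin, smul_add, smul_smul, hp, hq, hκ, inv_mul_cancel₀ (vs' 0)])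
      have hp0 : p ≠ 0 := fun e0 => mul_ne_zero hκ0 (vs' 1) (by rw [← hp, e0, map_zero])
      have hq0 : q ≠ 0 := fun e0 => mul_ne_zero hκ0 (vs' 2) (by rw [← hq, e0, map_zero])
      have hne : ∀ (i j k : Fin 3), i ≠ j → k ≠ i → k ≠ j →
          (![(1 : QField), p, q] i = ![(1 : QField), p, q] j) → False := by
        intro i j k hij hki hkj e0
        have hxiso : uh σ (s' i + s' j) (s' i + s' j) = 0 := by
          simp [uh_add_left, uh_add_right, H'.ss]
        have hn0 : s' i + s' j ≠ 0 := fun e1 => by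
          have := congrArg (fun u => uh σ u (r' i)) e1
          simp [uh_add_left, H'.sr h, Ne.symm hij, uh_zero_left] at this
        obtain ⟨w, hw⟩ := exists_isPt P hxiso hn0
        have cy : ∀ m, uh σ (s' i + s' j) (r' m) = 0 → Commute w (y m) := fun m hm =>
          (hw.comm P hW ((hy m).smul (vas m))).2 hm
        have ny : ¬ Commute w (y i) := fun e1 => by
          have := (hw.comm P hW ((hy i).smul (vas i))).1 e1
          change uh σ (s' i + s' j) (r' i) = 0 at this
          simp [uh_add_left, H'.sr h, Ne.symm hij] at this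
        have ca : Commute w a := (hw.comm P hW pa').2 (by
          rw [q21]
          simp [vq, lin, uh_add_left, uh_add_right, uh_smul_right, H'.sr h]
          fin_cases i <;> fin_cases j <;> simp at hij ⊢ <;> exact add_self hF _)
        have cx : Commute w x := (hw.comm P hW pv').2 (by
          simp [vq, lin, uh_add_left, uh_add_right, uh_smul_right, H'.sr h]
          fin_cases i <;> fin_cases j <;> simp at hij e0 ⊢ <;> first | exact add_self hF _ | simp [e0, add_self hF] | simp [← e0, add_self hF])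
        exact six hw.mem.1 (hdisj a (by simp) k).symm (hdisj x hxl k).symm hxa.symm
          (by fin_cases k <;> simp) (by simp) (by simp [hxl])
          (cy k (by simp [uh_add_left, H'.sr h, Ne.symm hki, Ne.symm hkj])) ca cx
          (w := y i) (by fin_cases i <;> simp) ny
      exact ⟨p, q, hp0, hq0, fun e0 => hne 1 0 2 (by decide) (by decide) (by decide) (by simpa using e0),
        fun e0 => hne 2 0 1 (by decide) (by decide) (by decide) (by simpa using e0),
        fun e0 => hne 1 2 0 (by decide) (by decide) (by decide) (by simpa using e0), pv'⟩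
    have hmem : ∀ x ∈ [a, b, c], ∃ k ∈ ([21, 57, 45] : List ℕ), IsPt hF h f x (vq e r' s' (qvec k)) := by
      intro x hx
      rcases List.mem_cons.1 hx with rfl | hx
      · exact ⟨21, by simp, pa'⟩
      obtain ⟨p, q, hp0, hq0, hp1, hq1, hpq, pv⟩ := hw' x hx
      rcases qfield_coord p q hp0 hq0 hp1 hq1 hpq with ⟨rfl, rfl⟩ | ⟨rfl, rfl⟩
      · exact ⟨57, by simp, q57 ▸ pv⟩
      · exact ⟨45, by simp, q45 ▸ pv⟩
    have hbc : b ≠ c := fun e0 => by simp [e0] at hln
    have hback : ∀ k ∈ ([21, 57, 45] : List ℕ), ∀ x, IsPt hF h f x (vq e r' s' (qvec k)) → x ∈ [a, b, c] := by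
      intro k hk x hx
      simp only [List.mem_cons, List.not_mem_nil, or_false] at hk
      obtain ⟨kb, hkb, pb⟩ := hmem b (by simp)
      obtain ⟨kc, hkc, pc⟩ := hmem c (by simp)
      simp only [List.mem_cons, List.not_mem_nil, or_false] at hkb hkc
      have h21 : ∀ {q : G}, q ∈ [b, c] → ∀ m, IsPt hF h f q (vq e r' s' (qvec m)) → m ≠ 21 := fun {q} hq m pq e0 =>
        (List.nodup_cons.1 hln).1 ((IsPt.unique P pa' (e0 ▸ pq)) ▸ hq)
      have hb21 := h21 (by simp) _ pb
      have hc21 := h21 (by simp) _ pc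
      have hbc' : kb ≠ kc := fun e0 => hbc (IsPt.unique P pb (e0 ▸ pc))
      have : k = 21 ∨ k = kb ∨ k = kc := by omega
      rcases this with rfl | rfl | rfl
      · simp [IsPt.unique P hx pa']
      · simp [IsPt.unique P hx pb]
      · simp [IsPt.unique P hx pc]
    refine ⟨r', s', H', fun g hgd hfix x hxm => ?_⟩
    obtain ⟨k, hk, hxk⟩ := hxm
    have hgy : ∀ i, g * y i * g⁻¹ = y i := fun i => hfix (y i) i ((hy i).smul (vas i))
    let φ : G ≃* G := MulAut.conj g
    have hφ : IsTriple D (y 0 * (y 1 * y 2)) ([a, b, c].map φ) := by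
      have h1 : IsTriple D (φ (y 0 * (y 1 * y 2))) ([a, b, c].map φ) :=
        IsTriple.map ⟨hln, rfl, hlD, hlc, hlp⟩ φ fun x hx => S.cls.conj g x hx
      rwa [map_mul, map_mul, show φ (y 0) = y 0 from hgy 0, show φ (y 1) = y 1 from hgy 1,
        show φ (y 2) = y 2 from hgy 2] at h1
    rcases honly _ hφ with r1 | r1
    · exfalso
      have h2 := (r1 (φ a)).1 (by simp)
      simp only [List.mem_cons, List.not_mem_nil, or_false] at h2
      rcases h2 with e0 | e0 | e0 <;>
        exact hdisj a (by simp) _ (φ.injective (e0.trans (hgy _).symm))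
    · exact hmem _ ((r1 _).1 (List.mem_map.2 ⟨x, hback k hk x hxk, rfl⟩))

/-- Up to the subgroup generated by the partners, an element centralising the member fixes a marked frame
and its first mark. -/
theorem reduce (P : PMap hF h D d f) (S : Setting D) {e : QField ≃+* F} {r s : Fin 3 → V F}
    (M : Marked hF h f e r s) {g : G} (hg : Commute g d) :
    ∃ k ∈ Subgroup.closure (nb D d), Commute (k * g) d ∧
      (∀ y i, IsPt hF h f y (r i) → (k * g) * y * (k * g)⁻¹ = y) ∧
      (∀ y i, IsPt hF h f y (s i) → (k * g) * y * (k * g)⁻¹ = y) ∧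
      ∀ y, IsPt hF h f y (vq e r s (qvec 21)) → (k * g) * y * (k * g)⁻¹ = y := by
  haveI : Finite F := Nat.finite_of_card_ne_zero (by rw [hF]; norm_num)
  have hW := S.weak
  have H := M.hyp
  have hr0 : ∀ i, r i ≠ 0 := fun i e0 => by
    have := H.rs i i; rw [e0, uh_zero_left, if_pos rfl] at this; exact zero_ne_one this
  have hs0 : ∀ i, s i ≠ 0 := fun i e0 => by
    have := H.rs i i; rw [e0, uh_zero_right, if_pos rfl] at this; exact zero_ne_one this
  choose y hy using fun i => exists_isPt P (H.rr i i) (hr0 i)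
  choose z hz using fun i => exists_isPt P (H.ss i i) (hs0 i)
  choose p hp0 hp using fun i => exists_vec P (conj_nb hW hg (hy i).mem)
  choose q hq0 hq using fun i => exists_vec P (conj_nb hW hg (hz i).mem)
  have hiff : ∀ {a b : G} {v w v' w' : V F}, IsPt hF h f a v → IsPt hF h f b w →
      IsPt hF h f (g * a * g⁻¹) v' → IsPt hF h f (g * b * g⁻¹) w' → (uh σ v' w' = 0 ↔ uh σ v w = 0) :=
    fun pa pb pa' pb' => ((pa'.comm P hW pb').symm.trans (commute_conj_iff g)).trans (pa.comm P hW pb)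
  have hpp : ∀ i j, uh σ (p i) (p j) = 0 := fun i j => (hiff (hy i) (hy j) (hp i) (hp j)).2 (H.rr i j)
  have hqq : ∀ i j, uh σ (q i) (q j) = 0 := fun i j => (hiff (hz i) (hz j) (hq i) (hq j)).2 (H.ss i j)
  have hpq : ∀ i j, uh σ (p i) (q j) = 0 ↔ i ≠ j := fun i j => (hiff (hy i) (hz j) (hp i) (hq j)).trans (by
    rw [H.rs]; split_ifs with e0 <;> simp [e0])
  have hpi : ∀ i, uh σ (p i) (q i) ≠ 0 := fun i e0 => (hpq i i).1 e0 rfl
  have H' : Hyp σ p fun i => uh σ (p i) (q i) • q i := by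
    refine ⟨hpp, fun i j => by simp [uh_smul_left, uh_smul_right, hqq], fun i j => ?_⟩
    rw [uh_smul_right]
    split_ifs with e0
    · subst e0; rw [mul_comm]; exact norm_one hF h (hpi i)
    · rw [(hpq i j).2 e0, mul_zero]
  -- adjust the determinant
  obtain ⟨δ, hδ⟩ : ∃ δ, δ = (colsMat r s).det * ((colsMat p fun i => uh σ (p i) (q i) • q i).det)⁻¹ := ⟨_, rfl⟩
  have hδ0 : δ ≠ 0 := hδ ▸ mul_ne_zero (H.det_ne h) (inv_ne_zero (H'.det_ne h))
  have hδ3 : δ ^ 3 = 1 := by
    have := norm_one hF h hδ0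
    rw [h.pow] at this
    linear_combination this
  obtain ⟨c, hc⟩ : ∃ c : Fin 3 → F, c = ![1, 1, δ ^ 2] := ⟨_, rfl⟩
  have hc0 : ∀ i, c i ≠ 0 := fun i => by subst hc; fin_cases i <;> simp [hδ0]
  have hdet : (colsMat (fun i => c i • p i) fun i => c i • (uh σ (p i) (q i) • q i)).det = (colsMat r s).det := by
    rw [det_scale c, show (c 0 * c 1 * c 2) ^ 2 = δ by
      subst hc; simp; linear_combination δ * hδ3, hδ, inv_mul_cancel_right₀ (H'.det_ne h)]
  obtain ⟨k, hk, hka⟩ := exists_elem P hW (H'.scale hF h hc0) H hdet.symm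
  have hkd : Commute k d := commute_closure_nb hk
  have hkg : Commute (k * g) d := hkd.mul_left hg
  have hconj : ∀ {a : G}, k * (g * a * g⁻¹) * k⁻¹ = (k * g) * a * (k * g)⁻¹ := fun {a} => by group
  have f1 : ∀ i, (k * g) * y i * (k * g)⁻¹ = y i := fun i => by
    have h1 : IsPt hF h f (g * y i * g⁻¹) (lin (fun i => c i • p i) (fun i => c i • (uh σ (p i) (q i) • q i))
        (fun t => if t.val = i.val then 1 else 0)) :=
      ((hp i).smul (hc0 i)).congr (by fin_cases i <;> simp [lin])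
    have h2 := hka _ _ h1
    rw [hconj] at h2
    exact IsPt.unique P (h2.congr (by fin_cases i <;> simp [lin])) (hy i)
  have f2 : ∀ i, (k * g) * z i * (k * g)⁻¹ = z i := fun i => by
    have h1 : IsPt hF h f (g * z i * g⁻¹) (lin (fun i => c i • p i) (fun i => c i • (uh σ (p i) (q i) • q i))
        (fun t => if t.val = i.val + 3 then 1 else 0)) :=
      (((hq i).smul (hpi i)).smul (hc0 i)).congr (by fin_cases i <;> simp [lin])
    have h2 := hka _ _ h1
    rw [hconj] at h2
    exact IsPt.unique P (h2.congr (by fin_cases i <;> simp [lin])) (hz i)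
  have hfr : ∀ y' i, IsPt hF h f y' (r i) → (k * g) * y' * (k * g)⁻¹ = y' := fun y' i h1 => by
    rw [IsPt.unique P h1 (hy i), f1]
  have q21 : qvec 21 = ![1, 1, 1, 0, 0, 0] := by decide
  have h21 : uh σ (vq e r s (qvec 21)) (vq e r s (qvec 21)) = 0 := by
    rw [H.vq_uh h, show bform qsig (qvec 21) (qvec 21) = 0 by decide, map_zero]
  obtain ⟨u, hu⟩ := exists_isPt P h21 fun e0 => by
    have := congrArg (fun v => uh σ v (s 0)) e0
    simp [q21, vq, lin, uh_add_left, uh_smul_left, H.rs, H.ss, uh_zero_left] at this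
  obtain ⟨m, hm, hum⟩ := M.mark (k * g) hkg hfr u ⟨21, by simp, hu⟩
  -- move the mark back
  have hm' : ∃ τ : Fin 3 → QField, (∀ i, τ i ≠ 0) ∧ (τ 0 * τ 1 * τ 2) ^ 2 = 1 ∧
      qvec m = ![τ 0, τ 1, τ 2, 0, 0, 0] := by
    simp only [List.mem_cons, List.not_mem_nil, or_false] at hm
    rcases hm with rfl | rfl | rfl
    · exact ⟨![1, 1, 1], by decide, by decide, by decide⟩
    · exact ⟨![1, ⟨2⟩, ⟨3⟩], by decide, by decide, by decide⟩
    · exact ⟨![1, ⟨3⟩, ⟨2⟩], by decide, by decide, by decide⟩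
  obtain ⟨τ, hτ0, hτd, hmv⟩ := hm'
  have hτF : ∀ i, e (τ i) ≠ 0 := fun i => (map_ne_zero_iff _ e.injective).2 (hτ0 i)
  obtain ⟨k', hk', hka'⟩ := exists_elem P hW (H.scale hF h hτF) H (by
    rw [det_scale, ← map_mul, ← map_mul, ← map_pow, hτd, map_one, one_mul])
  refine ⟨k' * k, mul_mem hk' hk, ?_, ?_, ?_, ?_⟩
  · rw [mul_assoc]; exact (commute_closure_nb hk').mul_left hkg
  · intro y' i h1
    rw [show k' * k * g * y' * (k' * k * g)⁻¹ = k' * (k * g * y' * (k * g)⁻¹) * k'⁻¹ by group, hfr y' i h1]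
    have h2 : IsPt hF h f y' (lin (fun i => e (τ i) • r i) (fun i => e (τ i) • s i)
        (fun t => if t.val = i.val then 1 else 0)) :=
      ((h1.smul (hτF i))).congr (by fin_cases i <;> simp [lin])
    exact IsPt.unique P ((hka' _ _ h2).congr (by fin_cases i <;> simp [lin])) h1
  · intro y' i h1
    have h3 : k * g * y' * (k * g)⁻¹ = y' := by rw [IsPt.unique P h1 (hz i), f2]
    rw [show k' * k * g * y' * (k' * k * g)⁻¹ = k' * (k * g * y' * (k * g)⁻¹) * k'⁻¹ by group, h3]
    have h2 : IsPt hF h f y' (lin (fun i => e (τ i) • r i) (fun i => e (τ i) • s i)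
        (fun t => if t.val = i.val + 3 then 1 else 0)) :=
      ((h1.smul (hτF i))).congr (by fin_cases i <;> simp [lin])
    exact IsPt.unique P ((hka' _ _ h2).congr (by fin_cases i <;> simp [lin])) h1
  · intro y' h1
    rw [show k' * k * g * y' * (k' * k * g)⁻¹ = k' * (k * g * y' * (k * g)⁻¹) * k'⁻¹ by group,
      IsPt.unique P h1 hu]
    have h2 : IsPt hF h f (k * g * u * (k * g)⁻¹) (lin (fun i => e (τ i) • r i) (fun i => e (τ i) • s i)
        (fun t => if t.val < 3 then 1 else 0)) :=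
      hum.congr (by simp [hmv, vq, lin])
    exact IsPt.unique P ((hka' _ _ h2).congr (by simp [q21, vq, lin])) hu

end CfsgLib.KnownB.TypeM22
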